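import Cfsg.Agent.Lib.Transfer.TransferFixed

/-!
# Counting the conjugates of an involution in a subgroup of a group without subgroups of index two
-/

set_option autoImplicit false
set_option linter.unusedSectionVars false
set_option linter.style.haveILetI false

namespace CfsgLib.TwoSymSix

variable {G : Type*} [Group G] [Finite G]

/-- The number of conjugates of `t` in a set. -/
noncomputable def cnt (t : G) (S : Set G) : ℕ := Nat.card {y : G // y ∈ S ∧ IsConj t y}

/-- Elements conjugating `t` into a set, counted by their values. -/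
theorem card_conj_into (t : G) (S : Set G) :
    Nat.card {g : G // g⁻¹ * t * g ∈ S} = Nat.card (Subgroup.centralizer ({t} : Set G)) * cnt t S := by
  classical
  let p : {g : G // g⁻¹ * t * g ∈ S} → {y : G // y ∈ S ∧ IsConj t y} := fun g =>
    ⟨g.1⁻¹ * t * g.1, g.2, isConj_iff.2 ⟨g.1⁻¹, by rw [inv_inv]⟩⟩
  haveI := Fintype.ofFinite {y : G // y ∈ S ∧ IsConj t y}
  rw [← Nat.card_congr (Equiv.sigmaFiberEquiv p), Nat.card_sigma, cnt,
    Nat.card_eq_fintype_card (α := {y : G // y ∈ S ∧ IsConj t y})]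
  rw [Finset.sum_congr rfl (g := fun _ => Nat.card (Subgroup.centralizer ({t} : Set G))) fun v _ => ?_,
    Finset.sum_const, Finset.card_univ, smul_eq_mul, mul_comm]
  obtain ⟨k, hk⟩ := isConj_iff.1 v.2.2
  refine Nat.card_congr ⟨fun g => ⟨g.1.1 * k, ?_⟩, fun c => ⟨⟨(c : G) * k⁻¹, ?_⟩, ?_⟩,
    fun g => ?_, fun c => ?_⟩
  · have hg : g.1.1⁻¹ * t * g.1.1 = v.1 := congrArg Subtype.val g.2
    rw [← hk] at hg
    rw [Subgroup.mem_centralizer_singleton_iff]
    calc g.1.1 * k * t = g.1.1 * (k * t * k⁻¹) * k := by group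
      _ = g.1.1 * (g.1.1⁻¹ * t * g.1.1) * k := by rw [hg]
      _ = t * (g.1.1 * k) := by group
  · have hc := Subgroup.mem_centralizer_singleton_iff.1 c.2
    have e : ((c : G) * k⁻¹)⁻¹ * t * ((c : G) * k⁻¹) = v.1 := by
      rw [← hk]
      calc ((c : G) * k⁻¹)⁻¹ * t * ((c : G) * k⁻¹) = k * ((c : G)⁻¹ * (t * c)) * k⁻¹ := by group
        _ = k * t * k⁻¹ := by rw [← hc]; group
    rw [e]
    exact v.2.1
  · refine Subtype.ext ?_
    have hc := Subgroup.mem_centralizer_singleton_iff.1 c.2
    show ((c : G) * k⁻¹)⁻¹ * t * ((c : G) * k⁻¹) = v.1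
    rw [← hk]
    calc ((c : G) * k⁻¹)⁻¹ * t * ((c : G) * k⁻¹) = k * ((c : G)⁻¹ * (t * c)) * k⁻¹ := by group
      _ = k * t * k⁻¹ := by rw [← hc]; group
  · exact Subtype.ext (Subtype.ext (by simp))
  · exact Subtype.ext (by simp)

/-- A set of cosets and the elements in it. -/
theorem card_cosets (Q : Subgroup G) (S : Set (G ⧸ Q)) :
    Nat.card {g : G // (g : G ⧸ Q) ∈ S} = Nat.card Q * Nat.card S := by
  rw [← Nat.card_prod]
  exact Nat.card_congr (QuotientGroup.preimageMkEquivSubgroupProdSet Q S)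

/-- In a group without subgroups of index two a homomorphism to `ℤˣ` is trivial. -/
theorem hom_units_eq_one (hno : ∀ H : Subgroup G, H.index ≠ 2) (f : G →* ℤˣ) (x : G) : f x = 1 := by
  by_contra hx
  refine hno f.ker ?_
  have hr : f.range = ⊤ := by
    rw [eq_top_iff]
    intro u _
    rcases Int.units_eq_one_or u with rfl | rfl
    · exact one_mem _
    · exact ⟨x, (Int.units_eq_one_or _).resolve_left hx⟩
  rw [Subgroup.index_ker, hr, Subgroup.card_top, Nat.card_eq_fintype_card, Fintype.card_units_int]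

/-- The parity of the permutation of `t` on the cosets of a subgroup. -/
theorem sign_iff (hno : ∀ H : Subgroup G, H.index ≠ 2) {t : G} (ht : t * t = 1) (Q : Subgroup G) :
    4 * Nat.card Q ∣ Nat.card G ↔
      4 * Nat.card Q ∣ Nat.card (Subgroup.centralizer ({t} : Set G)) * cnt t (Q : Set G) := by
  classical
  haveI := Fintype.ofFinite (G ⧸ Q)
  set σ : Equiv.Perm (G ⧸ Q) := MulAction.toPermHom G (G ⧸ Q) t with hσ
  have h1 : Equiv.Perm.sign σ = 1 :=
    hom_units_eq_one hno (Equiv.Perm.sign.comp (MulAction.toPermHom G (G ⧸ Q))) t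
  have hs := Equiv.Perm.sign_of_pow_two_eq_one
    (show σ ^ 2 = 1 by rw [hσ, ← map_pow, pow_two, ht, map_one])
  rw [h1] at hs
  have hev := (neg_one_pow_eq_one_iff_even (by decide)).1 hs.symm
  have hle : Fintype.card (Function.fixedPoints σ) ≤ Fintype.card (G ⧸ Q) := Fintype.card_subtype_le _
  have hF : Nat.card (Subgroup.centralizer ({t} : Set G)) * cnt t (Q : Set G) =
      Nat.card Q * Fintype.card (Function.fixedPoints σ) := by
    rw [← card_conj_into, ← Nat.card_eq_fintype_card, ← card_cosets]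
    refine Nat.card_congr (Equiv.subtypeEquivRight fun g => ?_)
    exact CfsgLib.Transfer.mem_iff_smul_eq t g
  have hM : Nat.card G = Nat.card Q * Fintype.card (G ⧸ Q) := by
    rw [← Nat.card_eq_fintype_card, ← Subgroup.index_eq_card, Subgroup.card_mul_index]
  have hmod : (4 ∣ Fintype.card (G ⧸ Q)) ↔ (4 ∣ Fintype.card (Function.fixedPoints σ)) := by
    have h3 : 2 ∣ Fintype.card (G ⧸ Q) - Fintype.card (Function.fixedPoints σ) := by
      have h4 := Equiv.Perm.two_dvd_card_support
        (show σ ^ 2 = 1 by rw [hσ, ← map_pow, pow_two, ht, map_one])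
      have h5 : Fintype.card (G ⧸ Q) - Fintype.card (Function.fixedPoints σ) = σ.support.card := by
        have h6 : Fintype.card (Function.fixedPoints σ) = σ.supportᶜ.card := by
          rw [← Nat.card_eq_fintype_card, ← Nat.card_eq_finsetCard]
          exact Nat.card_congr (Equiv.subtypeEquivRight fun q => by
            simp [Function.fixedPoints, Function.IsFixedPt])
        rw [h6, Finset.card_compl]
        have := Finset.card_le_univ σ.support
        omega
      rwa [h5]
    obtain ⟨r, hr⟩ := hev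
    constructor <;> intro h <;> omega
  rw [hF, hM, mul_comm 4 (Nat.card Q), Nat.mul_dvd_mul_iff_left Nat.card_pos,
    Nat.mul_dvd_mul_iff_left Nat.card_pos, hmod]

/-- The parity of the number of fixed cosets. -/
theorem parity_iff {t : G} (ht : t * t = 1) (Q : Subgroup G) :
    2 * Nat.card Q ∣ Nat.card G ↔
      2 * Nat.card Q ∣ Nat.card (Subgroup.centralizer ({t} : Set G)) * cnt t (Q : Set G) := by
  classical
  have := Fintype.ofFinite (G ⧸ Q)
  set σ : Equiv.Perm (G ⧸ Q) := MulAction.toPermHom G (G ⧸ Q) t with hσ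
  have h4 := Equiv.Perm.two_dvd_card_support
    (show σ ^ 2 = 1 by rw [hσ, ← map_pow, pow_two, ht, map_one])
  have hF : Nat.card (Subgroup.centralizer ({t} : Set G)) * cnt t (Q : Set G) =
      Nat.card Q * σ.supportᶜ.card := by
    rw [← card_conj_into, ← Nat.card_eq_finsetCard]
    refine (Nat.card_congr (Equiv.subtypeEquivRight fun g => ?_)).trans
      (card_cosets Q {q | q ∈ σ.supportᶜ})
    rw [Set.mem_setOf_eq, Finset.mem_compl, Equiv.Perm.mem_support, not_not]
    exact CfsgLib.Transfer.mem_iff_smul_eq t g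
  have hM : Nat.card G = Nat.card Q * Fintype.card (G ⧸ Q) := by
    rw [← Nat.card_eq_fintype_card, ← Subgroup.index_eq_card, Subgroup.card_mul_index]
  have h5 := Finset.card_add_card_compl σ.support
  rw [hF, hM, mul_comm 2 (Nat.card Q), Nat.mul_dvd_mul_iff_left Nat.card_pos,
    Nat.mul_dvd_mul_iff_left Nat.card_pos, ← h5]
  exact Nat.dvd_add_right h4

/-- The transfer of `t` to the group of order two. -/
theorem transfer_dvd (hno : ∀ H : Subgroup G, H.index ≠ 2) {t : G} (ht : orderOf t = 2)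
    (Q : Subgroup G) (χ : Q →* ℤˣ) :
    2 * Nat.card Q ∣ Nat.card (Subgroup.centralizer ({t} : Set G)) *
      cnt t {y | ∃ h : y ∈ Q, χ ⟨y, h⟩ = -1} := by
  classical
  haveI := Fintype.ofFinite (G ⧸ Q)
  have hV : MonoidHom.transfer χ t = 1 := hom_units_eq_one hno _ t
  rw [CfsgLib.Transfer.transfer_eq_prod_fixedVal χ t] at hV
  swap
  · intro k hk hkd g h
    rw [ht] at hkd
    obtain rfl : k = 2 := by have := Nat.le_of_dvd two_pos hkd; omega
    refine (congrArg χ (show (⟨_, h⟩ : Q) = 1 from Subtype.ext ?_)).trans (map_one χ)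
    show g⁻¹ * t ^ 2 * g = 1
    rw [← ht, pow_orderOf_eq_one]; group
  set K : Set (G ⧸ Q) := {q | CfsgLib.Transfer.fixedVal χ t q = -1} with hK
  have hprod : ∏ q : G ⧸ Q, CfsgLib.Transfer.fixedVal χ t q = (-1) ^ Nat.card K := by
    rw [Nat.card_eq_fintype_card, Fintype.card_subtype, ← Finset.prod_const, Finset.prod_filter]
    refine Finset.prod_congr rfl fun q _ => ?_
    rcases Int.units_eq_one_or (CfsgLib.Transfer.fixedVal χ t q) with h | h <;> simp [hK, h]
  rw [hprod, neg_one_pow_eq_one_iff_even (by decide)] at hV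
  have hcount : Nat.card (Subgroup.centralizer ({t} : Set G)) *
      cnt t {y | ∃ h : y ∈ Q, χ ⟨y, h⟩ = -1} = Nat.card Q * Nat.card K := by
    rw [← card_conj_into, ← card_cosets]
    refine Nat.card_congr (Equiv.subtypeEquivRight fun g => ?_)
    simp only [Set.mem_setOf_eq, hK]
    constructor
    · rintro ⟨h, hχ⟩
      rwa [CfsgLib.Transfer.fixedVal_of_mem χ t h]
    · intro h
      by_cases hg : g⁻¹ * t * g ∈ Q
      · exact ⟨hg, by rwa [CfsgLib.Transfer.fixedVal_of_mem χ t hg] at h⟩
      · rw [CfsgLib.Transfer.fixedVal_of_ne χ t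
          fun e => hg ((CfsgLib.Transfer.mem_iff_smul_eq t g).2 e)] at h
        exact absurd h (by decide)
  rw [hcount, mul_comm 2 (Nat.card Q)]
  exact Nat.mul_dvd_mul_left _ (even_iff_two_dvd.1 hV)

end CfsgLib.TwoSymSix
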