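import Cfsg.Agent.Lib.Rec.TwoSymSix.Model
import Cfsg.Agent.Lib.Rec.TwoSymSix.Transfer

/-!
# An involution with centralizer `2 × Sₙ` for `n = 6, 7`: the Sylow subgroup of the centralizer
-/

set_option autoImplicit false
set_option linter.unusedSectionVars false

namespace CfsgLib.TwoSymSix

attribute [local instance 10000] List.decidableBAll List.decidableBEx Finset.decidableDforallFinset

open Equiv

/-- The finite facts about the symmetric group of degree `n` used below. -/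
structure Facts {n : ℕ} (j : Perm (Fin 6) →* Perm (Fin n)) : Prop where
  inj : Function.Injective j
  card : ∃ m : ℕ, Odd m ∧ Nat.card (Perm (Fin n)) = 16 * m
  cenA : ∀ π : Perm (Fin n), π * j pe = j pe * π → π * j pa = j pa * π → π * j pz = j pz * π →
    π ∈ sideA.eList.map j
  cenB : ∀ π : Perm (Fin n), π * j pf = j pf * π → π * j pa = j pa * π → π * j pz = j pz * π →
    π ∈ sideB.eList.map j
  norD : ∀ π : Perm (Fin n), π * j pe * π⁻¹ ∈ dList.map j → π * j pf * π⁻¹ ∈ dList.map j →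
    π * j pa * π⁻¹ ∈ dList.map j → π ∈ dList.map j
  nonconj : ∀ π : Perm (Fin n), π * j pe * π⁻¹ ∈ sideB.eList.map j →
    π * j pa * π⁻¹ ∈ sideB.eList.map j → π * j pz * π⁻¹ ∈ sideB.eList.map j → False
  sqfix : ∀ π : Perm (Fin n), π * j pa = j pa * π →
    π * π ∈ sideA.eList.map j → π * π = 1 ∨ π * π = j pz
  norCardA : Nat.card {π : Perm (Fin n) // π * j pe * π⁻¹ ∈ sideA.eList.map j ∧
    π * j pa * π⁻¹ ∈ sideA.eList.map j ∧ π * j pz * π⁻¹ ∈ sideA.eList.map j} = 48
  norCardB : Nat.card {π : Perm (Fin n) // π * j pf * π⁻¹ ∈ sideB.eList.map j ∧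
    π * j pa * π⁻¹ ∈ sideB.eList.map j ∧ π * j pz * π⁻¹ ∈ sideB.eList.map j} = 48

/-- The configuration. -/
structure Cfg (G : Type*) [Group G] (n : ℕ) where
  /-- the centralizer of the involution -/
  el : Multiplicative (ZMod 2) × Perm (Fin n) →* G
  el_inj : Function.Injective el
  el_cen : ∀ g : G, g * el (Multiplicative.ofAdd 1, 1) = el (Multiplicative.ofAdd 1, 1) * g ↔
    g ∈ el.range
  hno : ∀ H : Subgroup G, H.index ≠ 2
  /-- the six points -/
  j : Perm (Fin 6) →* Perm (Fin n)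
  facts : Facts j

/-- The central involution of the model. -/
def tau : M6 := (Multiplicative.ofAdd 1, 1)

theorem mult_self : ∀ i : Multiplicative (ZMod 2), i * i = 1 := by decide

namespace Cfg

variable {G : Type*} [Group G] [Finite G] {n : ℕ} (D : Cfg G n)

/-- The involution. -/
def t : G := D.el (Multiplicative.ofAdd 1, 1)

/-- The model inside the group. -/
def f : M6 →* G := D.el.comp (MonoidHom.prodMap (MonoidHom.id _) D.j)

theorem f_inj : Function.Injective D.f := by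
  intro p q h
  have h1 := D.el_inj h
  exact Prod.ext (congrArg Prod.fst h1 :) (D.facts.inj (congrArg Prod.snd h1 :))

theorem f_apply (p : M6) : D.f p = D.el (p.1, D.j p.2) := rfl

theorem f_tau : D.f tau = D.t := by
  show D.el (Multiplicative.ofAdd 1, D.j 1) = D.el (Multiplicative.ofAdd 1, 1)
  rw [map_one D.j]

theorem tt : D.t * D.t = 1 := by rw [t, ← map_mul, Prod.mk_mul_mk, mult_self, one_mul]; exact map_one _

theorem t_ne : D.t ≠ 1 := fun h => by
  have h1 := D.el_inj (h.trans (map_one D.el).symm)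
  have h2 : (Multiplicative.ofAdd 1 : Multiplicative (ZMod 2)) = 1 := congrArg Prod.fst h1
  exact absurd h2 (by decide)

theorem orderOf_t : orderOf D.t = 2 := orderOf_eq_prime (by rw [pow_two, D.tt]) D.t_ne

theorem mem_cen {g : G} : g ∈ Subgroup.centralizer ({D.t} : Set G) ↔ ∃ x, D.el x = g := by
  rw [Subgroup.mem_centralizer_singleton_iff]; exact D.el_cen g

theorem el_comm (x : Multiplicative (ZMod 2) × Perm (Fin n)) : D.el x * D.t = D.t * D.el x :=
  (D.el_cen _).2 ⟨x, rfl⟩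

theorem card_cen : ∃ m : ℕ, Odd m ∧ Nat.card (Subgroup.centralizer ({D.t} : Set G)) = 32 * m := by
  obtain ⟨m, hm, hc⟩ := D.facts.card
  refine ⟨m, hm, ?_⟩
  have e : Subgroup.centralizer ({D.t} : Set G) = D.el.range := by
    ext g; exact D.mem_cen
  rw [e, Nat.card_congr (MonoidHom.ofInjective D.el_inj).toEquiv.symm, Nat.card_prod, hc,
    Nat.card_eq_fintype_card, Fintype.card_multiplicative, ZMod.card]
  ring

/-- The Sylow subgroup of the centralizer. -/
def P : Subgroup G := pSub.map D.f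

theorem mem_P {g : G} : g ∈ D.P ↔ ∃ p ∈ pSub, D.f p = g := Subgroup.mem_map

theorem f_mem_P {p : M6} (hp : p ∈ pSub) : D.f p ∈ D.P := Subgroup.mem_map_of_mem _ hp

theorem t_mem_P : D.t ∈ D.P := D.f_tau ▸ D.f_mem_P (by decide +kernel)

theorem P_le : D.P ≤ Subgroup.centralizer ({D.t} : Set G) := by
  rintro _ ⟨p, _, rfl⟩
  exact D.mem_cen.2 ⟨_, rfl⟩

theorem card_P : Nat.card D.P = 32 := by
  rw [P, Nat.card_congr (Subgroup.equivMapOfInjective pSub D.f D.f_inj).toEquiv.symm, ← pFin_card,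
    ← Nat.card_eq_finsetCard]
  exact Nat.card_congr (Equiv.subtypeEquivRight fun p => mem_pFin.symm)

theorem isPGroup_P : IsPGroup 2 D.P := IsPGroup.of_card (n := 5) (by rw [D.card_P]; norm_num)

/-- A two-group centralizing a conjugate of `t` is conjugate into `P`. -/
theorem exists_into_P {y : G} (hy : IsConj D.t y) {Q : Subgroup G} (hQ : IsPGroup 2 Q)
    (hQy : ∀ q ∈ Q, q * y = y * q) :
    ∃ k : G, k * D.t * k⁻¹ = y ∧ ∀ q ∈ Q, k⁻¹ * q * k ∈ D.P := by
  have : Fact (Nat.Prime 2) := ⟨Nat.prime_two⟩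
  obtain ⟨k₀, hk₀⟩ := isConj_iff.1 hy
  set C := Subgroup.centralizer ({D.t} : Set G) with hC
  obtain ⟨m, hm, hcard⟩ := D.card_cen
  rw [← hC] at hcard
  have hi : ¬ 2 ∣ (D.P.subgroupOf C).index := by
    have h1 := (D.P.subgroupOf C).card_mul_index
    rw [Nat.card_congr (Subgroup.subgroupOfEquivOfLe D.P_le).toEquiv, D.card_P, hcard] at h1
    rw [Nat.eq_of_mul_eq_mul_left (by norm_num) h1]
    exact fun h => Nat.not_even_iff_odd.2 hm (even_iff_two_dvd.2 h)
  let SP : Sylow 2 C := (D.isPGroup_P.comap_subtype (K := C)).toSylow hi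
  let Q' : Subgroup G := Q.map (MulAut.conj k₀⁻¹).toMonoidHom
  have hQ'C : Q' ≤ C := by
    rintro _ ⟨q, hq, rfl⟩
    rw [hC, Subgroup.mem_centralizer_singleton_iff]
    have := hQy q hq
    rw [← hk₀] at this
    simp only [MulEquiv.coe_toMonoidHom, MulAut.conj_apply, inv_inv]
    calc k₀⁻¹ * q * k₀ * D.t = k₀⁻¹ * (q * (k₀ * D.t * k₀⁻¹)) * k₀ := by group
      _ = k₀⁻¹ * ((k₀ * D.t * k₀⁻¹) * q) * k₀ := by rw [this]
      _ = D.t * (k₀⁻¹ * q * k₀) := by group
  obtain ⟨S', hS'⟩ := ((hQ.map (MulAut.conj k₀⁻¹).toMonoidHom).comap_subtype (K := C)).exists_le_sylow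
  obtain ⟨c, hc⟩ := MulAction.exists_smul_eq C S' SP
  refine ⟨k₀ * (c : G)⁻¹, ?_, fun q hq => ?_⟩
  · have h1 := Subgroup.mem_centralizer_singleton_iff.1 (C.inv_mem c.2)
    calc k₀ * (c : G)⁻¹ * D.t * (k₀ * (c : G)⁻¹)⁻¹ = k₀ * ((c : G)⁻¹ * D.t * c) * k₀⁻¹ := by group
      _ = y := by rw [h1, inv_mul_cancel_right, hk₀]
  · have hq' : k₀⁻¹ * q * k₀ ∈ Q' := ⟨q, hq, by simp⟩
    have h2 : (⟨_, hQ'C hq'⟩ : C) ∈ (S' : Subgroup C) := hS' hq'
    have h3 : c * ⟨_, hQ'C hq'⟩ * c⁻¹ ∈ (SP : Subgroup C) := by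
      rw [← hc]
      exact ⟨_, h2, rfl⟩
    have h4 : (c : G) * (k₀⁻¹ * q * k₀) * (c : G)⁻¹ ∈ D.P := h3
    convert h4 using 1
    group

theorem card_le_32 {y : G} (hy : IsConj D.t y) {Q : Subgroup G} (hQ : IsPGroup 2 Q)
    (hQy : ∀ q ∈ Q, q * y = y * q) : Nat.card Q ≤ 32 := by
  obtain ⟨k, -, hk⟩ := D.exists_into_P hy hQ hQy
  rw [← D.card_P]
  exact Nat.card_le_card_of_injective (fun q : Q => (⟨_, hk q q.2⟩ : D.P)) fun a b h => by
    simpa using congrArg Subtype.val h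

theorem sq_P {g : G} (hg : g ∈ D.P) : g * g = 1 ∨ g * g = D.f (1, pz) := by
  obtain ⟨p, hp, rfl⟩ := hg
  rw [← map_mul, ← map_one D.f]
  have e : p * p = (1, p.2 * p.2) := Prod.ext (mult_self _) rfl
  rcases sq_dList p.2 hp with h | h
  · left; rw [e, h]; rfl
  · right; rw [e, h]

/-- Nontrivial squares of elements of a two-group centralizing a conjugate of `t` are equal. -/
theorem sq_unique {y : G} (hy : IsConj D.t y) {Q : Subgroup G} (hQ : IsPGroup 2 Q)
    (hQy : ∀ q ∈ Q, q * y = y * q) {a b : G} (ha : a ∈ Q) (hb : b ∈ Q) (ha1 : a * a ≠ 1)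
    (hb1 : b * b ≠ 1) : a * a = b * b := by
  obtain ⟨k, -, hk⟩ := D.exists_into_P hy hQ hQy
  have hs : ∀ c ∈ Q, c * c ≠ 1 → c * c = k * D.f (1, pz) * k⁻¹ := by
    intro c hc hc1
    have e : c * c = k * ((k⁻¹ * c * k) * (k⁻¹ * c * k)) * k⁻¹ := by group
    rcases D.sq_P (hk c hc) with h | h
    · exact absurd (by rw [e, h]; group) hc1
    · rw [e, h]
  rw [hs a ha ha1, hs b hb hb1]

theorem invol_of_isConj {y : G} (hy : IsConj D.t y) : y * y = 1 ∧ y ≠ 1 := by
  obtain ⟨k, rfl⟩ := isConj_iff.1 hy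
  refine ⟨?_, fun h => D.t_ne ?_⟩
  · calc k * D.t * k⁻¹ * (k * D.t * k⁻¹) = k * (D.t * D.t) * k⁻¹ := by group
      _ = 1 := by rw [D.tt]; group
  · calc D.t = k⁻¹ * (k * D.t * k⁻¹) * k := by group
      _ = 1 := by rw [h]; group

/-- No conjugate of `t` is a square. -/
theorem not_sq {y x : G} (hy : IsConj D.t y) (hx : x * x = y) : False := by
  obtain ⟨k, rfl⟩ := isConj_iff.1 hy
  have h1 : (k⁻¹ * x * k) * (k⁻¹ * x * k) = D.t := by
    calc (k⁻¹ * x * k) * (k⁻¹ * x * k) = k⁻¹ * (x * x) * k := by group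
      _ = D.t := by rw [hx]; group
  obtain ⟨c, hc⟩ := (D.mem_cen (g := k⁻¹ * x * k)).1 (Subgroup.mem_centralizer_singleton_iff.2
    (by rw [← h1]; group))
  rw [← hc, ← map_mul, t] at h1
  have := congrArg Prod.fst (D.el_inj h1)
  rw [Prod.fst_mul, mult_self] at this
  have h2 : (1 : Multiplicative (ZMod 2)) = Multiplicative.ofAdd 1 := this
  exact absurd h2 (by decide)

theorem not_isConj_pz : ¬ IsConj D.t (D.f (1, pz)) := fun h =>
  D.not_sq h (x := D.f (1, pe * pf)) (by rw [← map_mul]; congr 1; decide +kernel)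

open Classical in
/-- The types of the involutions conjugate to `t`. -/
noncomputable def types : Types :=
  ⟨decide (IsConj D.t (D.f (Multiplicative.ofAdd 1, pa))),
    decide (IsConj D.t (D.f (Multiplicative.ofAdd 1, pz))),
    decide (IsConj D.t (D.f (Multiplicative.ofAdd 1, pa * pz))),
    decide (IsConj D.t (D.f (1, pa))), decide (IsConj D.t (D.f (1, pa * pz)))⟩

theorem isConj_f_conj (p c : M6) : IsConj D.t (D.f (c * p * c⁻¹)) ↔ IsConj D.t (D.f p) := by
  have h : IsConj (D.f p) (D.f (c * p * c⁻¹)) := isConj_iff.2 ⟨D.f c, by simp⟩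
  exact ⟨fun e => e.trans h.symm, fun e => e.trans h⟩

/-- The conjugates of `t` in `P` are given by their types. -/
theorem ind_spec {p : M6} (hp : p ∈ pSub) : IsConj D.t (D.f p) ↔ D.types.ind p = true := by
  classical
  unfold Types.ind
  by_cases h2 : p.2 * p.2 = 1
  · rw [if_pos h2]
    obtain ⟨i, π⟩ := p
    have hi : i = 1 ∨ i = Multiplicative.ofAdd 1 :=
      (by decide : ∀ i : Multiplicative (ZMod 2), i = 1 ∨ i = Multiplicative.ofAdd 1) i
    rcases exists_std π hp h2 with h | ⟨c, -, hc⟩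
    · subst h
      rcases hi with rfl | rfl
      · simp only [reduceIte, Perm.support_one, Finset.card_empty, Bool.false_eq_true, iff_false]
        intro h
        exact (D.invol_of_isConj h).2 (map_one D.f)
      · rw [if_neg (by decide)]
        simp only [Perm.support_one, Finset.card_empty, iff_true]
        exact D.f_tau ▸ IsConj.refl _
    · have e := D.isConj_f_conj (i, π) (1, c)
      simp only [Prod.mk_mul_mk, Prod.inv_mk, one_mul, inv_one, mul_one] at e
      rw [← e]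
      rcases hc with ⟨hc, hs⟩ | ⟨hc, hs⟩ | ⟨hc, hs⟩ <;> rw [hc] <;> rcases hi with rfl | rfl <;>
        simp [hs, types, iff_false_intro D.not_isConj_pz, -isConj_iff, show (Multiplicative.ofAdd 1 : Multiplicative (ZMod 2)) ≠ 1 by decide]
  · rw [if_neg h2]
    simp only [Bool.false_eq_true, iff_false]
    intro h
    have := (D.invol_of_isConj h).1
    rw [← map_mul, ← map_one D.f] at this
    exact h2 (congrArg Prod.snd (D.f_inj this))

/-- The conjugates of `t` in a definable part of `P`, counted. -/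
theorem cnt_P (q : M6 → Prop) [DecidablePred q] :
    cnt D.t (D.f '' {p | p ∈ pSub ∧ q p}) =
      (pFin.filter fun p => q p ∧ D.types.ind p = true).card := by
  rw [cnt, ← Nat.card_eq_finsetCard]
  refine (Nat.card_congr (Equiv.ofBijective
    (fun p => ⟨D.f p.1, ⟨p.1, ⟨mem_pFin.1 (Finset.mem_filter.1 p.2).1, (Finset.mem_filter.1 p.2).2.1⟩, rfl⟩,
      (D.ind_spec (mem_pFin.1 (Finset.mem_filter.1 p.2).1)).2 (Finset.mem_filter.1 p.2).2.2⟩) ⟨?_, ?_⟩)).symm
  · intro a b h
    exact Subtype.ext (D.f_inj (congrArg Subtype.val h))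
  · rintro ⟨_, ⟨p, ⟨hp, hq⟩, rfl⟩, hc⟩
    exact ⟨⟨p, Finset.mem_filter.2 ⟨mem_pFin.2 hp, hq, (D.ind_spec hp).1 hc⟩⟩, rfl⟩

end Cfg

end CfsgLib.TwoSymSix
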