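import Cfsg.Agent.Lib.Rec.TwoSymSix.ModelCoord

/-!
# Orbits of `t` and translations on a side, in coordinates
-/

set_option autoImplicit false
set_option synthInstance.maxSize 4000

namespace CfsgLib.TwoSymSix

attribute [local instance 10000] List.decidableBAll List.decidableBEx Finset.decidableDforallFinset

open Equiv

/-- The odd coordinates. -/
def oddList : List ℕ := [1, 3, 5, 7, 9, 11, 13, 15]

/-- The possible orbits of `t` on a side. -/
def cands (b : Bool) : List (List ℕ) :=
  oddList.sublists.filter fun S => S.contains 1 && S.all fun v => S.contains (uLin b v)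

/-- The orbit of four elements. -/
def orbFour (b : Bool) : List ℕ := [1, 5, uLin b 5, uLin b (uLin b 5)]

theorem cands_balanced : ∀ S ∈ cands false, ∀ T ∈ cands true, S.length = T.length → S.length % 2 = 0 →
    9 ∈ S → 9 ∈ T → 5 ∈ S ∧ 13 ∈ S := by decide +kernel

theorem cands_four : ∀ b, ∀ S ∈ cands b, S.length % 2 = 0 → 5 ∈ S → 9 ∉ S → 13 ∉ S →
    S.length = 4 ∧ (∀ v ∈ S, v ∈ orbFour b) := by decide +kernel

theorem cands_full : ∀ b, ∀ S ∈ cands b, 5 ∈ S → 9 ∈ S → 13 ∈ S →
    S.length = 8 ∧ ∀ v ∈ oddList, v ∈ S := by decide +kernel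

theorem oddList_iff : ∀ v < 16, v ∈ oddList ↔ v.testBit 0 = true := by decide +kernel

theorem oddList_lt : ∀ v ∈ oddList, v < 16 := by decide +kernel

/-- The powers of the element of order three. -/
def uPow (b : Bool) : ℕ → ℕ → ℕ
  | 0, v => v
  | m + 1, v => uLin b (uPow b m v)

/-- The possible actions of elements fixing `t` on a side. -/
def sixActs (b : Bool) : List (List ℕ) :=
  [0, 1, 2].flatMap fun m =>
    [(List.range 16).map fun v => uPow b m v, (List.range 16).map fun v => sLin (uPow b m v)]

theorem dList_act : ∀ b, ∀ d ∈ dList, ∀ v < 16,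
    ((1 : Multiplicative (ZMod 2)), d) * (side b).el v * (1, d)⁻¹ =
      (side b).el (if d ∈ (side b).eList then v else sLin v) := by decide +kernel

theorem norm_products_nodup : ∀ b,
    (([0, 1, 2] : List ℕ).flatMap fun m => dList.map fun d => d * (side b).u ^ m).Nodup := by
  decide +kernel

/-- The coordinate of the fixed vector times `t`. -/
def tw : Bool → ℕ
  | false => 13
  | true => 9

/-- The only translations by the fixed vector are trivial on the generator. -/
theorem translation_check : ∀ b, ∀ x ∈ [0, 4, 8, 12],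
    (∃ a ∈ sixActs b, ∀ v ∈ List.range 16,
      uLin b (lin (tw b) (2 ^^^ x) 4 8 v) = lin (tw b) (2 ^^^ x) 4 8 (a.getD (uLin b v) 0)) →
      x = 0 ∨ x = 4 := by decide +kernel

/-- An element moving `t` inside the orbit of four is nearly trivial on the generator. -/
theorem four_check : ∀ b, ∀ x ∈ [0, 4, 8, 12],
    (∀ v ∈ orbFour b, lin 5 (2 ^^^ x) 4 8 v ∈ orbFour b) → x = 0 ∨ x = 4 := by decide +kernel

theorem orbFour_lt : ∀ b, ∀ v ∈ orbFour b, v < 16 := by decide +kernel

theorem coord_e : ∀ b, (side b).el 2 = (1, (side b).e) ∧ (side b).el 4 = (1, pz) ∧ (side b).el 8 = (1, pa) := by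
  decide +kernel

theorem sideB_e_sq : ∃ q ∈ [perm6 ![1, 2, 3, 0, 4, 5] ![3, 0, 1, 2, 4, 5] (by decide) (by decide)],
    q * q = pf ∧ q * pa = pa * q := by decide +kernel

end CfsgLib.TwoSymSix
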