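import Cfsg.Agent.Lib.Rec.TwoSymSix.Normal
import Cfsg.Agent.Lib.Rec.TwoSymSix.SideModel

/-!
# The normalizers of the two sides
-/

set_option autoImplicit false
set_option linter.unusedSectionVars false

namespace CfsgLib.TwoSymSix

attribute [local instance 10000] List.decidableBAll List.decidableBEx Finset.decidableDforallFinset

open Equiv Subgroup

namespace Cfg

variable {G : Type*} [Group G] [Finite G] {n : ℕ} (D : Cfg G n)

open Classical in
/-- The coordinates of the orbit of `t` under the normalizer of a side. -/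
noncomputable def orb (b : Bool) : List ℕ :=
  oddList.filter fun v => decide (∃ k ∈ normalizer (D.A b : Set G), k * D.t * k⁻¹ = D.elem b v)

theorem mem_orb (hN : D.types = nfTypes) {b : Bool} {v : ℕ} :
    v ∈ D.orb b ↔ v < 16 ∧ ∃ k ∈ normalizer (D.A b : Set G), k * D.t * k⁻¹ = D.elem b v := by
  classical
  unfold orb
  rw [List.mem_filter, decide_eq_true_eq]
  refine ⟨fun h => ⟨oddList_lt v h.1, h.2⟩, fun ⟨hv, k, hk, hke⟩ => ⟨?_, k, hk, hke⟩⟩
  rw [oddList_iff v hv, ← D.isConj_elem hN hv, ← hke, D.isConj_conj]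

theorem orb_lt {b : Bool} {v : ℕ} (hv : v ∈ D.orb b) : v < 16 := by
  classical
  exact oddList_lt v (List.mem_filter.1 hv).1

theorem orb_cands (hN : D.types = nfTypes) (b : Bool) : D.orb b ∈ cands b := by
  classical
  refine List.mem_filter.2 ⟨List.mem_sublists.2 List.filter_sublist, ?_⟩
  simp only [Bool.and_eq_true, List.all_eq_true, List.contains_iff_mem]
  refine ⟨(D.mem_orb hN).2 ⟨by norm_num, 1, one_mem _, by rw [D.elem_one]; group⟩, fun v hv => ?_⟩
  obtain ⟨hv', k, hk, hke⟩ := (D.mem_orb hN).1 hv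
  refine (D.mem_orb hN).2 ⟨(uLin_lt b v hv').1, D.uEl b * k, mul_mem (D.uEl_norm b) hk, ?_⟩
  rw [show D.uEl b * k * D.t * (D.uEl b * k)⁻¹ = D.uEl b * (k * D.t * k⁻¹) * (D.uEl b)⁻¹ by group, hke,
    elem, elem, uEl, ← map_inv, ← map_mul, ← map_mul, (side_actions b v hv').1]

theorem card_normA (hN : D.types = nfTypes) (b : Bool) :
    Nat.card (normalizer (D.A b : Set G)) = 96 * (D.orb b).length := by
  classical
  rw [D.card_orbit, D.card_norm_cen]
  congr 1
  have hnd : (D.orb b).Nodup := List.Nodup.filter _ (by decide)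
  rw [← List.toFinset_card_of_nodup hnd, ← Nat.card_eq_finsetCard]
  refine (Nat.card_congr (Equiv.ofBijective
    (fun v => ⟨D.elem b v.1, ((D.mem_orb hN).1 (List.mem_toFinset.1 v.2)).2⟩) ⟨?_, ?_⟩)).symm
  · intro x y h
    exact Subtype.ext (side_el_inj b _ (D.orb_lt (List.mem_toFinset.1 x.2)) _
      (D.orb_lt (List.mem_toFinset.1 y.2)) (D.f_inj (congrArg Subtype.val h)))
  · rintro ⟨y, k, hk, rfl⟩
    obtain ⟨v, hv, hve⟩ := D.exists_elem ((mem_normalizer_iff.1 hk _).1 (D.t_mem_A b))
    exact ⟨⟨v, List.mem_toFinset.2 ((D.mem_orb hN).2 ⟨hv, k, hk, hve.symm⟩)⟩, Subtype.ext hve⟩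

theorem A_ne : D.A false ≠ D.A true := fun e => by
  have h : D.f (1, pe) ∈ D.A true := e ▸ D.f_mem_A (by decide +kernel)
  exact absurd (D.mem_A_iff.1 h) (by decide +kernel)

/-- An element fixing one side fixes the other. -/
theorem norm_other {k : G} (hk : k ∈ normalizer (D.P : Set G)) {b : Bool}
    (hkb : k ∈ normalizer (D.A b : Set G)) : k ∈ normalizer (D.A (!b) : Set G) := by
  obtain ⟨c, hc⟩ := D.image_cases (b := !b) (k := k) fun g hg => (mem_normalizer_iff.1 hk g).1 (D.A_le _ hg)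
  rcases Bool.eq_or_eq_not c b with hcb | hcb
  · exfalso
    have e : (D.A b).map (MulAut.conj k).toMonoidHom = D.A b := by
      ext g
      constructor
      · rintro ⟨x, hx, rfl⟩
        exact (mem_normalizer_iff.1 hkb x).1 hx
      · intro hg
        have h1 : k * (k⁻¹ * g * k) * k⁻¹ = g := by group
        have h2 : k⁻¹ * g * k ∈ D.A b := (mem_normalizer_iff.1 hkb (k⁻¹ * g * k)).2 (by rw [h1]; exact hg)
        exact mem_map.2 ⟨_, h2, h1⟩
    rw [hcb, ← e] at hc
    have h := Subgroup.map_injective (MulAut.conj k).injective hc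
    cases b
    · exact D.A_ne h.symm
    · exact D.A_ne h
  · subst hcb
    exact normalizer_of_forall fun g hg => hc ▸ ⟨g, hg, rfl⟩

theorem norm_all {k : G} (hk : k ∈ normalizer (D.P : Set G)) (h : k ∈ normalizer (D.A false : Set G)) :
    ∀ b, k ∈ normalizer (D.A b : Set G)
  | false => h
  | true => D.norm_other (b := false) hk h

/-- An element moving one side to the other does so both ways. -/
theorem swap_maps {k : G} (hk : k ∈ normalizer (D.P : Set G)) (hs : k ∉ normalizer (D.A false : Set G))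
    (b : Bool) {g : G} (hg : g ∈ D.A b) : k * g * k⁻¹ ∈ D.A (!b) := by
  obtain ⟨c, hc⟩ := D.image_cases (b := b) (k := k) fun g hg => (mem_normalizer_iff.1 hk g).1 (D.A_le _ hg)
  rcases Bool.eq_or_eq_not c b with hcb | hcb
  · exfalso
    subst hcb
    have h1 : k ∈ normalizer (D.A c : Set G) := normalizer_of_forall fun g hg => hc.le ⟨g, hg, rfl⟩
    cases c
    · exact hs h1
    · exact hs (D.norm_other (b := true) hk h1)
  · exact hcb ▸ hc.le ⟨g, hg, rfl⟩

/-- Elements with the same image of `t` act alike on the sides. -/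
theorem same_image {k k' : G} (hk : k ∈ normalizer (D.P : Set G)) (hk' : k' ∈ normalizer (D.P : Set G))
    (he : k * D.t * k⁻¹ = k' * D.t * k'⁻¹) {b : Bool} (h : k ∈ normalizer (D.A b : Set G)) :
    k' ∈ normalizer (D.A b : Set G) := by
  have hP : k⁻¹ * k' ∈ D.P := by
    refine D.mem_P_of_fix (mul_mem (inv_mem hk) hk') ?_
    calc k⁻¹ * k' * D.t * (k⁻¹ * k')⁻¹ = k⁻¹ * (k' * D.t * k'⁻¹) * k := by group
      _ = D.t := by rw [← he]; group
  have e : k' = k * (k⁻¹ * k') := by group
  rw [e]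
  exact mul_mem h (D.P_norm b hP)

/-- A swapping element and an element fixing a side cannot agree on `t`. -/
theorem no_same {h m : G} (hh : h ∈ normalizer (D.P : Set G)) (hs : h ∉ normalizer (D.A false : Set G))
    {b : Bool} (hm : m ∈ normalizer (D.A b : Set G)) (he : m * D.t * m⁻¹ = h * D.t * h⁻¹) : False := by
  refine D.not_conj_sides (b := !b) (k := m⁻¹ * h) ?_ fun g hg => ?_
  · calc m⁻¹ * h * D.t = m⁻¹ * (h * D.t * h⁻¹) * h := by group
      _ = m⁻¹ * (m * D.t * m⁻¹) * h := by rw [he]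
      _ = D.t * (m⁻¹ * h) := by group
  · rw [Bool.not_not]
    have h1 := D.swap_maps hh hs (!b) hg
    rw [Bool.not_not] at h1
    have h2 := (mem_normalizer_iff.1 (inv_mem hm) _).1 h1
    rw [inv_inv] at h2
    convert h2 using 1
    group

/-- A side fixed by an element of the normalizer moving `t` has an even orbit. -/
theorem orb_even (hN : D.types = nfTypes) {k : G} (hk : k ∈ normalizer (D.P : Set G)) {b : Bool}
    (hkb : k ∈ normalizer (D.A b : Set G)) (hmov : k * D.t * k⁻¹ ≠ D.t) : (D.orb b).length % 2 = 0 := by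
  set H := normalizer (D.P : Set G) ⊓ normalizer (D.A b : Set G) with hH
  have h1 : D.P < H := by
    refine lt_of_le_of_ne (le_inf le_normalizer (D.P_norm b)) fun e => hmov ?_
    have h2 : k ∈ D.P := e ▸ mem_inf.2 ⟨hk, hkb⟩
    exact mul_inv_eq_iff_eq_mul.2 (mem_centralizer_singleton_iff.1 (D.P_le h2))
  have h2 : Nat.card H ∣ 2 ^ 7 := by
    rw [show 2 ^ 7 = 128 from rfl, ← D.card_norm_P hN]
    exact card_dvd_of_le inf_le_left
  have h3 : 32 < Nat.card H := by
    rw [← D.card_P]
    refine lt_of_le_of_ne (card_le_of_le h1.le) fun e => h1.ne ?_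
    exact eq_of_le_of_card_ge h1.le e.ge
  obtain ⟨r, hr, hre⟩ := (Nat.dvd_prime_pow Nat.prime_two).1 h2
  have h6 : 6 ≤ r := by
    by_contra hlt
    have : Nat.card H ≤ 32 := by
      rw [hre, show 32 = 2 ^ 5 from rfl]; exact Nat.pow_le_pow_right (by norm_num) (by omega)
    omega
  have h7 : 2 ^ 6 ∣ 96 * (D.orb b).length := by
    rw [← D.card_normA hN]
    exact dvd_trans (hre ▸ pow_dvd_pow 2 h6) (card_dvd_of_le inf_le_right)
  omega

theorem ne_t_of_coord {w : ℕ} (hw : w < 16) (hw1 : w ≠ 1) : D.elem false w ≠ D.t := by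
  rw [← D.elem_one false]
  exact fun h => hw1 (side_el_inj false w hw 1 (by norm_num) (D.f_inj h))

/-- Either every element of the normalizer of `P` fixes the sides, or one moving `t` to `t (56)`
interchanges them. -/
theorem dichotomy (hN : D.types = nfTypes) :
    (∀ k ∈ normalizer (D.P : Set G), k ∈ normalizer (D.A false : Set G)) ∨
      ∃ k ∈ normalizer (D.P : Set G), k * D.t * k⁻¹ = D.elem false 9 ∧ k ∉ normalizer (D.A false : Set G) := by
  by_contra hcon
  push Not at hcon
  obtain ⟨⟨h, hh, hs⟩, hall⟩ := hcon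
  obtain ⟨k, hk, hkt⟩ := D.exists_norm_coord hN (w := 9) (by decide)
  have hkA := hall k hk hkt
  have hmov : k * D.t * k⁻¹ ≠ D.t := hkt ▸ D.ne_t_of_coord (by norm_num) (by decide)
  have h9 : ∀ b, 9 ∈ D.orb b := fun b => (D.mem_orb hN).2 ⟨by norm_num, k, D.norm_all hk hkA b,
    hkt.trans (D.elem_central b (v := 9) (by decide)).symm⟩
  have hlen : (D.orb false).length = (D.orb true).length := by
    have e : (D.A true) = (D.A false).map (MulAut.conj h).toMonoidHom := by
      refine (eq_of_le_of_card_ge ?_ ?_).symm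
      · rintro _ ⟨g, hg, rfl⟩
        exact D.swap_maps hh hs false hg
      · rw [Nat.card_congr (equivMapOfInjective (D.A false) _ (MulAut.conj h).injective).toEquiv.symm,
          D.card_A, D.card_A]
    have e2 : Nat.card (normalizer (D.A true : Set G)) = Nat.card (normalizer (D.A false : Set G)) := by
      have e3 : (normalizer (D.A false : Set G)).map (MulAut.conj h).toMonoidHom =
          normalizer (D.A true : Set G) := by
        rw [e]
        exact map_equiv_normalizer_eq (D.A false) (MulAut.conj h)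
      rw [← e3, Nat.card_congr (equivMapOfInjective _ _ (MulAut.conj h).injective).toEquiv.symm]
    rw [D.card_normA hN, D.card_normA hN] at e2
    omega
  obtain ⟨h5, h13⟩ := cands_balanced _ (D.orb_cands hN false) _ (D.orb_cands hN true) hlen
    (D.orb_even hN hk hkA hmov) (h9 false) (h9 true)
  obtain ⟨w, hw, hwe⟩ := (D.norm_values hN hh).1
  obtain ⟨-, m, hm, hme⟩ := (D.mem_orb hN (b := false) (v := w)).1 (by
    simp only [List.mem_cons, List.not_mem_nil, or_false] at hw
    rcases hw with rfl | rfl | rfl | rfl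
    · exact (D.mem_orb hN).2 ⟨by norm_num, 1, one_mem _, by rw [D.elem_one]; group⟩
    · exact h5
    · exact h9 false
    · exact h13)
  exact D.no_same hh hs hm (hme.trans hwe.symm)

/-- In the interchanging case `(56)` moves to `(12)(34)(56)`. -/
theorem hole_a (hN : D.types = nfTypes) {k : G} (hk : k ∈ normalizer (D.P : Set G))
    (hkt : k * D.t * k⁻¹ = D.elem false 9) (hs : k ∉ normalizer (D.A false : Set G)) :
    k * D.elem false 8 * k⁻¹ = D.elem false 12 := by
  refine (D.norm_values hN hk).2.resolve_left fun ha => ?_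
  obtain ⟨q, -, hq2, hqa⟩ := sideB_e_sq
  set x := k * D.f (1, q) * k⁻¹ with hx
  have e8 : D.elem false 8 = D.f (1, pa) := by rw [elem, (coord_e false).2.2]
  have hca : x * D.elem false 8 = D.elem false 8 * x := by
    have h1 : D.f (1, q) * D.elem false 8 = D.elem false 8 * D.f (1, q) := by
      rw [e8, ← map_mul, ← map_mul, Prod.mk_mul_mk, Prod.mk_mul_mk, hqa]
    conv_lhs => rw [← ha]
    conv_rhs => rw [← ha]
    rw [hx]
    calc k * D.f (1, q) * k⁻¹ * (k * D.elem false 8 * k⁻¹) = k * (D.f (1, q) * D.elem false 8) * k⁻¹ := by group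
      _ = k * (D.elem false 8 * D.f (1, q)) * k⁻¹ := by rw [h1]
      _ = k * D.elem false 8 * k⁻¹ * (k * D.f (1, q) * k⁻¹) := by group
  have hct : x * D.t = D.t * x := by
    have e9 : D.t = k * D.elem false 9 * k⁻¹ * D.elem false 0 := by
      rw [D.elem_zero, mul_one, show (9 : ℕ) = 1 ^^^ 8 from rfl, D.elem_xor (by norm_num) (by norm_num),
        show k * (D.elem false 1 * D.elem false 8) * k⁻¹ = k * D.elem false 1 * k⁻¹ * (k * D.elem false 8 * k⁻¹) by group,
        D.elem_one, hkt, ha, ← D.elem_xor (by norm_num) (by norm_num), ← D.elem_one false]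
      rfl
    rw [D.elem_zero, mul_one] at e9
    have h1 : D.f (1, q) * D.elem false 9 = D.elem false 9 * D.f (1, q) := by
      rw [show (9 : ℕ) = 1 ^^^ 8 from rfl, D.elem_xor (by norm_num) (by norm_num), D.elem_one, e8,
        ← mul_assoc, show D.f (1, q) * D.t = D.t * D.f (1, q) from D.el_comm _, mul_assoc, mul_assoc, ← map_mul, ← map_mul, Prod.mk_mul_mk, Prod.mk_mul_mk, hqa]
    rw [e9, hx]
    calc k * D.f (1, q) * k⁻¹ * (k * D.elem false 9 * k⁻¹) = k * (D.f (1, q) * D.elem false 9) * k⁻¹ := by group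
      _ = k * (D.elem false 9 * D.f (1, q)) * k⁻¹ := by rw [h1]
      _ = k * D.elem false 9 * k⁻¹ * (k * D.f (1, q) * k⁻¹) := by group
  obtain ⟨⟨i, π⟩, hπ⟩ := D.mem_cen.1 (mem_centralizer_singleton_iff.2 hct)
  have hxx : x * x = k * D.f (1, pf) * k⁻¹ := by
    rw [hx, show k * D.f (1, q) * k⁻¹ * (k * D.f (1, q) * k⁻¹) = k * (D.f (1, q) * D.f (1, q)) * k⁻¹ by group,
      ← map_mul, Prod.mk_mul_mk, hq2, mult_self]
  have hmem : x * x ∈ D.A false := by
    rw [hxx]
    exact D.swap_maps hk hs true (D.f_mem_A (by decide +kernel))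
  obtain ⟨⟨i', d⟩, hd, hde⟩ := hmem
  have hsq : x * x = D.el (1, π * π) := by rw [← hπ, ← map_mul, Prod.mk_mul_mk, mult_self]
  rw [f_apply] at hde
  have hd' := D.el_inj (hde.trans hsq)
  have hcomm : π * D.j pa = D.j pa * π := by
    rw [← hπ, e8, f_apply, ← map_mul, ← map_mul] at hca
    exact congrArg Prod.snd (D.el_inj hca)
  have h2 := D.facts.sqfix π hcomm (List.mem_map.2 ⟨d, hd, congrArg Prod.snd hd'⟩)
  rcases h2 with h | h
  · rw [h] at hsq
    rw [hsq, show ((1 : Multiplicative (ZMod 2)), (1 : Perm (Fin n))) = 1 from rfl, map_one, eq_comm,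
      conj_eq_one_iff, ← map_one D.f] at hxx
    exact absurd (congrArg Prod.snd (D.f_inj hxx)) (by decide +kernel)
  · rw [h] at hsq
    have e4 : D.el (1, D.j pz) = D.f (1, pz) := rfl
    rw [hsq, e4, ← D.conj_pz hk] at hxx
    exact absurd (congrArg Prod.snd (D.f_inj ((MulAut.conj k).injective (by simpa using hxx))))
      (by decide +kernel)

/-- The orbits in the interchanging case. -/
theorem hole_orb (hN : D.types = nfTypes) {k : G} (hk : k ∈ normalizer (D.P : Set G))
    (hkt : k * D.t * k⁻¹ = D.elem false 9) (hs : k ∉ normalizer (D.A false : Set G)) (b : Bool) :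
    (D.orb b).length = 4 ∧ ∀ v ∈ D.orb b, v ∈ orbFour b := by
  have ha := D.hole_a hN hk hkt hs
  have kz : k * D.elem false 4 * k⁻¹ = D.elem false 4 := by rw [D.elem_pz]; exact D.conj_pz hk
  have h2 : k * k * D.t * (k * k)⁻¹ = D.elem false 5 := by
    rw [show k * k * D.t * (k * k)⁻¹ = k * (k * D.t * k⁻¹) * k⁻¹ by group, hkt,
      show (9 : ℕ) = 1 ^^^ 8 from rfl, D.elem_xor (by norm_num) (by norm_num), D.elem_one,
      show k * (D.t * D.elem false 8) * k⁻¹ = k * D.t * k⁻¹ * (k * D.elem false 8 * k⁻¹) by group, hkt, ha,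
      ← D.elem_xor (by norm_num) (by norm_num)]
    rfl
  have hkk : ∀ c, k * k ∈ normalizer (D.A c : Set G) := fun c => normalizer_of_forall fun g hg => by
    have h := D.swap_maps hk hs _ (D.swap_maps hk hs c hg)
    rw [Bool.not_not] at h
    convert h using 1
    group
  have h3 : k * k * k ∉ normalizer (D.A false : Set G) := fun h => by
    apply hs
    have e : k = (k * k)⁻¹ * (k * k * k) := by group
    rw [e]
    exact mul_mem (inv_mem (hkk false)) h
  have h13 : k * k * k * D.t * (k * k * k)⁻¹ = D.elem false 13 := by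
    rw [show k * k * k * D.t * (k * k * k)⁻¹ = k * (k * k * D.t * (k * k)⁻¹) * k⁻¹ by group, h2,
      show (5 : ℕ) = 1 ^^^ 4 from rfl, D.elem_xor (by norm_num) (by norm_num), D.elem_one,
      show k * (D.t * D.elem false 4) * k⁻¹ = k * D.t * k⁻¹ * (k * D.elem false 4 * k⁻¹) by group, hkt, kz,
      ← D.elem_xor (by norm_num) (by norm_num)]
    rfl
  refine cands_four b _ (D.orb_cands hN b) ?_ ?_ ?_ ?_
  · refine D.orb_even hN (mul_mem hk hk) (hkk b) ?_
    rw [h2]; exact D.ne_t_of_coord (by norm_num) (by decide)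
  · exact (D.mem_orb hN).2 ⟨by norm_num, k * k, hkk b,
      h2.trans (D.elem_central b (v := 5) (by decide)).symm⟩
  · intro h
    obtain ⟨-, m, hm, hme⟩ := (D.mem_orb hN).1 h
    exact D.no_same hk hs hm (hme.trans ((D.elem_central b (v := 9) (by decide)).trans hkt.symm))
  · intro h
    obtain ⟨-, m, hm, hme⟩ := (D.mem_orb hN).1 h
    exact D.no_same (mul_mem (mul_mem hk hk) hk) h3 hm
      (hme.trans ((D.elem_central b (v := 13) (by decide)).trans h13.symm))

/-- The orbits when no element interchanges the sides. -/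
theorem sw_orb (hN : D.types = nfTypes)
    (hsw : ∀ k ∈ normalizer (D.P : Set G), k ∈ normalizer (D.A false : Set G)) (b : Bool) :
    (D.orb b).length = 8 ∧ ∀ v ∈ oddList, v ∈ D.orb b := by
  have h : ∀ w ∈ [1, 5, 9, 13], w ∈ D.orb b := by
    intro w hw
    obtain ⟨k, hk, hkt⟩ := D.exists_norm_coord hN hw
    have key : ∀ w ∈ [1, 5, 9, 13], w < 16 ∧ w ∈ zCoord := by decide
    exact (D.mem_orb hN).2 ⟨(key w hw).1, k, D.norm_all hk (hsw k hk) b,
      hkt.trans (D.elem_central b (key w hw).2).symm⟩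
  exact cands_full b _ (D.orb_cands hN b) (h 5 (by decide)) (h 9 (by decide)) (h 13 (by decide))

/-- Without interchanges `(56)` is fixed. -/
theorem sw_a (hN : D.types = nfTypes)
    (hsw : ∀ k ∈ normalizer (D.P : Set G), k ∈ normalizer (D.A false : Set G))
    {k : G} (hk : k ∈ normalizer (D.P : Set G)) : k * D.elem false 8 * k⁻¹ = D.elem false 8 := by
  refine (D.norm_values hN hk).2.resolve_right fun ha => ?_
  set N := normalizer (D.A false : Set G) with hNdef
  have kz : k * D.elem false 4 * k⁻¹ = D.elem false 4 := by rw [D.elem_pz]; exact D.conj_pz hk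
  have k12 : k * D.elem false 12 * k⁻¹ = D.elem false 8 := by
    rw [show (12 : ℕ) = 4 ^^^ 8 from rfl, D.elem_xor (by norm_num) (by norm_num),
      show k * (D.elem false 4 * D.elem false 8) * k⁻¹ = k * D.elem false 4 * k⁻¹ * (k * D.elem false 8 * k⁻¹) by group,
      kz, ha, ← D.elem_xor (by norm_num) (by norm_num)]
    rfl
  obtain ⟨w, hw, hkt⟩ := (D.norm_values hN hk).1
  have hw16 : w ∈ zCoord ∧ w < 16 :=
    (by decide : ∀ w ∈ [1, 5, 9, 13], w ∈ zCoord ∧ w < 16) w hw
  set K := N ⊓ centralizer ({D.elem false 12} : Set G) with hK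
  -- the square translates by the central double transposition
  have hkk : k * k * D.t * (k * k)⁻¹ = D.elem false 5 := by
    have hwv : k * D.elem false w * k⁻¹ = D.elem false 5 := by
      simp only [List.mem_cons, List.not_mem_nil, or_false] at hw
      have k8 : k * D.elem false 9 * k⁻¹ = D.elem false (w ^^^ 12) := by
        rw [show (9 : ℕ) = 1 ^^^ 8 from rfl, D.elem_xor (by norm_num) (by norm_num), D.elem_one,
          show k * (D.t * D.elem false 8) * k⁻¹ = k * D.t * k⁻¹ * (k * D.elem false 8 * k⁻¹) by group, hkt, ha,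
          ← D.elem_xor hw16.2 (by norm_num)]
      rcases hw with rfl | rfl | rfl | rfl
      · exfalso
        have h1 := D.act_trivial hk (p := tau) (by decide) (by rw [D.f_tau])
          (by rw [D.f_tau, hkt, D.elem_one]) (q := (side false).el 8) (zCoord_mem false 8 (by decide)).1
        change k * D.elem false 8 * k⁻¹ = D.elem false 8 at h1
        rw [ha] at h1
        exact absurd (side_el_inj false 12 (by norm_num) 8 (by norm_num) (D.f_inj h1)) (by decide)
      · exfalso
        have h1 := D.act_trivial hk (zCoord_mem false 9 (by decide)).1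
          ((D.isConj_elem hN (by norm_num)).2 (by decide)) k8 (q := (side false).el 8) (zCoord_mem false 8 (by decide)).1
        change k * D.elem false 8 * k⁻¹ = D.elem false 8 at h1
        rw [ha] at h1
        exact absurd (side_el_inj false 12 (by norm_num) 8 (by norm_num) (D.f_inj h1)) (by decide)
      · rw [k8]; rfl
      · rw [show (13 : ℕ) = 1 ^^^ 12 from rfl, D.elem_xor (by norm_num) (by norm_num), D.elem_one,
          show k * (D.t * D.elem false 12) * k⁻¹ = k * D.t * k⁻¹ * (k * D.elem false 12 * k⁻¹) by group, hkt, k12,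
          ← D.elem_xor (by norm_num) (by norm_num)]
        rfl
    rw [show k * k * D.t * (k * k)⁻¹ = k * (k * D.t * k⁻¹) * k⁻¹ by group, hkt, hwv]
  have hkN : k ∈ N := hsw k hk
  have hu12 : D.uEl false ∈ K := by
    refine mem_inf.2 ⟨D.uEl_norm false, mem_centralizer_singleton_iff.2 ?_⟩
    rw [uEl, elem, ← map_mul, ← map_mul]; congr 1; decide +kernel
  have hP : D.P ≤ K := fun g hg => by
    refine mem_inf.2 ⟨D.P_norm false hg, mem_centralizer_singleton_iff.2 ?_⟩
    exact D.f_central (zCoord_mem false 12 (by decide)).1 hg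
  have hkkK : k * k ∈ K := by
    refine mem_inf.2 ⟨mul_mem hkN hkN, mem_centralizer_singleton_iff.2 ?_⟩
    have h1 : k * (k * D.elem false 12 * k⁻¹) * k⁻¹ = D.elem false 12 := by rw [k12, ha]
    calc k * k * D.elem false 12 = k * (k * D.elem false 12 * k⁻¹) * k⁻¹ * (k * k) := by group
      _ = D.elem false 12 * (k * k) := by rw [h1]
  have hC96 : 96 ∣ Nat.card (K ⊓ centralizer ({D.t} : Set G) : Subgroup G) := by
    have h32 : 32 ∣ Nat.card (K ⊓ centralizer ({D.t} : Set G) : Subgroup G) :=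
      D.card_P ▸ card_dvd_of_le (le_inf hP D.P_le)
    have hum : D.uEl false ∈ K ⊓ centralizer ({D.t} : Set G) :=
      mem_inf.2 ⟨hu12, mem_centralizer_singleton_iff.2 (D.uEl_comm false)⟩
    have h3 : orderOf (D.uEl false) ∣ Nat.card (K ⊓ centralizer ({D.t} : Set G) : Subgroup G) :=
      Subgroup.orderOf_dvd_natCard _ hum
    have hu3 : orderOf (D.uEl false) = 3 := by
      haveI : Fact (Nat.Prime 3) := ⟨Nat.prime_three⟩
      refine orderOf_eq_prime ?_ fun h => ?_
      · rw [uEl, ← map_pow, ← map_one D.f]; congr 1; decide +kernel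
      · rw [uEl, ← map_one D.f] at h
        exact absurd (congrArg Prod.snd (D.f_inj h)) (by decide +kernel)
    rw [hu3] at h3
    exact Nat.Coprime.mul_dvd_of_dvd_of_dvd (by decide : Nat.Coprime 32 3) h32 h3
  have horb4 : 4 ≤ Nat.card {y : G // ∃ g ∈ K, g * D.t * g⁻¹ = y} := by
    let pts : Fin 4 → ℕ := ![1, 5, uLin false 5, uLin false (uLin false 5)]
    have hmem : ∀ i, ∃ g ∈ K, g * D.t * g⁻¹ = D.elem false (pts i) := by
      have hu : ∀ {v : ℕ}, v < 16 → (∃ g ∈ K, g * D.t * g⁻¹ = D.elem false v) →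
          ∃ g ∈ K, g * D.t * g⁻¹ = D.elem false (uLin false v) := by
        rintro v hv ⟨g, hg, hge⟩
        refine ⟨D.uEl false * g, mul_mem hu12 hg, ?_⟩
        rw [show D.uEl false * g * D.t * (D.uEl false * g)⁻¹ = D.uEl false * (g * D.t * g⁻¹) * (D.uEl false)⁻¹ by group,
          hge, elem, elem, uEl, ← map_inv, ← map_mul, ← map_mul, (side_actions false v hv).1]
      have h5 : ∃ g ∈ K, g * D.t * g⁻¹ = D.elem false 5 := ⟨_, hkkK, hkk⟩
      intro i
      fin_cases i
      · exact ⟨1, one_mem _, by simp [pts, D.elem_one]⟩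
      · exact h5
      · exact hu (by norm_num) h5
      · exact hu (uLin_lt false 5 (by norm_num)).1 (hu (by norm_num) h5)
    calc 4 = Nat.card (Fin 4) := by simp
      _ ≤ _ := Nat.card_le_card_of_injective (fun i => ⟨D.elem false (pts i), hmem i⟩) fun x y h => by
        have key : ∀ x y : Fin 4, pts x < 16 ∧ (pts x = pts y → x = y) := by decide +kernel
        exact (key x y).2 (side_el_inj false _ (key x y).1 _ (key y x).1 (D.f_inj (congrArg Subtype.val h)))
  have hK384 : 384 ≤ Nat.card K := by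
    have h1 := Nat.le_of_dvd Nat.card_pos hC96
    rw [D.card_orbit K]
    nlinarith
  have horb12 : 4 ≤ Nat.card {y : G // ∃ g ∈ N, g * D.elem false 12 * g⁻¹ = y} := by
    let pts : Fin 4 → ℕ := ![12, 8, uLin false 8, uLin false (uLin false 8)]
    have hmem : ∀ i, ∃ g ∈ N, g * D.elem false 12 * g⁻¹ = D.elem false (pts i) := by
      have hu : ∀ {v : ℕ}, v < 16 → (∃ g ∈ N, g * D.elem false 12 * g⁻¹ = D.elem false v) →
          ∃ g ∈ N, g * D.elem false 12 * g⁻¹ = D.elem false (uLin false v) := by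
        rintro v hv ⟨g, hg, hge⟩
        refine ⟨D.uEl false * g, mul_mem (D.uEl_norm false) hg, ?_⟩
        rw [show D.uEl false * g * D.elem false 12 * (D.uEl false * g)⁻¹ =
          D.uEl false * (g * D.elem false 12 * g⁻¹) * (D.uEl false)⁻¹ by group,
          hge, elem, elem, uEl, ← map_inv, ← map_mul, ← map_mul, (side_actions false v hv).1]
      intro i
      fin_cases i
      · exact ⟨1, one_mem _, by simp [pts]⟩
      · exact ⟨k, hkN, k12⟩
      · exact hu (by norm_num) ⟨k, hkN, k12⟩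
      · exact hu (uLin_lt false 8 (by norm_num)).1 (hu (by norm_num) ⟨k, hkN, k12⟩)
    calc 4 = Nat.card (Fin 4) := by simp
      _ ≤ _ := Nat.card_le_card_of_injective (fun i => ⟨D.elem false (pts i), hmem i⟩) fun x y h => by
        have key : ∀ x y : Fin 4, pts x < 16 ∧ (pts x = pts y → x = y) := by decide +kernel
        exact (key x y).2 (side_el_inj false _ (key x y).1 _ (key y x).1 (D.f_inj (congrArg Subtype.val h)))
  have h768 := D.card_normA hN false
  rw [(D.sw_orb hN hsw false).1, ← hNdef, card_orbit_at N (D.elem false 12)] at h768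
  rw [← hK] at h768
  nlinarith

/-- The elements of the normalizer of a side fixing `t` act as one of six maps. -/
theorem norm_cen_act {b : Bool} {q : G} (hq : q ∈ normalizer (D.A b : Set G)) (hC : q * D.t = D.t * q) :
    ∃ a ∈ sixActs b, ∀ v < 16, q * D.elem b v * q⁻¹ = D.elem b (a.getD v 0) := by
  let L := ([0, 1, 2] : List ℕ).flatMap fun m => dList.map fun d => d * (side b).u ^ m
  have hmemL : ∀ x ∈ L, ∀ i : Multiplicative (ZMod 2), D.f (i, x) ∈
      (normalizer (D.A b : Set G) ⊓ centralizer ({D.t} : Set G) : Subgroup G) := by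
    intro x hx i
    obtain ⟨m, -, hx⟩ := List.mem_flatMap.1 hx
    obtain ⟨d, hd, rfl⟩ := List.mem_map.1 hx
    have e : D.f (i, d * (side b).u ^ m) = D.f (i, d) * D.uEl b ^ m := by
      rw [uEl, ← map_pow, ← map_mul]; congr 1; simp [Prod.ext_iff]
    rw [e]
    exact mem_inf.2 ⟨mul_mem (D.P_norm b (D.f_mem_P hd)) (pow_mem (D.uEl_norm b) m),
      mul_mem (D.P_le (D.f_mem_P hd)) (pow_mem (mem_centralizer_singleton_iff.2 (D.uEl_comm b)) m)⟩
  have hbij : Function.Bijective fun x : {x : M6 // x.2 ∈ L} =>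
      (⟨D.f x.1, hmemL x.1.2 x.2 x.1.1⟩ :
        (normalizer (D.A b : Set G) ⊓ centralizer ({D.t} : Set G) : Subgroup G)) := by
    refine (Nat.bijective_iff_injective_and_card _).2
      ⟨fun x y h => Subtype.ext (D.f_inj (congrArg Subtype.val h)), ?_⟩
    rw [D.card_norm_cen]
    have e : Nat.card {x : M6 // x.2 ∈ L} = Nat.card (Multiplicative (ZMod 2)) * L.toFinset.card := by
      rw [← Nat.card_eq_finsetCard, ← Nat.card_prod]
      exact Nat.card_congr ⟨fun x => (x.1.1, ⟨x.1.2, List.mem_toFinset.2 x.2⟩),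
        fun x => ⟨(x.1, x.2.1), List.mem_toFinset.1 x.2.2⟩, fun _ => rfl, fun _ => rfl⟩
    rw [e, List.toFinset_card_of_nodup (norm_products_nodup b), Nat.card_eq_fintype_card,
      Fintype.card_multiplicative, ZMod.card]
    simp [L, List.length_flatMap, dList]
  obtain ⟨⟨⟨i, x⟩, hx⟩, hxe⟩ := hbij.2 ⟨q, mem_inf.2 ⟨hq, mem_centralizer_singleton_iff.2 hC⟩⟩
  have hqe : D.f (i, x) = q := congrArg Subtype.val hxe
  obtain ⟨m, hm, hx'⟩ := List.mem_flatMap.1 hx
  obtain ⟨d, hd, rfl⟩ := List.mem_map.1 hx'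
  have hu : ∀ v < 16, D.uEl b ^ m * D.elem b v * (D.uEl b ^ m)⁻¹ = D.elem b (uPow b m v) ∧ uPow b m v < 16 := by
    intro v hv
    clear hm hqe hx hx' hxe
    induction m with
    | zero => simp [uPow, hv]
    | succ r ih =>
      obtain ⟨ih1, ih2⟩ := ih
      refine ⟨?_, (uLin_lt b _ ih2).1⟩
      rw [pow_succ', show D.uEl b * D.uEl b ^ r * D.elem b v * (D.uEl b * D.uEl b ^ r)⁻¹ =
        D.uEl b * (D.uEl b ^ r * D.elem b v * (D.uEl b ^ r)⁻¹) * (D.uEl b)⁻¹ by group, ih1, elem, elem, uEl,
        ← map_inv, ← map_mul, ← map_mul, (side_actions b _ ih2).1]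
      rfl
  have hact : ∀ v < 16, q * D.elem b v * q⁻¹ =
      D.elem b (if d ∈ (side b).eList then uPow b m v else sLin (uPow b m v)) := by
    intro v hv
    have e : q = D.f (i, 1) * (D.f (1, d) * D.uEl b ^ m) := by
      rw [← hqe, uEl, ← map_pow, ← map_mul, ← map_mul]; congr 1; simp [Prod.ext_iff]
    rw [e, show D.f (i, 1) * (D.f (1, d) * D.uEl b ^ m) * D.elem b v * (D.f (i, 1) * (D.f (1, d) * D.uEl b ^ m))⁻¹ =
      D.f (i, 1) * (D.f (1, d) * (D.uEl b ^ m * D.elem b v * (D.uEl b ^ m)⁻¹) * (D.f (1, d))⁻¹) * (D.f (i, 1))⁻¹ by group,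
      (hu v hv).1]
    have h1 : D.f (1, d) * D.elem b (uPow b m v) * (D.f (1, d))⁻¹ =
        D.elem b (if d ∈ (side b).eList then uPow b m v else sLin (uPow b m v)) := by
      rw [elem, ← map_inv, ← map_mul, ← map_mul, dList_act b d hd _ (hu v hv).2]; rfl
    rw [h1, elem, ← map_inv, ← map_mul, ← map_mul]
    congr 1
    exact Prod.ext (mul_inv_cancel_comm _ _) (by simp)
  by_cases hde : d ∈ (side b).eList
  · refine ⟨(List.range 16).map fun v => uPow b m v,
      List.mem_flatMap.2 ⟨m, hm, List.mem_cons_self ..⟩, fun v hv => ?_⟩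
    rw [hact v hv, if_pos hde]
    simp [List.getD_eq_getElem?_getD, hv]
  · refine ⟨(List.range 16).map fun v => sLin (uPow b m v),
      List.mem_flatMap.2 ⟨m, hm, List.mem_cons_of_mem _ (List.mem_cons_self ..)⟩, fun v hv => ?_⟩
    rw [hact v hv, if_neg hde]
    simp [List.getD_eq_getElem?_getD, hv]

/-- A translation by the fixed vector is nearly trivial on the generator. -/
theorem translation {b : Bool} {h : G} (hA : h ∈ normalizer (D.A b : Set G))
    (ht : h * D.t * h⁻¹ = D.elem b (tw b)) (hz : h * D.elem b 4 * h⁻¹ = D.elem b 4)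
    (ha : h * D.elem b 8 * h⁻¹ = D.elem b 8) {x : ℕ} (hx : x ∈ [0, 4, 8, 12])
    (he : h * D.elem b 2 * h⁻¹ = D.elem b (2 ^^^ x)) : x = 0 ∨ x = 4 := by
  have hx16 : 2 ^^^ x < 16 := (by decide : ∀ x ∈ [0, 4, 8, 12], 2 ^^^ x < 16) x hx
  have htw : tw b < 16 := by cases b <;> decide
  set u := D.uEl b with hu
  set q := h⁻¹ * (u * h * u⁻¹) with hq
  have hut : u * D.elem b (tw b) * u⁻¹ = D.elem b (tw b) := by
    rw [hu, uEl, elem, ← map_inv, ← map_mul, ← map_mul]
    have key : ∀ b, ((1 : Multiplicative (ZMod 2)), (side b).u) * (side b).el (tw b) * (1, (side b).u)⁻¹ =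
        (side b).el (tw b) := by decide +kernel
    rw [key b]
  have huc : u * D.t = D.t * u := D.uEl_comm b
  have hqC : q * D.t = D.t * q := by
    have h1 : u⁻¹ * D.t * u = D.t := by rw [mul_assoc, ← huc, inv_mul_cancel_left]
    refine mul_inv_eq_iff_eq_mul.1 ?_
    calc q * D.t * q⁻¹ = h⁻¹ * (u * (h * (u⁻¹ * D.t * u) * h⁻¹) * u⁻¹) * h := by rw [hq]; group
      _ = h⁻¹ * (h * D.t * h⁻¹) * h := by rw [h1, ht, hut]
      _ = D.t := by group
  obtain ⟨a, ha', hact⟩ := D.norm_cen_act (b := b) (q := q) (mul_mem (inv_mem hA)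
    (mul_mem (mul_mem (D.uEl_norm b) hA) (inv_mem (D.uEl_norm b)))) hqC
  refine translation_check b x hx ⟨a, ha', fun v hv => ?_⟩
  rw [List.mem_range] at hv
  have hconj : ∀ {w : ℕ}, w < 16 → h * D.elem b w * h⁻¹ = D.elem b (lin (tw b) (2 ^^^ x) 4 8 w) :=
    fun {w} hw => D.conj_lin htw hx16 (by norm_num) (by norm_num) (by rw [D.elem_one]; exact ht) he hz ha hw
  have hU : ∀ w < 16, u * D.elem b w * u⁻¹ = D.elem b (uLin b w) := fun w hw => by
    rw [hu, uEl, elem, elem, ← map_inv, ← map_mul, ← map_mul, (side_actions b w hw).1]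
  have hl : ∀ w, lin (tw b) (2 ^^^ x) 4 8 w < 16 := lin_lt htw hx16 (by norm_num) (by norm_num)
  have hav : a.getD (uLin b v) 0 < 16 := by
    have key : ∀ b, ∀ a ∈ sixActs b, ∀ w < 16, a.getD w 0 < 16 := by decide +kernel
    exact key b a ha' _ (uLin_lt b v hv).1
  refine side_el_inj b _ (uLin_lt b _ (hl v)).1 _ (hl _) (D.f_inj ?_)
  show D.elem b _ = D.elem b _
  rw [← hU _ (hl v), ← hconj hv, ← hconj hav, ← hact _ (uLin_lt b v hv).1, ← hU v hv, hq]
  group

end Cfg

end CfsgLib.TwoSymSix
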