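import Cfsg.Agent.Lib.Rec.TwoSymSix.Basic

/-!
# The finite facts about symmetric groups, checked on lists of images
-/

set_option autoImplicit false

namespace CfsgLib.TwoSymSix

attribute [local instance 10000] List.decidableBAll List.decidableBEx Finset.decidableDforallFinset

open Equiv

variable {n : ℕ}

/-- The images of a permutation, as a list. -/
def code (π : Perm (Fin n)) : List ℕ := List.ofFn fun i => (π i : ℕ)

/-- Composition of lists of images. -/
def lmul (p q : List ℕ) : List ℕ := q.map fun i => p.getD i 0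

theorem code_mul (π σ : Perm (Fin n)) : code (π * σ) = lmul (code π) (code σ) := by
  apply List.ext_getElem (by simp [code, lmul])
  intro i h1 h2
  simp [code, lmul]

theorem code_injective : Function.Injective (code (n := n)) := by
  intro π σ h
  ext i
  have := congrArg (fun l : List ℕ => l[i.val]?) h
  simpa [code, Fin.ext_iff] using this

/-- All lists of images. -/
def allCodes (n : ℕ) : List (List ℕ) := (List.range n).permutations'

theorem code_mem (π : Perm (Fin n)) : code π ∈ allCodes n := by
  rw [allCodes, List.mem_permutations']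
  have h := Equiv.Perm.ofFn_comp_perm π (fun i : Fin n => (i : ℕ))
  rwa [show List.ofFn (fun i : Fin n => (i : ℕ)) = List.range n by
    apply List.ext_getElem (by simp); intro i h1 h2; simp] at h

/-- Membership of a conjugate in a list, without inverses. -/
def inMap (l x : List ℕ) (L : List (List ℕ)) : Bool := L.any fun y => lmul l x == lmul y l

theorem inMap_iff {j : Perm (Fin 6) →* Perm (Fin n)} {L : List (Perm (Fin 6))} {π : Perm (Fin n)}
    {x : Perm (Fin 6)} {CL : List (List ℕ)} (hL : L.map (fun p => code (j p)) = CL) {cx : List ℕ}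
    (hx : code (j x) = cx) : inMap (code π) cx CL = true ↔ π * j x * π⁻¹ ∈ L.map j := by
  subst hL hx
  simp only [inMap, List.any_eq_true, List.mem_map, beq_iff_eq, ← code_mul]
  constructor
  · rintro ⟨y, ⟨p, hp, rfl⟩, h⟩
    refine ⟨p, hp, eq_mul_inv_of_mul_eq ?_⟩
    rw [← code_mul] at h
    exact (code_injective h).symm
  · rintro ⟨p, hp, h⟩
    refine ⟨_, ⟨p, hp, rfl⟩, ?_⟩
    rw [← code_mul, h, inv_mul_cancel_right]

theorem mem_map_code {j : Perm (Fin 6) →* Perm (Fin n)} {L : List (Perm (Fin 6))} {π : Perm (Fin n)}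
    {CL : List (List ℕ)} (hL : L.map (fun p => code (j p)) = CL) :
    code π ∈ CL ↔ π ∈ L.map j := by
  subst hL
  simp only [List.mem_map]
  exact ⟨fun ⟨p, hp, h⟩ => ⟨p, hp, code_injective h⟩, fun ⟨p, hp, h⟩ => ⟨p, hp, by rw [h]⟩⟩

theorem comm_iff {π σ : Perm (Fin n)} {cx : List ℕ} (hx : code σ = cx) :
    (lmul (code π) cx == lmul cx (code π)) = true ↔ π * σ = σ * π := by
  subst hx
  rw [beq_iff_eq, ← code_mul, ← code_mul]
  exact code_injective.eq_iff

theorem card_filter_codes (P : List ℕ → Bool) (hlen : (allCodes n).length = n.factorial)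
    (Q : Perm (Fin n) → Prop) (hQ : ∀ π, P (code π) = true ↔ Q π) :
    Nat.card {π : Perm (Fin n) // Q π} = ((allCodes n).filter P).length := by
  classical
  have hnd : (allCodes n).Nodup := (List.permutations_perm_permutations' _).nodup_iff.1 (List.nodup_permutations _ List.nodup_range)
  have himg : (Finset.univ : Finset (Perm (Fin n))).image code = (allCodes n).toFinset := by
    refine Finset.eq_of_subset_of_card_le ?_ ?_
    · intro l hl
      obtain ⟨π, -, rfl⟩ := Finset.mem_image.1 hl
      exact List.mem_toFinset.2 (code_mem π)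
    · rw [List.toFinset_card_of_nodup hnd, hlen, Finset.card_image_of_injective _ code_injective,
        Finset.card_univ, Fintype.card_perm, Fintype.card_fin]
  rw [← List.toFinset_card_of_nodup (hnd.filter _), List.toFinset_filter, ← himg, Finset.filter_image,
    Finset.card_image_of_injective _ code_injective, Nat.card_eq_fintype_card, Fintype.card_subtype]
  congr 1
  ext π
  simp [hQ]

/-- The numerical data of an embedding. -/
structure Codes where
  /-- the Sylow subgroup -/
  dl : List (List ℕ)
  /-- the first elementary subgroup -/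
  al : List (List ℕ)
  /-- the second elementary subgroup -/
  bl : List (List ℕ)
  /-- first generator -/
  e : List ℕ
  /-- second generator -/
  f : List ℕ
  /-- the fixed transposition -/
  a : List ℕ
  /-- the central element -/
  z : List ℕ
  /-- the identity -/
  one : List ℕ

/-- The checks on one list of images. -/
def Codes.ok (c : Codes) (l : List ℕ) : Bool :=
  (!(lmul l c.e == lmul c.e l && lmul l c.a == lmul c.a l && lmul l c.z == lmul c.z l) || c.al.contains l) &&
  (!(lmul l c.f == lmul c.f l && lmul l c.a == lmul c.a l && lmul l c.z == lmul c.z l) || c.bl.contains l) &&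
  (!(inMap l c.e c.dl && inMap l c.f c.dl && inMap l c.a c.dl) || c.dl.contains l) &&
  !(inMap l c.e c.bl && inMap l c.a c.bl && inMap l c.z c.bl) &&
  (!(lmul l c.a == lmul c.a l && c.al.contains (lmul l l)) || (lmul l l == c.one || lmul l l == c.z))

/-- The checks give the facts. -/
theorem facts_of_codes (j : Perm (Fin 6) →* Perm (Fin n)) (hj : Function.Injective j) (c : Codes)
    (hd : dList.map (fun p => code (j p)) = c.dl) (ha : sideA.eList.map (fun p => code (j p)) = c.al)
    (hb : sideB.eList.map (fun p => code (j p)) = c.bl) (he : code (j pe) = c.e) (hf : code (j pf) = c.f)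
    (hA : code (j pa) = c.a) (hz : code (j pz) = c.z) (h1 : code (1 : Perm (Fin n)) = c.one)
    (hcard : ∃ m : ℕ, Odd m ∧ n.factorial = 16 * m) (hlen : (allCodes n).length = n.factorial)
    (hok : (allCodes n).all c.ok = true)
    (hnA : ((allCodes n).filter fun l => inMap l c.e c.al && inMap l c.a c.al && inMap l c.z c.al).length = 48)
    (hnB : ((allCodes n).filter fun l => inMap l c.f c.bl && inMap l c.a c.bl && inMap l c.z c.bl).length = 48) :
    Facts j := by
  have hall : ∀ π : Perm (Fin n), c.ok (code π) = true := fun π => List.all_eq_true.1 hok _ (code_mem π)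
  simp only [Codes.ok, Bool.and_eq_true, Bool.or_eq_true, Bool.not_eq_true', ← Bool.not_eq_true,
    List.contains_iff_mem] at hall
  refine ⟨hj, ?_, fun π q1 q2 q3 => ?_, fun π q1 q2 q3 => ?_, fun π q1 q2 q3 => ?_, fun π q1 q2 q3 => ?_,
    fun π q1 q2 => ?_, ?_, ?_⟩
  · obtain ⟨m, hm, hc⟩ := hcard
    exact ⟨m, hm, by rw [Nat.card_eq_fintype_card, Fintype.card_perm, Fintype.card_fin, hc]⟩
  · exact (mem_map_code ha).1 ((hall π).1.1.1.1.resolve_left fun h =>
      h ⟨⟨(comm_iff he).2 q1, (comm_iff hA).2 q2⟩, (comm_iff hz).2 q3⟩)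
  · exact (mem_map_code hb).1 ((hall π).1.1.1.2.resolve_left fun h =>
      h ⟨⟨(comm_iff hf).2 q1, (comm_iff hA).2 q2⟩, (comm_iff hz).2 q3⟩)
  · exact (mem_map_code hd).1 ((hall π).1.1.2.resolve_left fun h =>
      h ⟨⟨(inMap_iff hd he).2 q1, (inMap_iff hd hf).2 q2⟩, (inMap_iff hd hA).2 q3⟩)
  · exact (hall π).1.2 ⟨⟨(inMap_iff hb he).2 q1, (inMap_iff hb hA).2 q2⟩, (inMap_iff hb hz).2 q3⟩
  · have hsq : lmul (code π) (code π) ∈ c.al := by rw [← code_mul]; exact (mem_map_code ha).2 q2
    rcases (hall π).2.resolve_left fun h => h ⟨(comm_iff hA).2 q1, hsq⟩ with h | h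
    · refine Or.inl (code_injective ?_)
      rw [code_mul, h1]; exact beq_iff_eq.1 h
    · refine Or.inr (code_injective ?_)
      rw [code_mul, hz]; exact beq_iff_eq.1 h
  · refine (card_filter_codes (fun l => inMap l c.e c.al && inMap l c.a c.al && inMap l c.z c.al) hlen _
      fun π => ?_).trans hnA
    simp only [Bool.and_eq_true, inMap_iff ha he, inMap_iff ha hA, inMap_iff ha hz, and_assoc]
  · refine (card_filter_codes (fun l => inMap l c.f c.bl && inMap l c.a c.bl && inMap l c.z c.bl) hlen _
      fun π => ?_).trans hnB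
    simp only [Bool.and_eq_true, inMap_iff hb hf, inMap_iff hb hA, inMap_iff hb hz, and_assoc]

end CfsgLib.TwoSymSix
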