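import Cfsg.Agent.Lib.Rec.TwoSymSix.Facts

/-!
# The facts for the degree 7
-/

set_option autoImplicit false
set_option maxRecDepth 100000

namespace CfsgLib.TwoSymSix

attribute [local instance 10000] List.decidableBAll List.decidableBEx Finset.decidableDforallFinset

open Equiv

/-- The six points among seven. -/
def six : Fin 6 ≃ {i : Fin 7 // i.val < 6} where
  toFun i := ⟨⟨i.val, by omega⟩, i.isLt⟩
  invFun i := ⟨i.1.val, i.2⟩
  left_inv _ := rfl
  right_inv _ := rfl

/-- Permutations of six points as permutations of seven. -/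
def emb7 : Perm (Fin 6) →* Perm (Fin 7) := Perm.extendDomainHom six

theorem emb7_inj : Function.Injective emb7 := Perm.extendDomainHom_injective six

/-- The codes. -/
def codes7 : Codes where
  dl := [[0,1,2,3,4,5,6], [1,0,2,3,4,5,6], [2,3,0,1,4,5,6], [2,3,1,0,4,5,6], [1,0,3,2,4,5,6], [0,1,3,2,4,5,6], [3,2,1,0,4,5,6], [3,2,0,1,4,5,6], [0,1,2,3,5,4,6], [1,0,2,3,5,4,6], [2,3,0,1,5,4,6], [2,3,1,0,5,4,6], [1,0,3,2,5,4,6], [0,1,3,2,5,4,6], [3,2,1,0,5,4,6], [3,2,0,1,5,4,6]]
  al := [[0,1,2,3,4,5,6], [1,0,2,3,4,5,6], [1,0,3,2,4,5,6], [0,1,3,2,4,5,6], [0,1,2,3,5,4,6], [1,0,2,3,5,4,6], [1,0,3,2,5,4,6], [0,1,3,2,5,4,6]]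
  bl := [[0,1,2,3,4,5,6], [2,3,0,1,4,5,6], [1,0,3,2,4,5,6], [3,2,1,0,4,5,6], [0,1,2,3,5,4,6], [2,3,0,1,5,4,6], [1,0,3,2,5,4,6], [3,2,1,0,5,4,6]]
  e := [1,0,2,3,4,5,6]
  f := [2,3,0,1,4,5,6]
  a := [0,1,2,3,5,4,6]
  z := [1,0,3,2,4,5,6]
  one := [0,1,2,3,4,5,6]

theorem codes7_len : (allCodes 7).length = Nat.factorial 7 := by decide +kernel

theorem codes7_ok : (allCodes 7).all codes7.ok = true := by decide +kernel

theorem codes7_norA :
    ((allCodes 7).filter fun l => inMap l codes7.e codes7.al && inMap l codes7.a codes7.al &&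
      inMap l codes7.z codes7.al).length = 48 := by decide +kernel

theorem codes7_norB :
    ((allCodes 7).filter fun l => inMap l codes7.f codes7.bl && inMap l codes7.a codes7.bl &&
      inMap l codes7.z codes7.bl).length = 48 := by decide +kernel

theorem facts7 : Facts emb7 :=
  facts_of_codes _ emb7_inj codes7 (by decide +kernel) (by decide +kernel) (by decide +kernel)
    (by decide +kernel) (by decide +kernel) (by decide +kernel) (by decide +kernel) (by decide +kernel)
    ⟨315, by decide, by decide +kernel⟩ codes7_len codes7_ok codes7_norA codes7_norB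

end CfsgLib.TwoSymSix
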