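import Cfsg.Agent.Lib.Rec.TwoSymSix.Facts

/-!
# The facts for the degree 6
-/

set_option autoImplicit false
set_option maxRecDepth 100000

namespace CfsgLib.TwoSymSix

attribute [local instance 10000] List.decidableBAll List.decidableBEx Finset.decidableDforallFinset

open Equiv

/-- The codes. -/
def codes6 : Codes where
  dl := [[0,1,2,3,4,5], [1,0,2,3,4,5], [2,3,0,1,4,5], [2,3,1,0,4,5], [1,0,3,2,4,5], [0,1,3,2,4,5], [3,2,1,0,4,5], [3,2,0,1,4,5], [0,1,2,3,5,4], [1,0,2,3,5,4], [2,3,0,1,5,4], [2,3,1,0,5,4], [1,0,3,2,5,4], [0,1,3,2,5,4], [3,2,1,0,5,4], [3,2,0,1,5,4]]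
  al := [[0,1,2,3,4,5], [1,0,2,3,4,5], [1,0,3,2,4,5], [0,1,3,2,4,5], [0,1,2,3,5,4], [1,0,2,3,5,4], [1,0,3,2,5,4], [0,1,3,2,5,4]]
  bl := [[0,1,2,3,4,5], [2,3,0,1,4,5], [1,0,3,2,4,5], [3,2,1,0,4,5], [0,1,2,3,5,4], [2,3,0,1,5,4], [1,0,3,2,5,4], [3,2,1,0,5,4]]
  e := [1,0,2,3,4,5]
  f := [2,3,0,1,4,5]
  a := [0,1,2,3,5,4]
  z := [1,0,3,2,4,5]
  one := [0,1,2,3,4,5]

theorem codes6_len : (allCodes 6).length = Nat.factorial 6 := by decide +kernel

theorem codes6_ok : (allCodes 6).all codes6.ok = true := by decide +kernel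

theorem codes6_norA :
    ((allCodes 6).filter fun l => inMap l codes6.e codes6.al && inMap l codes6.a codes6.al &&
      inMap l codes6.z codes6.al).length = 48 := by decide +kernel

theorem codes6_norB :
    ((allCodes 6).filter fun l => inMap l codes6.f codes6.bl && inMap l codes6.a codes6.bl &&
      inMap l codes6.z codes6.bl).length = 48 := by decide +kernel

theorem facts6 : Facts (MonoidHom.id (Perm (Fin 6))) :=
  facts_of_codes _ (fun _ _ h => h) codes6 (by decide +kernel) (by decide +kernel) (by decide +kernel)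
    (by decide +kernel) (by decide +kernel) (by decide +kernel) (by decide +kernel) (by decide +kernel)
    ⟨45, by decide, by decide +kernel⟩ codes6_len codes6_ok codes6_norA codes6_norB

end CfsgLib.TwoSymSix
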