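import Cfsg.Agent.Lib.Rec.TwoSymSix.HoleBase

/-!
# The end of the interchanging case
-/

set_option autoImplicit false
set_option synthInstance.maxSize 4000
set_option linter.unusedSectionVars false

namespace CfsgLib.TwoSymSix

attribute [local instance 10000] List.decidableBAll List.decidableBEx Finset.decidableDforallFinset

open Equiv Subgroup

theorem xCoord_mem : ∀ d < 4, xCoord 0 d ∈ pSub := by decide +kernel

theorem zcM_low : ∀ c < 4, sig (zcM c) * zcM c = 1 := by decide +kernel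

theorem twin_diff : ∀ p ∈ zList, sig p * p = 1 → ∃ c < 4, p = zcM c := by decide +kernel

theorem conj_sides : ∀ b, ∀ v ∈ quadList, ∀ p ∈ pFin, ∃ c ∈ [0, 2],
    p * (1, (side b).s) * p⁻¹ = (1, (side b).s) * zcM c := by decide +kernel

theorem quad_back : ∀ b, ∀ v ∈ quadList, tLin b v ∈ [1, 5, 9, 13] := by decide +kernel

theorem central_to_quad : ∀ b, ∀ v ∈ [1, 5, 9, 13], tLin b v ∈ quadList := by decide +kernel

theorem odd_split : ∀ v < 16, v.testBit 0 = true → v ∈ [1, 5, 9, 13] ∨ v ∈ quadList := by decide +kernel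

theorem sEl_coord : ∀ b, ∃ v ∈ [2], (side (!b)).el v = (1, (side b).s) := by decide +kernel

namespace Cfg

variable {G : Type*} [Group G] [Finite G] {n : ℕ} {D : Cfg G n} {k g : G}

theorem sEl_eq (D : Cfg G n) (b : Bool) : D.sEl b = D.elem (!b) 2 := by
  obtain ⟨v, hv, hve⟩ := sEl_coord b
  simp only [List.mem_cons, List.not_mem_nil, or_false] at hv
  subst hv
  exact congrArg D.f hve.symm

theorem Swap.conj_wd (hk : D.Swap k) {x y : ℕ} (hx : k * D.elem false 2 * k⁻¹ = D.elem true (2 ^^^ x))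
    (hy : k * D.elem true 2 * k⁻¹ = D.elem false (2 ^^^ y)) (i a b c e : Bool) :
    k * D.f (wd i a b c e) * k⁻¹ = D.f (sigK x y i a b c e) := by
  let φ : M6 →* G := (MulAut.conj k).toMonoidHom.comp D.f
  have hφ : ∀ p, φ p = k * D.f p * k⁻¹ := fun p => rfl
  have e1 : φ tau = D.f (tau * (1, pa)) := by
    rw [hφ, D.f_tau, hk.img, elem]
    exact congrArg D.f (by decide +kernel)
  have e2 : φ (1, pe) = D.f ((side true).el (2 ^^^ x)) := by
    rw [hφ, show D.f (1, pe) = D.elem false 2 from congrArg D.f (by decide +kernel), hx, elem]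
  have e3 : φ (1, pf) = D.f ((side false).el (2 ^^^ y)) := by
    rw [hφ, show D.f (1, pf) = D.elem true 2 from congrArg D.f (by decide +kernel), hy, elem]
  have e4 : φ (1, pz) = D.f (1, pz) := by rw [hφ, D.conj_pz hk.mem]
  have e5 : φ (1, pa) = D.f (1, pa * pz) := by
    rw [hφ, f_pa_eq, hk.a_img, elem]
    exact congrArg D.f (by decide +kernel)
  rw [← hφ, wd, sigK]
  cases i <;> cases a <;> cases b <;> cases c <;> cases e <;>
    simp only [if_true, if_false, Bool.false_eq_true, map_mul, map_one, e1, e2, e3, e4, e5]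

theorem twin_values (hg : D.Twin g) {h : G} (hh : D.Twin h) (hgg : g * g = 1) (hhh : h * h = 1) :
    ∃ c < 4, h = g * D.zc c := by
  have e : ∀ {v : ℕ} {b : Bool}, v < 16 → gLin v = v → g⁻¹ * h * D.elem b v * (g⁻¹ * h)⁻¹ = D.elem b v := by
    intro v b hv hfix
    have h1 := hg.act b hv
    rw [hfix] at h1
    calc g⁻¹ * h * D.elem b v * (g⁻¹ * h)⁻¹ = g⁻¹ * (h * D.elem b v * h⁻¹) * g := by group
      _ = g⁻¹ * (g * D.elem b v * g⁻¹) * g := by rw [hh.act b hv, hfix, h1]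
      _ = _ := by group
  have ht : g⁻¹ * h * D.t * (g⁻¹ * h)⁻¹ = D.t := by
    calc g⁻¹ * h * D.t * (g⁻¹ * h)⁻¹ = g⁻¹ * (h * D.t * h⁻¹) * g := by group
      _ = g⁻¹ * (g * D.t * g⁻¹) * g := by rw [hh.t_img, hg.t_img]
      _ = _ := by group
  obtain ⟨p, hp, hpe⟩ := D.central_of_fix (mul_mem (inv_mem hg.mem) hh.mem) ht
    (e (by norm_num) (by decide)) (e (by norm_num) (by decide))
  obtain rfl : h = g * D.f p := by rw [hpe]; group
  obtain ⟨c, hc, rfl⟩ := twin_diff p hp (D.f_inj (by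
    rw [map_mul, map_one, ← show g * D.f p * g⁻¹ = D.f (sig p) from hg.conj_f D (zList_central p hp).1,
      inv_eq_of_mul_eq_one_right hgg]
    calc g * D.f p * g * D.f p = g * D.f p * (g * D.f p) := by group
      _ = 1 := hhh))
  exact ⟨c, hc, rfl⟩

theorem Twin.conj_swap (hk : D.Swap k) (hg : D.Twin g) : D.Twin (k * g * k⁻¹) := by
  have hm := TOne_norm_M hk.nf hg hk.mem hg.mem_M
  refine ⟨hm.1, hm.2.resolve_left fun e => ?_, fun q hq => ?_⟩
  · have hP := D.mem_P_of_fix hm.1 e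
    have h1 : g * D.t * g⁻¹ = D.t := by
      have hkn := (mem_normalizer_iff.1 hk.mem g).2 hP
      exact mul_inv_eq_iff_eq_mul.2 (mem_centralizer_singleton_iff.1 (D.P_le hkn))
    rw [hg.t_img, mul_eq_left, ← map_one D.f] at h1
    exact absurd (congrArg Prod.snd (D.f_inj h1)) (by decide +kernel)
  · obtain ⟨b, v, hv, hve⟩ : ∃ b, ∃ v ∈ evenList, (side b).el v = (1, q) :=
      (by decide +kernel : ∀ q ∈ [pe, pf, pz, pa], ∃ b, ∃ v ∈ evenList, (side b).el v = (1, q)) q hq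
    obtain ⟨hv16, hv0⟩ := evenList_spec v hv
    -- the preimage is fixed by the twin
    have hmem : k⁻¹ * D.elem b v * k ∈ D.A (!b) := by
      obtain ⟨c, hc⟩ := D.image_cases (b := !b) (k := k) fun g hg => (mem_normalizer_iff.1 hk.mem g).1 (D.A_le _ hg)
      have hcb : c = b := by
        rcases Bool.eq_or_eq_not c b with e | e
        · exact e
        · exfalso
          have h1 : k * D.elem (!b) 3 * k⁻¹ ∈ D.A b := by
            have := D.swap_maps hk.mem hk.out (!b) (D.elem_mem (b := !b) (v := 3) (by norm_num))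
            rwa [Bool.not_not] at this
          have h2 : k * D.elem (!b) 3 * k⁻¹ ∈ D.A (!b) := by
            have h := hc.le (mem_map_of_mem _ (D.elem_mem (b := !b) (v := 3) (by norm_num)))
            rw [e] at h
            exact h
          obtain ⟨r, hr, hre⟩ := D.exists_elem h1
          obtain ⟨s, hs, hse⟩ := D.exists_elem h2
          have hz : ∀ b, ∀ r < 16, ∀ s < 16, (side b).el r = (side (!b)).el s → r ∈ zCoord := by decide +kernel
          have hr' := hz b r hr s hs (D.f_inj (hre.trans hse.symm))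
          obtain ⟨p, hp, hpe⟩ := D.conj_zList (inv_mem hk.mem) (zCoord_mem b r hr').1
          rw [inv_inv, show D.f ((side b).el r) = k * D.elem (!b) 3 * k⁻¹ from hre,
            show k⁻¹ * (k * D.elem (!b) 3 * k⁻¹) * k = D.elem (!b) 3 by group] at hpe
          obtain ⟨u, hu, rfl⟩ := zList_coord (!b) p hp
          exact absurd (side_el_inj (!b) 3 (by norm_num) u (zCoord_mem (!b) u hu).2 (D.f_inj hpe) ▸ hu) (by decide)
      subst hcb
      obtain ⟨a, ha, hae⟩ := hc.ge (D.elem_mem (b := c) hv16)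
      rw [← hae]
      simp only [MulEquiv.coe_toMonoidHom, MulAut.conj_apply]
      rwa [show k⁻¹ * (k * a * k⁻¹) * k = a by group]
    obtain ⟨w, hw, hwe⟩ := D.exists_elem hmem
    have hw0 : w.testBit 0 = false := by
      by_contra hc
      rw [Bool.not_eq_false, ← D.isConj_elem hk.nf (b := !b) hw, hwe] at hc
      have := (D.isConj_conj k _).2 hc
      rw [show k * (k⁻¹ * D.elem b v * k) * k⁻¹ = D.elem b v by group, D.isConj_elem hk.nf hv16, hv0] at this
      exact absurd this (by decide)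
    have hfix := hg.act (!b) hw
    rw [(by decide +kernel : ∀ w < 16, w.testBit 0 = false → gLin w = w) w hw hw0, hwe] at hfix
    rw [show D.f (1, q) = D.elem b v from congrArg D.f hve.symm]
    calc k * g * k⁻¹ * D.elem b v * (k * g * k⁻¹)⁻¹ = k * (g * (k⁻¹ * D.elem b v * k) * g⁻¹) * k⁻¹ := by group
      _ = _ := by rw [hfix]; group

theorem xCoord_conj (hN : D.types = nfTypes) (hnI : ∀ g, D.Twin g → ¬ IsConj D.t g) (hg : D.Twin g)
    (hgg : g * g = 1) {d : ℕ} (hd : d < 4) : IsConj D.t (g * D.f (xCoord 0 d)) := by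
  have hsub : D.MX ⊆ (fun d : Fin 4 => g * D.f (xCoord 0 d)) '' Set.univ := by
    intro y hy
    obtain ⟨-, e, he, hee⟩ := MX_coord hN hnI hg (c := 0) (by norm_num) (by rw [hgg, D.zc_zero]) hy
    exact ⟨⟨e, he⟩, trivial, hee.symm⟩
  have h4 : D.MX.ncard = 4 := by
    rw [← tau3_onto_X hN hnI hg hgg false,
      Set.ncard_image_of_injective (f := fun y => D.tau3 g false * y * (D.tau3 g false)⁻¹) _
        fun x y e => (MulAut.conj (D.tau3 g false)).injective e,
      ← Nat.card_coe_set_eq, card_QE]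
  have heq : D.MX = (fun d : Fin 4 => g * D.f (xCoord 0 d)) '' Set.univ := by
    refine Set.eq_of_subset_of_ncard_le hsub ?_ (Set.toFinite _)
    refine (Set.ncard_image_le (Set.toFinite _)).trans ?_
    simp [h4]
  have : g * D.f (xCoord 0 d) ∈ D.MX := heq ▸ ⟨⟨d, hd⟩, trivial, rfl⟩
  exact this.1

/-- The interchanging element fixes the pair of the twin of order two. -/
theorem Swap.conj_twin (hk : D.Swap k) (hnI : ∀ g, D.Twin g → ¬ IsConj D.t g) (hg : D.Twin g) (hgg : g * g = 1) :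
    k * g * k⁻¹ = g ∨ k * g * k⁻¹ = g * D.f (1, pz) := by
  have hN := hk.nf
  obtain ⟨c, hc, hce⟩ := twin_values hg (hg.conj_swap hk) hgg (by
    calc k * g * k⁻¹ * (k * g * k⁻¹) = k * (g * g) * k⁻¹ := by group
      _ = 1 := by rw [hgg]; group)
  obtain ⟨x, hx, hxe⟩ := hk.e_img false
  obtain ⟨y, hy, hye⟩ := hk.e_img true
  simp only [Bool.not_false, Bool.not_true] at hxe hye
  have hkk : k * k * D.t * (k * k)⁻¹ = D.t * D.f (1, pz) := by
    rw [show k * k * D.t * (k * k)⁻¹ = k * (k * D.t * k⁻¹) * k⁻¹ by group, hk.img,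
      show (9 : ℕ) = 1 ^^^ 8 from rfl, D.elem_xor (by norm_num) (by norm_num), D.elem_one,
      Cfg.adjust.conj_mul_split, hk.img, hk.a_img, ← D.elem_xor (by norm_num) (by norm_num), ← elem_t_pz false]
    rfl
  have hfix : g⁻¹ * (k * k) * D.t * (g⁻¹ * (k * k))⁻¹ = D.t := by
    calc g⁻¹ * (k * k) * D.t * (g⁻¹ * (k * k))⁻¹ = g⁻¹ * (k * k * D.t * (k * k)⁻¹) * g := by group
      _ = g⁻¹ * (g * D.t * g⁻¹) * g := by rw [hkk, hg.t_img]
      _ = _ := by group
  obtain ⟨p, hp, hpe⟩ := D.mem_P_of_fix (mul_mem (inv_mem hg.mem) (mul_mem hk.mem hk.mem)) hfix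
  have hkp : k * k = g * D.f p := by rw [hpe]; group
  obtain ⟨i, a, b, z, e, rfl⟩ := wd_surj p (mem_pFin.2 hp)
  have hσ := hk.conj_wd hxe hye i a b z e
  -- `k` commutes with its square
  have h1 : zcM c * sigK x y i a b z e = wd i a b z e := by
    refine D.f_inj (mul_left_cancel (a := g) ?_)
    calc g * D.f (zcM c * sigK x y i a b z e) = (g * D.zc c) * D.f (sigK x y i a b z e) := by
          rw [map_mul, ← mul_assoc]; rfl
      _ = k * g * k⁻¹ * (k * D.f (wd i a b z e) * k⁻¹) := by rw [hce, hσ]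
      _ = k * (g * D.f (wd i a b z e)) * k⁻¹ := by group
      _ = k * (k * k) * k⁻¹ := by rw [hkp]
      _ = k * k := by group
      _ = _ := hkp
  have eA : D.elem false 2 = D.f (1, pe) := congrArg D.f (by decide +kernel)
  have hσx : k * D.elem true x * k⁻¹ = D.f (zcM (sel (x.testBit 3) 1 ^^^ sel (x.testBit 3) 2 ^^^ sel (x.testBit 2) 2)) := by
    simp only [List.mem_cons, List.not_mem_nil, or_false] at hx
    have c4 : D.elem true 4 = D.elem false 4 := D.elem_central true (by decide)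
    have c8 : D.elem true 8 = D.elem false 8 := D.elem_central true (by decide)
    rcases hx with rfl | rfl | rfl | rfl
    · rw [D.elem_zero, mul_one, mul_inv_cancel]; exact (map_one D.f).symm.trans (congrArg D.f (by decide +kernel))
    · rw [c4, hk.z_img]; exact congrArg D.f (by decide +kernel)
    · rw [c8, hk.a_img]; exact congrArg D.f (by decide +kernel)
    · rw [show D.elem true 12 = D.elem true 4 * D.elem true 8 by
          rw [← D.elem_xor (by norm_num) (by norm_num)]; rfl,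
        Cfg.adjust.conj_mul_split, c4, c8, hk.z_img, hk.a_img, ← D.elem_xor (by norm_num) (by norm_num)]
      exact congrArg D.f (by decide +kernel)
  have h2 : wd i a b z e * (1, pe) * (wd i a b z e)⁻¹ = (side false).el (2 ^^^ y) *
      zcM (sel (x.testBit 3) 1 ^^^ sel (x.testBit 3) 2 ^^^ sel (x.testBit 2) 2) := by
    have hd : (wd i a b z e * (1, pe) * (wd i a b z e)⁻¹).1 = 1 := by simp
    apply D.f_inj
    have hmem : wd i a b z e * (1, pe) * (wd i a b z e)⁻¹ ∈ pSub :=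
      mul_mem (mul_mem hp (mem_pSub.2 (by decide +kernel))) (inv_mem hp)
    have hgfix : g * D.f (wd i a b z e * (1, pe) * (wd i a b z e)⁻¹) * g⁻¹ =
        D.f (wd i a b z e * (1, pe) * (wd i a b z e)⁻¹) := by
      rw [hg.conj_f D hmem, if_pos hd]
    have hlt : x < 16 := (by decide : ∀ x ∈ [0, 4, 8, 12], x < 16) x hx
    rw [← hgfix, map_mul, map_mul, map_inv, map_mul, ← hσx]
    calc g * (D.f (wd i a b z e) * D.f (1, pe) * (D.f (wd i a b z e))⁻¹) * g⁻¹
        = (g * D.f (wd i a b z e)) * D.elem false 2 * (g * D.f (wd i a b z e))⁻¹ := by rw [eA]; group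
      _ = k * k * D.elem false 2 * (k * k)⁻¹ := by rw [hkp]
      _ = k * (k * D.elem false 2 * k⁻¹) * k⁻¹ := by group
      _ = _ := by rw [hxe, D.elem_xor (by norm_num) hlt, Cfg.adjust.conj_mul_split, hye]; rfl
  have h3 : ∀ d < 4, wd i a b z e ≠ xCoord 0 d := fun d hd he =>
    D.not_sq (xCoord_conj hN hnI hg hgg hd) (hkp.trans (by rw [he]))
  have hy' : k * D.elem true (2 ^^^ (y ^^^ sel (y.testBit 3) 4)) * k⁻¹ = D.elem false 2 := by
    have hlt : ∀ y ∈ [0, 4, 8, 12], y ^^^ sel (y.testBit 3) 4 < 16 ∧ y < 16 ∧ 2 ^^^ y < 16 := by decide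
    obtain ⟨l1, l2, l3⟩ := hlt y hy
    have e' : k * D.elem true (y ^^^ sel (y.testBit 3) 4) * k⁻¹ = D.elem false y := by
      simp only [List.mem_cons, List.not_mem_nil, or_false] at hy
      have c4 : D.elem true 4 = D.elem false 4 := D.elem_central true (by decide)
      have c8 : D.elem true 8 = D.elem false 8 := D.elem_central true (by decide)
      rcases hy with rfl | rfl | rfl | rfl
      · rw [show (0 : ℕ) ^^^ sel (Nat.testBit 0 3) 4 = 0 by decide, D.elem_zero, D.elem_zero]; group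
      · rw [show (4 : ℕ) ^^^ sel (Nat.testBit 4 3) 4 = 4 by decide, c4, hk.z_img]
      · rw [show (8 : ℕ) ^^^ sel (Nat.testBit 8 3) 4 = 12 by decide, show D.elem true 12 = D.elem true 4 * D.elem true 8 by
            rw [← D.elem_xor (by norm_num) (by norm_num)]; rfl,
          Cfg.adjust.conj_mul_split, c4, c8, hk.z_img, hk.a_img, ← D.elem_xor (by norm_num) (by norm_num)]
        rfl
      · rw [show (12 : ℕ) ^^^ sel (Nat.testBit 12 3) 4 = 8 by decide, c8, hk.a_img]
    rw [D.elem_xor (by norm_num) l1, Cfg.adjust.conj_mul_split, hye, e', ← D.elem_xor l3 l2]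
    congr 1
    rw [Nat.xor_assoc, Nat.xor_self, Nat.xor_zero]
  have h4 : ∀ d < 4, wd i a b z e * (side true).el (2 ^^^ (y ^^^ sel (y.testBit 3) 4)) * (1, pe) ≠ xCoord 0 d := by
    intro d hd he
    refine D.not_sq (xCoord_conj hN hnI hg hgg hd) (x := k * D.elem false 2) ?_
    rw [← he, map_mul, map_mul, ← eA, ← mul_assoc g, ← mul_assoc g, ← hkp]
    calc k * D.elem false 2 * (k * D.elem false 2) = k * (D.elem false 2 * k) * D.elem false 2 := by group
      _ = k * (k * D.elem true (2 ^^^ (y ^^^ sel (y.testBit 3) 4)) * k⁻¹ * k) * D.elem false 2 := by rw [hy']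
      _ = _ := by rw [elem]; group
  rcases swap_check x hx y hy c hc i a b z e h1 h2 h3 h4 with rfl | rfl
  · left; rw [hce, D.zc_zero, mul_one]
  · right; rw [hce]; exact congrArg (g * ·) (congrArg D.f (by decide +kernel))

/-- Preserving the pair of the twin. -/
def pairSub (D : Cfg G n) (g : G) (hgg : g * g = 1) : Subgroup G where
  carrier := {q | q ∈ normalizer (D.M : Set G) ∧ q * D.f (1, pz) * q⁻¹ = D.f (1, pz) ∧
    (q * g * q⁻¹ = g ∨ q * g * q⁻¹ = g * D.f (1, pz))}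
  one_mem' := ⟨one_mem _, by group, Or.inl (by group)⟩
  mul_mem' := by
    rintro x y ⟨hx, xz, xg⟩ ⟨hy, yz, yg⟩
    refine ⟨mul_mem hx hy, ?_, ?_⟩
    · rw [show x * y * D.f (1, pz) * (x * y)⁻¹ = x * (y * D.f (1, pz) * y⁻¹) * x⁻¹ by group, yz, xz]
    · rw [show x * y * g * (x * y)⁻¹ = x * (y * g * y⁻¹) * x⁻¹ by group]
      rcases yg with e | e <;> rw [e]
      · exact xg
      · rw [Cfg.adjust.conj_mul_split, xz]
        rcases xg with e' | e' <;> rw [e']
        · exact Or.inr rfl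
        · left; rw [mul_assoc, D.f_pz_sq, mul_one]
  inv_mem' := by
    rintro x ⟨hx, xz, xg⟩
    refine ⟨inv_mem hx, ?_, ?_⟩
    · conv_lhs => rw [← xz]
      group
    · rcases xg with e | e
      · left
        conv_lhs => rw [← e]
        group
      · right
        have h := Cfg.adjust.conj_mul_split (h := x) (x := g) (y := D.f (1, pz))
        rw [e, xz, mul_assoc g, D.f_pz_sq, mul_one] at h
        conv_lhs => rw [← h]
        group

theorem tau3_z (hg : D.Twin g) (b : Bool) :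
    D.tau3 g b * D.f (1, pz) * (D.tau3 g b)⁻¹ = D.f (1, pz) := by
  have h := tau3_act hg b (v := 4) (by norm_num)
  rw [(by decide +kernel : ∀ b, tLin b 4 = 4) b, D.elem_pz] at h
  exact h

theorem twin_z (hg : D.Twin g) : g * D.f (1, pz) * g⁻¹ = D.f (1, pz) := hg.fix pz (by simp)

theorem big_pair (hk : D.Swap k) (hnI : ∀ g, D.Twin g → ¬ IsConj D.t g) (hg : D.Twin g) (hgg : g * g = 1) :
    D.Big g (D.pairSub g hgg) := by
  have hbig := big_normalizer hk.nf hg
  refine ⟨fun q hq => ?_, fun b => ⟨hbig.tau b, tau3_z hg b, Or.inl ?_⟩, fun q hq m hm => hbig.norm q hq.1 m hm⟩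
  · have hPle : ∀ r ∈ D.P, r ∈ D.pairSub g hgg := by
      rintro _ ⟨p, hp, rfl⟩
      have hz : D.f p * D.f (1, pz) * (D.f p)⁻¹ = D.f (1, pz) := D.conj_pz (le_normalizer (D.f_mem_P hp))
      refine ⟨hbig.TOne (le_normalizer (D.f_mem_P hp)), hz, ?_⟩
      have key : ∀ p ∈ pFin, sig p⁻¹ = p⁻¹ ∨ sig p⁻¹ = p⁻¹ * (1, pz) := by decide +kernel
      have e1 : D.f p * g * (D.f p)⁻¹ = D.f p * D.f (sig p⁻¹) * g := by
        rw [← show g * D.f p⁻¹ * g⁻¹ = D.f (sig p⁻¹) from hg.conj_f D (inv_mem hp), map_inv]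
        group
      rcases key p (mem_pFin.2 hp) with e | e
      · left; rw [e1, e, map_inv, mul_inv_cancel, one_mul]
      · right
        rw [e1, e, map_mul, map_inv, ← mul_assoc, mul_inv_cancel, one_mul]
        exact (mul_inv_eq_iff_eq_mul.1 (twin_z hg)).symm
    have hgK : g ∈ D.pairSub g hgg := ⟨hbig.TOne hg.mem, twin_z hg, Or.inl (by group)⟩
    have hkK : k ∈ D.pairSub g hgg := ⟨hbig.TOne hk.mem, D.conj_pz hk.mem, hk.conj_twin hnI hg hgg⟩
    have hM : ∀ m ∈ D.M, m ∈ D.pairSub g hgg := by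
      intro m hm
      rcases hm.2 with ht | ht
      · exact hPle m (D.mem_P_of_fix hm.1 ht)
      · have hfix : g⁻¹ * m * D.t * (g⁻¹ * m)⁻¹ = D.t := by
          calc g⁻¹ * m * D.t * (g⁻¹ * m)⁻¹ = g⁻¹ * (m * D.t * m⁻¹) * g := by group
            _ = g⁻¹ * (g * D.t * g⁻¹) * g := by rw [ht, hg.t_img]
            _ = _ := by group
        have := mul_mem hgK (hPle _ (D.mem_P_of_fix (mul_mem (inv_mem hg.mem) hm.1) hfix))
        rwa [mul_inv_cancel_left] at this
    rcases hk.TOne_split hq with h | ⟨m, hm, rfl⟩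
    exacts [hM q h, mul_mem hkK (hM m hm)]
  · rw [tau3_comm hk.nf hnI hg hgg b, mul_inv_cancel_right]

theorem Swap.maps_quad (hk : D.Swap k) (hg : D.Twin g) {q : G} (hq : q ∈ normalizer (D.P : Set G))
    (hqM : q ∉ D.M) {b : Bool} {y : G} (hy : y ∈ D.QE b) : q * y * q⁻¹ ∈ D.QE (!b) := by
  obtain ⟨m, hm, rfl⟩ := (hk.TOne_split hq).resolve_left hqM
  obtain ⟨hI, -, hA⟩ := QE_spec hk.nf hy
  have h1 : k * (m * y * m⁻¹) * k⁻¹ ∈ D.A (!b) :=
    D.swap_maps hk.mem hk.out b ((mem_normalizer_iff.1 (M_norm_side hg b hm) y).1 hA)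
  rw [show k * (m * y * m⁻¹) * k⁻¹ = k * m * y * (k * m)⁻¹ by group] at h1
  obtain ⟨w, hw, hwe⟩ := D.exists_elem h1
  have hodd : w.testBit 0 = true := (D.isConj_elem hk.nf (b := !b) hw).1 (by rw [hwe, D.isConj_conj]; exact hI)
  rcases odd_split w hw hodd with h | h
  · exfalso
    have hwz : w ∈ zCoord := (by decide : ∀ w ∈ [1, 5, 9, 13], w ∈ zCoord) w h
    obtain ⟨p, hp, hpe⟩ := D.conj_zList (inv_mem hq) (zCoord_mem (!b) w hwz).1
    obtain ⟨u, hu, rfl⟩ := zList_coord b p hp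
    rw [inv_inv, show D.f ((side (!b)).el w) = k * m * y * (k * m)⁻¹ from hwe,
      show (k * m)⁻¹ * (k * m * y * (k * m)⁻¹) * (k * m) = y by group] at hpe
    obtain ⟨v, hv, hve⟩ := hy
    have hvu := side_el_inj b v (quad_lt v hv).1 u (zCoord_mem b u hu).2 (D.f_inj (hve.trans hpe))
    exact absurd ((by decide : ∀ v ∈ quadList, v ∉ zCoord) v hv) (not_not.2 (hvu ▸ hu))
  · exact ⟨w, h, hwe⟩

theorem quad_to_QZ (hg : D.Twin g) (b : Bool) {y : G} (hy : y ∈ D.QE b) :
    D.tau3 g b * y * (D.tau3 g b)⁻¹ ∈ D.QZ := by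
  obtain ⟨v, hv, rfl⟩ := hy
  have h := quad_back b v hv
  refine ⟨_, h, ?_⟩
  rw [tau3_act hg b (quad_lt v hv).1,
    D.elem_central b ((by decide : ∀ w ∈ [1, 5, 9, 13], w ∈ zCoord) _ h)]

theorem QZ_to_quad (hg : D.Twin g) (b : Bool) {y : G} (hy : y ∈ D.QZ) :
    D.tau3 g b * y * (D.tau3 g b)⁻¹ ∈ D.QE b := by
  obtain ⟨v, hv, rfl⟩ := hy
  obtain ⟨hz, h16⟩ := (by decide : ∀ w ∈ [1, 5, 9, 13], w ∈ zCoord ∧ w < 16) v hv
  refine ⟨_, central_to_quad b v hv, ?_⟩
  rw [← D.elem_central b hz, tau3_act hg b h16]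

theorem QZ_fix_ne (hg : D.Twin g) (hN : D.types = nfTypes) {b : Bool} {y : G} (hy : y ∈ D.QE b) : y ≠ D.t := by
  obtain ⟨v, hv, rfl⟩ := hy
  intro e
  rw [← D.elem_one b] at e
  exact absurd (side_el_inj b v (quad_lt v hv).1 1 (by norm_num) (D.f_inj e) ▸ hv) (by decide)

theorem in_TOne (hN : D.types = nfTypes) {K : Subgroup G} (hK : D.Big g K) {q : G} (hq : q ∈ K)
    (hQ : q * D.t * q⁻¹ ∈ D.QZ) : q ∈ normalizer (D.P : Set G) := by
  obtain ⟨v, hv, hve⟩ := hQ
  obtain ⟨l, hl, hlt⟩ := D.exists_norm_coord hN hv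
  have hfix : l⁻¹ * q * D.t = D.t * (l⁻¹ * q) := by
    calc l⁻¹ * q * D.t = l⁻¹ * (q * D.t * q⁻¹) * q := by group
      _ = l⁻¹ * (l * D.t * l⁻¹) * q := by rw [← hve, hlt]
      _ = D.t * (l⁻¹ * q) := by group
  have h : l⁻¹ * q ∈ (K ⊓ centralizer ({D.t} : Set G) : Subgroup G) :=
    mem_inf.2 ⟨mul_mem (inv_mem (hK.TOne hl)) hq, mem_centralizer_singleton_iff.2 hfix⟩
  rw [hK.cen] at h
  have := mul_mem hl (le_normalizer h)
  rwa [mul_inv_cancel_left] at this

theorem M_zc (hg : D.Twin g) {q : G} (hq : q ∈ D.M) (c : ℕ) : q * D.zc c = D.zc c * q := by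
  rcases hq.2 with ht | ht
  · exact D.zc_comm c (D.mem_P_of_fix hq.1 ht)
  · have hfix : g⁻¹ * q * D.t * (g⁻¹ * q)⁻¹ = D.t := by
      calc g⁻¹ * q * D.t * (g⁻¹ * q)⁻¹ = g⁻¹ * (q * D.t * q⁻¹) * g := by group
        _ = g⁻¹ * (g * D.t * g⁻¹) * g := by rw [ht, hg.t_img]
        _ = _ := by group
    have h := D.zc_comm c (D.mem_P_of_fix (mul_mem (inv_mem hg.mem) hq.1) hfix)
    calc q * D.zc c = g * (g⁻¹ * q * D.zc c) := by group
      _ = g * D.zc c * (g⁻¹ * q) := by rw [h]; group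
      _ = D.zc c * q := by rw [zc_twin hg c]; group

theorem M_conj_s (hg : D.Twin g) {q : G} (hq : q ∈ D.M) (b : Bool) :
    ∃ c < 4, q * D.sEl b * q⁻¹ = D.sEl b * D.zc c := by
  have hP : ∀ {p : M6}, p ∈ pSub → ∃ c < 4, D.f p * D.sEl b * (D.f p)⁻¹ = D.sEl b * D.zc c := by
    intro p hp
    obtain ⟨c, hc, e⟩ := conj_sides b 3 (by decide) p (mem_pFin.2 hp)
    refine ⟨c, (by decide : ∀ c ∈ [0, 2], c < 4) c hc, ?_⟩
    rw [sEl, zc, ← map_inv, ← map_mul, ← map_mul, ← map_mul, e]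
  rcases hq.2 with ht | ht
  · obtain ⟨p, hp, rfl⟩ := D.mem_P_of_fix hq.1 ht
    exact hP hp
  · have hfix : g⁻¹ * q * D.t * (g⁻¹ * q)⁻¹ = D.t := by
      calc g⁻¹ * q * D.t * (g⁻¹ * q)⁻¹ = g⁻¹ * (q * D.t * q⁻¹) * g := by group
        _ = g⁻¹ * (g * D.t * g⁻¹) * g := by rw [ht, hg.t_img]
        _ = _ := by group
    obtain ⟨p, hp, hpe⟩ := D.mem_P_of_fix (mul_mem (inv_mem hg.mem) hq.1) hfix
    obtain rfl : q = g * D.f p := by rw [hpe]; group
    obtain ⟨c, hc, e⟩ := hP hp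
    refine ⟨c, hc, ?_⟩
    have hs : g * D.sEl b * g⁻¹ = D.sEl b := hg.fix_d D (side_s_mem b)
    calc g * D.f p * D.sEl b * (g * D.f p)⁻¹ = g * (D.f p * D.sEl b * (D.f p)⁻¹) * g⁻¹ := by group
      _ = g * D.sEl b * g⁻¹ * (g * D.zc c * g⁻¹) := by rw [e]; group
      _ = _ := by rw [hs, zc_twin hg c, mul_inv_cancel_right]

theorem tau3_s_other (hg : D.Twin g) (b : Bool) :
    D.tau3 g b * D.sEl (!b) * (D.tau3 g b)⁻¹ = D.sEl (!b) := by
  rw [sEl_eq D (!b), Bool.not_not, tau3_act hg b (by norm_num), (by decide +kernel : ∀ b, tLin b 2 = 2) b]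

/-- An involution exchanging the pair fixes the quadruple of `t`. -/
theorem contra_shift (hN : D.types = nfTypes) {y s : G} {c : ℕ} (hg : D.Twin g) (hgg : g * g = 1) (hc : c < 4)
    (hy2 : y * y = 1) (hyg : y * g * y⁻¹ = g * D.f (1, pz)) (hys : y * s * y⁻¹ = g * (s * D.zc c))
    (hyc : y * D.zc c = D.zc c * y) : False := by
  have hyc' : y * D.zc c * y⁻¹ = D.zc c := by rw [hyc, mul_inv_cancel_right]
  have h1 : s = y * (y * s * y⁻¹) * y⁻¹ := by
    calc s = (y * y) * s * (y * y)⁻¹ := by rw [hy2]; group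
      _ = _ := by group
  rw [hys, Cfg.adjust.conj_mul_split, Cfg.adjust.conj_mul_split, hyg, hys, hyc'] at h1
  have hc2 : D.zc c * D.zc c = 1 := by rw [← D.zc_mul hc hc, Nat.xor_self, D.zc_zero]
  have h2 : D.f (1, pz) * s = s := by
    calc D.f (1, pz) * s = g * g * D.f (1, pz) * s := by rw [hgg, one_mul]
      _ = g * (g * D.f (1, pz)) * s := by group
      _ = g * (D.f (1, pz) * g) * s := by rw [mul_inv_eq_iff_eq_mul.1 (twin_z hg)]
      _ = g * D.f (1, pz) * g * s * (D.zc c * D.zc c) := by rw [hc2, mul_one]; group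
      _ = g * D.f (1, pz) * (g * (s * D.zc c) * D.zc c) := by group
      _ = s := h1.symm
  rw [mul_eq_right, ← map_one D.f] at h2
  exact absurd (congrArg Prod.snd (D.f_inj h2)) (by decide +kernel)

set_option maxHeartbeats 1000000 in
/-- An involution exchanging the pair lies in `M`. -/
theorem invol_pair (hk : D.Swap k) (hnI : ∀ g, D.Twin g → ¬ IsConj D.t g) (hg : D.Twin g) (hgg : g * g = 1)
    {y : G} (hy : y ∈ D.pairSub g hgg) (hy2 : y * y = 1) (hyg : y * g * y⁻¹ = g * D.f (1, pz)) : y ∈ D.M := by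
  have hN := hk.nf
  have hK := big_pair hk hnI hg hgg
  obtain ⟨hO, -⟩ := hK.full hN hnI hg hgg
  have hback : y * (y * D.t * y⁻¹) * y⁻¹ = D.t := by
    calc y * (y * D.t * y⁻¹) * y⁻¹ = (y * y) * D.t * (y * y)⁻¹ := by group
      _ = D.t := by rw [hy2]; group
  have hτi : ∀ b, (D.tau3 g b)⁻¹ = D.tau3 g b := fun b => inv_eq_of_mul_eq_one_right (tau3_sq hgg b)
  have hτg : ∀ b, D.tau3 g b * g * (D.tau3 g b)⁻¹ = g := fun b => by
    rw [tau3_comm hN hnI hg hgg b, mul_inv_cancel_right]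
  have hτc : ∀ b c, D.tau3 g b * D.zc c * (D.tau3 g b)⁻¹ = D.zc c := fun b c => by
    rw [zc_tau3 hg b c, mul_inv_cancel_right]
  have himg : y * D.t * y⁻¹ ∈ D.MI := hO ▸ ⟨y, hy, rfl⟩
  rw [MI_split hN] at himg
  -- the general step
  have shift : ∀ {q r : G} (b : Bool), q ∈ D.M → y = r * q → r * D.sEl b * r⁻¹ ∈
      {x | ∃ c < 4, x = g * (D.sEl b * D.zc c)} → (∀ c, r * D.zc c * r⁻¹ = D.zc c) → False := by
    rintro q r b hqM rfl ⟨c, hc, he⟩ hrz
    obtain ⟨d, hd, hde⟩ := M_conj_s hg hqM b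
    refine contra_shift hN (c := c ^^^ d) (s := D.sEl b) hg hgg (xor_lt_four' hc hd) hy2 hyg ?_ ?_
    · calc r * q * D.sEl b * (r * q)⁻¹ = r * (q * D.sEl b * q⁻¹) * r⁻¹ := by group
        _ = g * (D.sEl b * D.zc c) * (r * D.zc d * r⁻¹) := by rw [hde, Cfg.adjust.conj_mul_split, he]
        _ = _ := by rw [hrz, D.zc_mul hc hd]; group
    · rw [mul_assoc, M_zc hg hqM, ← mul_assoc, mul_inv_eq_iff_eq_mul.1 (hrz _), mul_assoc]
  have hρ : ∀ b, D.tau3 g b * D.sEl b * (D.tau3 g b)⁻¹ ∈ {x | ∃ c < 4, x = g * (D.sEl b * D.zc c)} := fun b => by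
    obtain ⟨c, hc, he⟩ := tau3_s hN hnI hg hgg b
    exact ⟨c, hc, he⟩
  -- one side
  have side_case : ∀ b, y * D.t * y⁻¹ ∈ D.QE b → y ∈ D.M := by
    intro b hb
    exfalso
    set q := D.tau3 g b * y with hqdef
    have hyq : y = D.tau3 g b * q := by rw [hqdef, ← mul_assoc, tau3_sq hgg b, one_mul]
    have hq : q ∈ D.pairSub g hgg := mul_mem (hK.tau b) hy
    have hqQ : q * D.t * q⁻¹ ∈ D.QZ := by
      rw [hqdef, show D.tau3 g b * y * D.t * (D.tau3 g b * y)⁻¹ =
        D.tau3 g b * (y * D.t * y⁻¹) * (D.tau3 g b)⁻¹ by group]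
      exact quad_to_QZ hg b hb
    have hqT := in_TOne hN hK hq hqQ
    by_cases hqM : q ∈ D.M
    · exact shift b hqM hyq (hρ b) (hτc b)
    · have h1 := tau3_to_X hN hg b (hk.maps_quad hg hqT hqM hb)
      rw [show D.tau3 g b * (q * (y * D.t * y⁻¹) * q⁻¹) * (D.tau3 g b)⁻¹ =
        (D.tau3 g b * q) * (y * D.t * y⁻¹) * (D.tau3 g b * q)⁻¹ by group, ← hyq, hback] at h1
      exact h1.2.2 D.t_mem_P
  rcases himg with ((h | h) | h) | h
  · exact hk.invol_in_M hg (in_TOne hN hK hy h) hy2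
  · exact side_case false h
  · exact side_case true h
  · -- the fourth quadruple
    set τf := D.tau3 g false
    set τt := D.tau3 g true
    set q := τt * (τf * y) with hqdef
    have hyq : y = τf * τt * q := by
      rw [hqdef, show τf * τt * (τt * (τf * y)) = τf * (τt * τt) * τf * y by group, tau3_sq hgg true,
        mul_one, tau3_sq hgg false, one_mul]
    have hq : q ∈ D.pairSub g hgg := mul_mem (hK.tau true) (mul_mem (hK.tau false) hy)
    have h1 : τf * (y * D.t * y⁻¹) * τf⁻¹ ∈ D.QE true := by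
      rw [← tau3_onto_X hN hnI hg hgg false] at h
      obtain ⟨x, hx, hxe⟩ := h
      rw [← hxe]
      show τf * (τf * x * τf⁻¹) * τf⁻¹ ∈ D.QE true
      rw [show τf * (τf * x * τf⁻¹) * τf⁻¹ = (τf * τf) * x * (τf * τf)⁻¹ by group, tau3_sq hgg false,
        one_mul, inv_one, mul_one]
      exact hx
    have hqQ : q * D.t * q⁻¹ ∈ D.QZ := by
      rw [hqdef, show τt * (τf * y) * D.t * (τt * (τf * y))⁻¹ = τt * (τf * (y * D.t * y⁻¹) * τf⁻¹) * τt⁻¹ by group]
      exact quad_to_QZ hg true h1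
    have hqT := in_TOne hN hK hq hqQ
    by_cases hqM : q ∈ D.M
    · exfalso
      refine shift false hqM hyq ?_ fun c => ?_
      · rw [show τf * τt * D.sEl false * (τf * τt)⁻¹ = τf * (τt * D.sEl (!true) * τt⁻¹) * τf⁻¹ by
          rw [Bool.not_true]; group, tau3_s_other hg true, Bool.not_true]
        exact hρ false
      · rw [show τf * τt * D.zc c * (τf * τt)⁻¹ = τf * (τt * D.zc c * τt⁻¹) * τf⁻¹ by group, hτc, hτc]
    · -- conjugate into the normalizer of `P`
      set y' := τf * y * τf⁻¹ with hy'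
      have hy'2 : y' * y' = 1 := by
        rw [hy', show τf * y * τf⁻¹ * (τf * y * τf⁻¹) = τf * (y * y) * τf⁻¹ by group, hy2, mul_one, mul_inv_cancel]
      have hA : τf * D.t * τf⁻¹ ∈ D.QE false := QZ_to_quad hg false ⟨1, by simp, D.elem_one false⟩
      have hA' : q * (τf * D.t * τf⁻¹) * q⁻¹ ∈ D.QE true := Swap.maps_quad (b := false) hk hg hqT hqM hA
      have hB : τt * (q * (τf * D.t * τf⁻¹) * q⁻¹) * τt⁻¹ ∈ D.QZ := quad_to_QZ hg true hA'
      have hC : y * (τf * D.t * τf⁻¹) * y⁻¹ ∈ D.QE false := by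
        have := QZ_to_quad hg false hB
        rwa [show τf * (τt * (q * (τf * D.t * τf⁻¹) * q⁻¹) * τt⁻¹) * τf⁻¹ =
          (τf * τt * q) * (τf * D.t * τf⁻¹) * (τf * τt * q)⁻¹ by group, ← hyq] at this
      have himg : y' * D.t * y'⁻¹ ∈ D.QZ := by
        have := quad_to_QZ hg false hC
        rwa [show τf * (y * (τf * D.t * τf⁻¹) * y⁻¹) * τf⁻¹ = τf * y * τf * D.t * (τf * y * τf)⁻¹ by group,
          show τf * y * τf = y' by rw [hy', hτi]] at this
      have hy'K : y' ∈ D.pairSub g hgg := mul_mem (mul_mem (hK.tau false) hy) (inv_mem (hK.tau false))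
      have hM := hk.invol_in_M hg (in_TOne hN hK hy'K himg) hy'2
      have := tau3_M hg false hM
      rwa [hy', show τf * (τf * y * τf⁻¹) * τf⁻¹ = (τf * τf) * y * (τf * τf)⁻¹ by group, tau3_sq hgg false,
        one_mul, inv_one, mul_one] at this
where
  xor_lt_four' {a b : ℕ} (ha : a < 4) (hb : b < 4) : a ^^^ b < 4 := Nat.xor_lt_two_pow (n := 2) ha hb

/-- With an interchanging element there is no configuration. -/
theorem not_hole (hk : D.Swap k) : False := by
  classical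
  have hN := hk.nf
  obtain ⟨g₀, hg₀⟩ := D.hole_gen hN hk.mem hk.img hk.out
  have hnI : ∀ g, D.Twin g → ¬ IsConj D.t g := fun g hg => hk.no_twin_conj hg
  obtain ⟨g, hg, hgg⟩ := exists_invol_twin hN hnI hg₀
  have hK := big_pair hk hnI hg hgg
  obtain ⟨hO, hcard⟩ := hK.full hN hnI hg hgg
  have hne : g * D.f (1, pz) ≠ g := fun e => by
    rw [mul_eq_left, ← map_one D.f] at e
    exact absurd (congrArg Prod.snd (D.f_inj e)) (by decide +kernel)
  let χ : D.pairSub g hgg →* ℤˣ :=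
    MonoidHom.mk' (fun q => if q.1 * g * q.1⁻¹ = g then 1 else -1) fun q r => by
      have e : (q * r : D.pairSub g hgg).1 * g * (q * r : D.pairSub g hgg).1⁻¹ = q.1 * (r.1 * g * r.1⁻¹) * q.1⁻¹ := by
        push_cast; group
      simp only [e]
      rcases q.2.2.2 with hq | hq <;> rcases r.2.2.2 with hr | hr
      · rw [if_pos hq, if_pos hr, hr, if_pos hq, mul_one]
      · rw [hr, Cfg.adjust.conj_mul_split, hq, q.2.2.1, if_neg hne, if_pos rfl, one_mul]
      · rw [hr, if_pos rfl, hq, if_neg hne, mul_one]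
      · rw [hr, Cfg.adjust.conj_mul_split, hq, q.2.2.1, mul_assoc, D.f_pz_sq, mul_one, if_pos rfl, if_neg hne]
        rfl
  have htK : D.t ∈ D.pairSub g hgg := hK.TOne (le_normalizer D.t_mem_P)
  have hχt : χ ⟨D.t, htK⟩ = -1 := by
    show (if D.t * g * D.t⁻¹ = g then (1 : ℤˣ) else -1) = -1
    refine if_neg fun e => hne ?_
    have h := hg.t_img
    rw [mul_inv_eq_iff_eq_mul.1 e |> fun e' => (e'.symm : g * D.t = D.t * g), mul_inv_cancel_right,
      left_eq_mul] at h
    rw [h, mul_one]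
  have hset : cnt D.t {y | ∃ hy : y ∈ D.pairSub g hgg, χ ⟨y, hy⟩ = -1} = 16 := by
    have e : {y : G | (∃ hy : y ∈ D.pairSub g hgg, χ ⟨y, hy⟩ = -1) ∧ IsConj D.t y} = D.MI := by
      ext y
      constructor
      · rintro ⟨⟨hy, hv⟩, hI⟩
        refine ⟨hI, invol_pair hk hnI hg hgg hy (D.invol_of_isConj hI).1 (hy.2.2.resolve_left fun e => ?_)⟩
        have hv' : (if y * g * y⁻¹ = g then (1 : ℤˣ) else -1) = -1 := hv
        rw [if_pos e] at hv'
        exact absurd hv' (by decide)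
      · intro hy
        rw [← hO] at hy
        obtain ⟨l, hl, rfl⟩ := hy
        refine ⟨⟨mul_mem (mul_mem hl htK) (inv_mem hl), ?_⟩, (D.isConj_conj _ _).2 (IsConj.refl _)⟩
        have e : (⟨l * D.t * l⁻¹, mul_mem (mul_mem hl htK) (inv_mem hl)⟩ : D.pairSub g hgg) =
            ⟨l, hl⟩ * ⟨D.t, htK⟩ * ⟨l, hl⟩⁻¹ := rfl
        rw [e, map_mul, map_mul, map_inv, hχt]
        rw [mul_comm (χ ⟨l, hl⟩) (-1), mul_inv_cancel_right]
    have e2 : Nat.card D.MI = 16 := by
      rw [← hO]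
      have h1 := D.card_orbit (D.pairSub g hgg)
      rw [hcard, hK.cen, D.card_P] at h1
      exact (Nat.eq_of_mul_eq_mul_left (by norm_num : 0 < 32) (h1.symm.trans (by norm_num : (512 : ℕ) = 32 * 16)))
    rw [cnt, ← e2, ← e]
    rfl
  have ht := transfer_dvd D.hno D.orderOf_t (D.pairSub g hgg) χ
  obtain ⟨m, hm, hc⟩ := D.card_cen
  rw [hset, hcard, hc, show 32 * m * 16 = 512 * m by ring, mul_comm 2 512,
    Nat.mul_dvd_mul_iff_left (by norm_num : 0 < 512)] at ht
  exact Nat.not_even_iff_odd.2 hm (even_iff_two_dvd.2 ht)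

end Cfg

end CfsgLib.TwoSymSix
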