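import Cfsg.Agent.Lib.Rec.TwoSymSix.MModel

/-!
# The sixteen conjugates of `t` normalized by a subgroup of order `512`
-/

set_option autoImplicit false
set_option synthInstance.maxSize 4000
set_option linter.unusedSectionVars false

namespace CfsgLib.TwoSymSix

attribute [local instance 10000] List.decidableBAll List.decidableBEx Finset.decidableDforallFinset

open Equiv Subgroup

namespace Cfg

variable {G : Type*} [Group G] [Finite G] {n : ℕ} (D : Cfg G n)

theorem f_pz_sq : D.f (1, pz) * D.f (1, pz) = 1 := by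
  rw [← map_mul, ← map_one D.f]; congr 1; decide +kernel

/-- The elements of the normalizer of `P` fixing `t` or moving it by the central double transposition. -/
def M : Subgroup G where
  carrier := {q | q ∈ normalizer (D.P : Set G) ∧ (q * D.t * q⁻¹ = D.t ∨ q * D.t * q⁻¹ = D.t * D.f (1, pz))}
  one_mem' := ⟨one_mem _, Or.inl (by group)⟩
  mul_mem' := by
    rintro x y ⟨hx, ex⟩ ⟨hy, ey⟩
    refine ⟨mul_mem hx hy, ?_⟩
    have e : x * y * D.t * (x * y)⁻¹ = x * (y * D.t * y⁻¹) * x⁻¹ := by group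
    rw [e]
    rcases ey with ey | ey <;> rw [ey]
    · exact ex
    · rw [Cfg.adjust.conj_mul_split, D.conj_pz hx]
      rcases ex with ex | ex <;> rw [ex]
      · exact Or.inr rfl
      · left; rw [mul_assoc, D.f_pz_sq, mul_one]
  inv_mem' := by
    rintro x ⟨hx, ex⟩
    refine ⟨inv_mem hx, ?_⟩
    rcases ex with ex | ex
    · left
      conv_lhs => rw [← ex]
      group
    · right
      have h := Cfg.adjust.conj_mul_split (h := x) (x := D.t) (y := D.f (1, pz))
      rw [ex, D.conj_pz hx, mul_assoc D.t, D.f_pz_sq, mul_one] at h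
      conv_lhs => rw [← h]
      group

theorem P_le_M : D.P ≤ D.M := fun q hq =>
  ⟨le_normalizer hq, Or.inl (mul_inv_eq_iff_eq_mul.2 (mem_centralizer_singleton_iff.1 (D.P_le hq)))⟩

theorem M_cen {q : G} (hq : q ∈ D.M) (ht : q * D.t = D.t * q) : q ∈ D.P :=
  D.mem_P_of_fix hq.1 (mul_inv_eq_iff_eq_mul.2 ht)

variable {D}

theorem Twin.norm {g : G} (hg : D.Twin g) (b : Bool) : g ∈ normalizer (D.A b : Set G) := by
  refine normalizer_of_forall fun a ha => ?_
  obtain ⟨p, hp, rfl⟩ := ha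
  rw [hg.conj_f D (aSub_le b hp)]
  by_cases h : p.1 = 1
  · rw [if_pos h]; exact D.f_mem_A hp
  · rw [if_neg h]
    exact D.f_mem_A ((side_good b).mul _ (by simp [Side.eList]) _ hp).1

theorem Twin.act {g : G} (hg : D.Twin g) (b : Bool) {v : ℕ} (hv : v < 16) :
    g * D.elem b v * g⁻¹ = D.elem b (gLin v) := by
  rw [elem, hg.conj_f D (aSub_le b (side_el_mem b v hv)), elem, ← sig_el b v hv]
  rfl

theorem Twin.mem_M {g : G} (hg : D.Twin g) : g ∈ D.M := ⟨hg.mem, Or.inr hg.t_img⟩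

theorem Twin.mul_central {g : G} (hg : D.Twin g) {p : M6} (hp : p ∈ zList) : D.Twin (g * D.f p) := by
  have hc : ∀ {q : G}, q ∈ D.P → D.f p * q * (D.f p)⁻¹ = q := fun {q} hq => by
    rw [← D.f_central hp hq, mul_inv_cancel_right]
  refine ⟨mul_mem hg.mem (le_normalizer (D.f_mem_P (zList_central p hp).1)), ?_, fun q hq => ?_⟩
  · rw [← hg.t_img]
    conv_rhs => rw [← hc D.t_mem_P]
    group
  · have hd : q ∈ dList := (by decide +kernel : ∀ q ∈ [pe, pf, pz, pa], q ∈ dList) q hq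
    conv_rhs => rw [← hg.fix q hq, ← hc (D.f_mem_P (p := (1, q)) hd)]
    group

theorem elem_t_pz (b : Bool) : D.elem b 5 = D.t * D.f (1, pz) := by
  rw [show (5 : ℕ) = 1 ^^^ 4 from rfl, D.elem_xor (by norm_num) (by norm_num), D.elem_one, D.elem_pz]

/-- Membership through a side. -/
theorem mem_M_of_side {g : G} (hg : D.Twin g) (b : Bool) {q : G} (hq : q ∈ normalizer (D.A b : Set G))
    (hz : q * D.elem b 4 * q⁻¹ = D.elem b 4) {i : ℕ} (hi : i ∈ [1, 5]) (ht : q * D.t * q⁻¹ = D.elem b i) :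
    q ∈ D.M := by
  simp only [List.mem_cons, List.not_mem_nil, or_false] at hi
  rcases hi with rfl | rfl
  · rw [D.elem_one] at ht
    exact D.P_le_M (D.fix_side hq (mul_inv_eq_iff_eq_mul.1 ht) (Or.inl hz))
  · rw [elem_t_pz] at ht
    have hfix : g⁻¹ * q * D.t = D.t * (g⁻¹ * q) := by
      calc g⁻¹ * q * D.t = g⁻¹ * (q * D.t * q⁻¹) * q := by group
        _ = g⁻¹ * (g * D.t * g⁻¹) * q := by rw [ht, hg.t_img]
        _ = _ := by group
    have hz' : g⁻¹ * q * D.elem b 4 * (g⁻¹ * q)⁻¹ = D.elem b 4 := by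
      calc g⁻¹ * q * D.elem b 4 * (g⁻¹ * q)⁻¹ = g⁻¹ * (q * D.elem b 4 * q⁻¹) * g := by group
        _ = g⁻¹ * (g * D.elem b 4 * g⁻¹) * g := by rw [hz, D.elem_pz, hg.fix pz (by simp)]
        _ = _ := by group
    have h := mul_mem hg.mem_M (D.P_le_M (D.fix_side (mul_mem (inv_mem (hg.norm b)) hq) hfix (Or.inl hz')))
    rwa [mul_inv_cancel_left] at h

/-- The conjugate of the twin by the element of order three. -/
def tau3 (D : Cfg G n) (g : G) (b : Bool) : G := D.uEl b * g * (D.uEl b)⁻¹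

theorem tau3_norm {g : G} (hg : D.Twin g) (b : Bool) : D.tau3 g b ∈ normalizer (D.A b : Set G) :=
  mul_mem (mul_mem (D.uEl_norm b) (hg.norm b)) (inv_mem (D.uEl_norm b))

theorem tau3_act {g : G} (hg : D.Twin g) (b : Bool) {v : ℕ} (hv : v < 16) :
    D.tau3 g b * D.elem b v * (D.tau3 g b)⁻¹ = D.elem b (tLin b v) := by
  rw [tau3, D.uEl_inv, ← (tLin_spec b v hv).1]
  refine D.conj_comp (D.conj_comp (D.uEl_conj b hv) (D.uEl_conj b (uLin_lt' b _))) ?_
  refine D.conj_comp (hg.act b (uLin_lt' b _)) ?_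
  exact D.uEl_conj b (tLin_spec b _ (uLin_lt' b _)).2.2.2.2

theorem tau3_act_inv {g : G} (hg : D.Twin g) (b : Bool) {v : ℕ} (hv : v < 16) :
    (D.tau3 g b)⁻¹ * D.elem b v * D.tau3 g b = D.elem b (tLin b v) := by
  obtain ⟨-, h2, -, h4, -⟩ := tLin_spec b v hv
  have h := tau3_act hg b h4
  rw [h2] at h
  rw [← h]
  group

theorem dList_act' (b : Bool) {p : M6} (hp : p ∈ pSub) {v : ℕ} (hv : v < 16) :
    D.f p * D.elem b v * (D.f p)⁻¹ = D.elem b (if p.2 ∈ (side b).eList then v else sLin v) := by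
  obtain ⟨i, d⟩ := p
  rw [elem, elem, ← map_inv, ← map_mul, ← map_mul, ← dList_act b d hp v hv]
  congr 1
  exact Prod.ext (by simp [mul_inv_cancel_comm]) (by simp)

/-- The conjugate of the twin normalizes the subgroup. -/
theorem tau3_M {g : G} (hg : D.Twin g) (b : Bool) {q : G} (hq : q ∈ D.M) :
    D.tau3 g b * q * (D.tau3 g b)⁻¹ ∈ D.M := by
  set τ := D.tau3 g b with hτ
  obtain ⟨φ, hφlt, hqn, hqact, hφ⟩ : ∃ φ : ℕ → ℕ, (∀ v < 16, φ v < 16) ∧ q ∈ normalizer (D.A b : Set G) ∧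
      (∀ v < 16, q * D.elem b v * q⁻¹ = D.elem b (φ v)) ∧
        (tLin b (φ (tLin b 1)) ∈ [1, 5] ∧ tLin b (φ (tLin b 4)) = 4) := by
    obtain ⟨e1, e2, e3, e4, e5, e6, e7, e8⟩ := m_norm b
    have lts : ∀ v < 16, sLin v < 16 := fun v hv => (uLin_lt b v hv).2
    have ltg : ∀ v < 16, gLin v < 16 := fun v hv => (tLin_spec b v hv).2.2.2.2
    rcases hq.2 with ht | ht
    · obtain ⟨p, hp, rfl⟩ := D.mem_P_of_fix hq.1 ht
      have hn := D.P_norm b (D.f_mem_P hp)
      by_cases hd : p.2 ∈ (side b).eList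
      · exact ⟨id, fun v hv => hv, hn, fun v hv => by rw [dList_act' b hp hv, if_pos hd]; rfl,
          by simp [e1], by simp [e8]⟩
      · exact ⟨sLin, lts, hn, fun v hv => by rw [dList_act' b hp hv, if_neg hd],
          by simp [e2], by rw [e8, e5]⟩
    · have hfix : g⁻¹ * q * D.t * (g⁻¹ * q)⁻¹ = D.t := by
        calc g⁻¹ * q * D.t * (g⁻¹ * q)⁻¹ = g⁻¹ * (q * D.t * q⁻¹) * g := by group
          _ = g⁻¹ * (g * D.t * g⁻¹) * g := by rw [ht, hg.t_img]
          _ = _ := by group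
      obtain ⟨p, hp, hpe⟩ := D.mem_P_of_fix (mul_mem (inv_mem hg.mem) hq.1) hfix
      obtain rfl : q = g * D.f p := by rw [hpe]; group
      have hn := mul_mem (hg.norm b) (D.P_norm b (D.f_mem_P hp))
      by_cases hd : p.2 ∈ (side b).eList
      · exact ⟨gLin, ltg, hn, fun v hv => D.conj_comp (by rw [dList_act' b hp hv, if_pos hd]) (hg.act b hv),
          e3, by rw [e8, e6]⟩
      · exact ⟨fun v => gLin (sLin v), fun v hv => ltg _ (lts v hv), hn,
          fun v hv => D.conj_comp (by rw [dList_act' b hp hv, if_neg hd]) (hg.act b (lts v hv)),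
          e4, by rw [e8, e7]⟩
  have hact : ∀ v < 16, τ * q * τ⁻¹ * D.elem b v * (τ * q * τ⁻¹)⁻¹ = D.elem b (tLin b (φ (tLin b v))) := by
    intro v hv
    obtain ⟨-, -, -, hlt, -⟩ := tLin_spec b v hv
    refine D.conj_comp (w := tLin b v) (by rw [inv_inv]; exact tau3_act_inv hg b hv) ?_
    exact D.conj_comp (hqact _ hlt) (tau3_act hg b (hφlt _ hlt))
  have hn := tau3_norm hg b
  refine mem_M_of_side hg b (mul_mem (mul_mem hn hqn) (inv_mem hn)) ?_ hφ.1 ?_
  · rw [hact 4 (by norm_num), hφ.2]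
  · rw [← D.elem_one b]; exact hact 1 (by norm_num)

/-- The conjugates of `t` in `M` outside `P`. -/
def MX (D : Cfg G n) : Set G := {y | IsConj D.t y ∧ y ∈ D.M ∧ y ∉ D.P}

/-- The four conjugates of `t` outside the centre of `P` on a side. -/
def QE (D : Cfg G n) (b : Bool) : Set G := {y | ∃ v ∈ quadList, D.elem b v = y}

theorem QE_spec (hN : D.types = nfTypes) {b : Bool} {y : G} (hy : y ∈ D.QE b) :
    IsConj D.t y ∧ y ∈ D.P ∧ y ∈ D.A b := by
  obtain ⟨v, hv, rfl⟩ := hy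
  obtain ⟨h1, h2, -⟩ := quad_lt v hv
  exact ⟨(D.isConj_elem hN h1).2 h2, D.A_le b (D.elem_mem h1), D.elem_mem h1⟩

theorem card_QE (b : Bool) : Nat.card (D.QE b) = 4 := by
  classical
  rw [show 4 = quadList.toFinset.card from rfl, ← Nat.card_eq_finsetCard]
  refine (Nat.card_congr (Equiv.ofBijective
    (fun v : quadList.toFinset => (⟨D.elem b v.1, v.1, List.mem_toFinset.1 v.2, rfl⟩ : D.QE b))
    ⟨fun x y e => ?_, ?_⟩)).symm
  · exact Subtype.ext (side_el_inj b _ (quad_lt _ (List.mem_toFinset.1 x.2)).1 _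
      (quad_lt _ (List.mem_toFinset.1 y.2)).1 (D.f_inj (congrArg Subtype.val e)))
  · rintro ⟨_, v, hv, rfl⟩
    exact ⟨⟨v, List.mem_toFinset.2 hv⟩, rfl⟩

theorem tau3_to_X (hN : D.types = nfTypes) {g : G} (hg : D.Twin g) (b : Bool) {y : G}
    (hy : y ∈ D.QE (!b)) : D.tau3 g b * y * (D.tau3 g b)⁻¹ ∈ D.MX := by
  obtain ⟨hI, hP, -⟩ := QE_spec hN hy
  refine ⟨(D.isConj_conj _ _).2 hI, tau3_M hg b (D.P_le_M hP), fun hm => ?_⟩
  obtain ⟨v, hv, rfl⟩ := hy
  obtain ⟨h1, h2, -⟩ := quad_s b v hv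
  have hv16 := (quad_lt v hv).1
  have e : D.tau3 g b * D.elem (!b) v * (D.tau3 g b)⁻¹ * D.t *
      (D.tau3 g b * D.elem (!b) v * (D.tau3 g b)⁻¹)⁻¹ = D.elem b 5 := by
    obtain ⟨-, e2, -⟩ := m_norm b
    obtain ⟨-, -, -, hlt, -⟩ := tLin_spec b 1 (by norm_num)
    rw [← D.elem_one b, ← e2]
    refine D.conj_comp (w := tLin b 1) (by rw [inv_inv]; exact tau3_act_inv hg b (by norm_num)) ?_
    refine D.conj_comp (w := sLin (tLin b 1)) ?_ (tau3_act hg b (uLin_lt b _ hlt).2)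
    show D.f ((side (!b)).el v) * D.elem b (tLin b 1) * (D.f ((side (!b)).el v))⁻¹ = _
    rw [dList_act' b (p := (side (!b)).el v) h1 hlt, if_neg h2]
  rw [mul_inv_eq_iff_eq_mul.2 (mem_centralizer_singleton_iff.1 (D.P_le hm))] at e
  rw [← D.elem_one b] at e
  exact absurd (side_el_inj b 1 (by norm_num) 5 (by norm_num) (D.f_inj e)) (by decide)

/-- The coordinates of the conjugates outside `P` for a twin of order two. -/
theorem MX_coord (hN : D.types = nfTypes) (hnI : ∀ g, D.Twin g → ¬ IsConj D.t g) {g : G} (hg : D.Twin g)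
    {c : ℕ} (hc : c < 4) (hgg : g * g = D.zc c) {y : G} (hy : y ∈ D.MX) :
    (c = 0 ∨ c = 2) ∧ ∃ d < 4, y = g * D.f (xCoord c d) := by
  obtain ⟨hI, hM, hP⟩ := hy
  have ht : y * D.t * y⁻¹ = D.t * D.f (1, pz) := hM.2.resolve_left fun e => hP (D.mem_P_of_fix hM.1 e)
  have hfix : g⁻¹ * y * D.t * (g⁻¹ * y)⁻¹ = D.t := by
    calc g⁻¹ * y * D.t * (g⁻¹ * y)⁻¹ = g⁻¹ * (y * D.t * y⁻¹) * g := by group
      _ = g⁻¹ * (g * D.t * g⁻¹) * g := by rw [ht, hg.t_img]
      _ = _ := by group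
  obtain ⟨p, hp, hpe⟩ := D.mem_P_of_fix (mul_mem (inv_mem hg.mem) hM.1) hfix
  obtain rfl : y = g * D.f p := by rw [hpe]; group
  have h1 : sig p * zcM c * p = 1 := by
    apply D.f_inj
    rw [map_mul, map_mul, map_one, ← show g * D.f p * g⁻¹ = D.f (sig p) from hg.conj_f D hp, ← zc, ← hgg]
    calc g * D.f p * g⁻¹ * (g * g) * D.f p = g * D.f p * (g * D.f p) := by group
      _ = 1 := (D.invol_of_isConj hI).1
  rcases x_cases c hc p (mem_pFin.2 hp) h1 with hz | ⟨d, hd, hdp, hz⟩ | h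
  · exact absurd hI (hnI _ (hg.mul_central hz))
  · exfalso
    obtain ⟨b, hde⟩ : ∃ b, D.f d = D.elem b 2 := by
      simp only [List.mem_cons, List.not_mem_nil, or_false] at hd
      rcases hd with rfl | rfl
      · exact ⟨false, congrArg D.f (by decide +kernel)⟩
      · exact ⟨true, congrArg D.f (by decide +kernel)⟩
    have hnd : ¬ IsConj D.t (D.f d) := by rw [hde, D.isConj_elem hN (by norm_num)]; decide
    have hgd : g * D.f d = D.f d * g := by
      simp only [List.mem_cons, List.not_mem_nil, or_false] at hd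
      rcases hd with rfl | rfl <;> exact mul_inv_eq_iff_eq_mul.1 (hg.fix _ (by simp))
    have hc' : D.f d * (g * D.f p) = g * D.f p * D.f d := by
      rw [← mul_assoc, ← hgd, mul_assoc, ← map_mul, hdp, map_mul, ← mul_assoc]
    have h2 := (D.rule hN hI (by rw [hde]; exact D.A_sq (D.elem_mem (by norm_num))) hc'
      (fun e => by
        rw [hde, ← D.elem_zero b] at e
        exact absurd (side_el_inj b 2 (by norm_num) 0 (by norm_num) (D.f_inj e)) (by decide))
      (fun e => hnd (e ▸ hI))).2 hnd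
    rw [mul_assoc, ← map_mul] at h2
    exact hnI _ (hg.mul_central hz) h2
  · obtain ⟨h1', d, hd, rfl⟩ := h
    exact ⟨h1', d, hd, rfl⟩

theorem exists_invol_twin (hN : D.types = nfTypes) (hnI : ∀ g, D.Twin g → ¬ IsConj D.t g) {g₀ : G}
    (hg₀ : D.Twin g₀) : ∃ g, D.Twin g ∧ g * g = 1 := by
  have hy : D.tau3 g₀ false * D.elem true 3 * (D.tau3 g₀ false)⁻¹ ∈ D.MX :=
    tau3_to_X hN hg₀ false ⟨3, by decide, rfl⟩
  obtain ⟨c, hc, hgg⟩ := hg₀.sq_value D hN
  obtain ⟨h, -⟩ := MX_coord hN hnI hg₀ hc hgg hy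
  rcases h with rfl | rfl
  · exact ⟨g₀, hg₀, by rw [hgg, D.zc_zero]⟩
  · refine ⟨g₀ * D.t, hg₀.mul_t D, ?_⟩
    have hz : D.zc 2 = D.f (1, pz) := congrArg D.f (by decide +kernel)
    calc g₀ * D.t * (g₀ * D.t) = g₀ * D.t * g₀⁻¹ * (g₀ * g₀) * D.t := by group
      _ = D.t * (D.f (1, pz) * D.f (1, pz)) * D.t := by rw [hg₀.t_img, hgg, hz]; group
      _ = 1 := by rw [D.f_pz_sq, mul_one, D.tt]

theorem tau3_sq {g : G} (hgg : g * g = 1) (b : Bool) : D.tau3 g b * D.tau3 g b = 1 := by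
  rw [tau3]
  calc D.uEl b * g * (D.uEl b)⁻¹ * (D.uEl b * g * (D.uEl b)⁻¹) = D.uEl b * (g * g) * (D.uEl b)⁻¹ := by group
    _ = 1 := by rw [hgg]; group

/-- The twin of order two and the conjugate by the element of order three. -/
theorem tau3_s (hN : D.types = nfTypes) (hnI : ∀ g, D.Twin g → ¬ IsConj D.t g) {g : G} (hg : D.Twin g)
    (hgg : g * g = 1) (b : Bool) :
    ∃ e < 4, D.tau3 g b * D.sEl b * (D.tau3 g b)⁻¹ = g * (D.sEl b * D.zc e) := by
  obtain ⟨-, d, hd, hde⟩ := MX_coord hN hnI hg (c := 0) (by norm_num) (by rw [hgg, D.zc_zero])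
    (tau3_to_X hN hg b (y := D.elem (!b) 3) ⟨3, by decide, rfl⟩)
  obtain ⟨e, he, hee⟩ := x_shift b d hd
  refine ⟨e, he, ?_⟩
  have e3 : D.elem (!b) 3 = D.t * D.sEl b := by rw [elem, side_el_three, map_mul, D.f_tau, sEl]
  rw [e3] at hde
  have ht := tau3_act hg b (v := 1) (by norm_num)
  rw [D.elem_one, (t_img_quad b).2.2] at ht
  have hσ : D.f ((side b).el (uLin b 5)) * g = g * D.f (sig ((side b).el (uLin b 5))) := by
    have this : g * D.f (sig ((side b).el (uLin b 5))) * g⁻¹ = D.f (sig (sig ((side b).el (uLin b 5)))) :=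
      hg.conj_f D (mem_pSub.2 ((by decide +kernel : ∀ b, (sig ((side b).el (uLin b 5))).2 ∈ dList) b))
    rw [((by decide +kernel : ∀ b, sig (sig ((side b).el (uLin b 5))) = (side b).el (uLin b 5)) b)] at this
    exact (mul_inv_eq_iff_eq_mul.1 this).symm
  calc D.tau3 g b * D.sEl b * (D.tau3 g b)⁻¹
      = D.tau3 g b * ((D.t * D.t) * D.sEl b) * (D.tau3 g b)⁻¹ := by rw [D.tt, one_mul]
    _ = D.tau3 g b * D.t * (D.tau3 g b)⁻¹ * (D.tau3 g b * (D.t * D.sEl b) * (D.tau3 g b)⁻¹) := by group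
    _ = D.f ((side b).el (uLin b 5)) * (g * D.f (xCoord 0 d)) := by rw [ht, hde, elem]
    _ = g * D.f (sig ((side b).el (uLin b 5)) * xCoord 0 d) := by
        rw [← mul_assoc, hσ, mul_assoc, ← map_mul]
    _ = g * (D.sEl b * D.zc e) := by rw [hee, map_mul, sEl, zc]

theorem zc_twin {g : G} (hg : D.Twin g) (e : ℕ) : g * D.zc e = D.zc e * g := by
  have h : (zcM e).2 ∈ dList := (zList_central _ (zcM_mem e)).1
  exact mul_inv_eq_iff_eq_mul.1 (hg.fix_d D h)

theorem zc_tau3 {g : G} (hg : D.Twin g) (b : Bool) (e : ℕ) : D.tau3 g b * D.zc e = D.zc e * D.tau3 g b := by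
  obtain ⟨v, hv, hve⟩ : ∃ v ∈ [0, 4, 8, 12], (side b).el v = zcM e := by
    unfold zcM
    cases b <;> cases e.testBit 0 <;> cases e.testBit 1 <;> decide +kernel
  have hv16 := (by decide : ∀ v ∈ [0, 4, 8, 12], v < 16) v hv
  have h := tau3_act hg b hv16
  rw [(by decide +kernel : ∀ b, ∀ v ∈ [0, 4, 8, 12], tLin b v = v) b v hv,
    show D.elem b v = D.zc e from congrArg D.f hve] at h
  exact mul_inv_eq_iff_eq_mul.1 h

theorem sEl_sq (b : Bool) : D.sEl b * D.sEl b = 1 := by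
  rw [sEl, ← map_mul, ← map_one D.f]
  congr 1
  exact Prod.ext rfl (side_good b).s_mem.2.1

/-- The twin of order two commutes with its conjugates. -/
theorem tau3_comm (hN : D.types = nfTypes) (hnI : ∀ g, D.Twin g → ¬ IsConj D.t g) {g : G} (hg : D.Twin g)
    (hgg : g * g = 1) (b : Bool) : D.tau3 g b * g = g * D.tau3 g b := by
  obtain ⟨e, he, hs⟩ := tau3_s hN hnI hg hgg b
  have hτ := tau3_sq (D := D) hgg b
  have hτi : (D.tau3 g b)⁻¹ = D.tau3 g b := inv_eq_of_mul_eq_one_right hτ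
  have hsz : D.sEl b * D.zc e = D.zc e * D.sEl b := D.zc_comm e (D.sEl_mem b)
  set τ := D.tau3 g b with hτd
  set s := D.sEl b with hsd
  set ζ := D.zc e with hζd
  rw [hτi] at hs
  have hk : s * τ * s = τ * g * ζ := by
    calc s * τ * s = τ * τ * s * τ * s := by rw [hτ, one_mul]
      _ = τ * (τ * s * τ) * s := by group
      _ = τ * (g * (ζ * s)) * s := by rw [hs, hsz]
      _ = τ * g * ζ * (s * s) := by group
      _ = τ * g * ζ := by rw [hsd, sEl_sq, mul_one]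
  have hk2 : τ * g * ζ * (τ * g * ζ) = 1 := by
    rw [← hk]
    calc s * τ * s * (s * τ * s) = s * (τ * (s * s) * τ) * s := by group
      _ = 1 := by rw [hsd, sEl_sq, mul_one, hτ, mul_one, sEl_sq]
  have hζ2 : ζ * ζ = 1 := by rw [hζd, ← D.zc_mul he he, Nat.xor_self, D.zc_zero]
  have hζc : ζ * (τ * g) = τ * g * ζ := by
    rw [← mul_assoc, hζd, ← zc_tau3 hg b e, mul_assoc, ← zc_twin hg e, mul_assoc]
  have h3 : τ * g * (τ * g) = 1 := by
    calc τ * g * (τ * g) = τ * g * (τ * g) * (ζ * ζ) := by rw [hζ2, mul_one]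
      _ = τ * g * (τ * g * ζ) * ζ := by group
      _ = τ * g * (ζ * (τ * g)) * ζ := by rw [hζc]
      _ = τ * g * ζ * (τ * g * ζ) := by group
      _ = 1 := hk2
  calc τ * g = (τ * g)⁻¹ := (inv_eq_of_mul_eq_one_right h3).symm
    _ = g * τ := by rw [mul_inv_rev, hτi, inv_eq_of_mul_eq_one_right hgg]

/-- The normalizer of `P` normalizes the subgroup. -/
theorem TOne_norm_M (hN : D.types = nfTypes) {g : G} (hg : D.Twin g) {k q : G}
    (hk : k ∈ normalizer (D.P : Set G)) (hq : q ∈ D.M) : k * q * k⁻¹ ∈ D.M := by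
  refine ⟨mul_mem (mul_mem hk hq.1) (inv_mem hk), ?_⟩
  obtain ⟨w, hw, hwe⟩ := (D.norm_values hN (inv_mem hk)).1
  rw [inv_inv] at hwe
  have hwz : w ∈ zCoord := (by decide : ∀ w ∈ [1, 5, 9, 13], w ∈ zCoord) w hw
  have e : k * q * k⁻¹ * D.t * (k * q * k⁻¹)⁻¹ = k * (q * D.elem false w * q⁻¹) * k⁻¹ := by rw [← hwe]; group
  have back : k * D.elem false w * k⁻¹ = D.t := by rw [← hwe]; group
  rw [e]
  rcases hq.2 with ht | ht
  · left
    have hc := D.f_central (zCoord_mem false w hwz).1 (D.mem_P_of_fix hq.1 ht)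
    rw [← show D.elem false w = D.f ((side false).el w) from rfl] at hc
    rw [hc, mul_inv_cancel_right, back]
  · right
    have hfix : g⁻¹ * q * D.t * (g⁻¹ * q)⁻¹ = D.t := by
      calc g⁻¹ * q * D.t * (g⁻¹ * q)⁻¹ = g⁻¹ * (q * D.t * q⁻¹) * g := by group
        _ = g⁻¹ * (g * D.t * g⁻¹) * g := by rw [ht, hg.t_img]
        _ = _ := by group
    have hc : (g⁻¹ * q) * D.elem false w = D.elem false w * (g⁻¹ * q) :=
      D.f_central (zCoord_mem false w hwz).1 (D.mem_P_of_fix (mul_mem (inv_mem hg.mem) hq.1) hfix)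
    have hg4 : ∀ w ∈ [1, 5, 9, 13], gLin w = w ^^^ 4 := by decide +kernel
    have hw16 : w < 16 := (zCoord_mem false w hwz).2
    have e2 : q * D.elem false w * q⁻¹ = D.elem false w * D.f (1, pz) := by
      calc q * D.elem false w * q⁻¹ = g * ((g⁻¹ * q) * D.elem false w) * q⁻¹ := by group
        _ = g * D.elem false w * g⁻¹ := by rw [hc]; group
        _ = _ := by rw [hg.act false hw16, hg4 w hw, D.elem_xor hw16 (by norm_num), D.elem_pz]
    rw [e2, Cfg.adjust.conj_mul_split, back, D.conj_pz hk]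

/-- A subgroup containing the normalizer of `P` and the conjugates of the twin, normalizing `M`. -/
structure Big (D : Cfg G n) (g : G) (K : Subgroup G) : Prop where
  TOne : normalizer (D.P : Set G) ≤ K
  tau : ∀ b, D.tau3 g b ∈ K
  norm : ∀ k ∈ K, ∀ q ∈ D.M, k * q * k⁻¹ ∈ D.M

theorem Big.cen {g : G} {K : Subgroup G} (hK : D.Big g K) :
    (K ⊓ centralizer ({D.t} : Set G) : Subgroup G) = D.P := by
  refine le_antisymm (fun q hq => ?_) (le_inf (le_normalizer.trans hK.TOne) D.P_le)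
  obtain ⟨h1, h2⟩ := mem_inf.1 hq
  have hqt := mem_centralizer_singleton_iff.1 h2
  refine D.mem_P_of_fix (normalizer_of_forall fun a ha => D.M_cen (hK.norm q h1 a (D.P_le_M ha)) ?_)
    (mul_inv_eq_iff_eq_mul.2 hqt)
  have hat := mem_centralizer_singleton_iff.1 (D.P_le ha)
  calc q * a * q⁻¹ * D.t = q * (a * (q⁻¹ * (D.t * q))) * q⁻¹ := by group
    _ = q * (a * D.t) * q⁻¹ := by rw [← hqt]; group
    _ = q * D.t * (a * q⁻¹) := by rw [hat]; group
    _ = D.t * (q * a * q⁻¹) := by rw [hqt]; group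

/-- The orbit of `t`. -/
def orbitIn (D : Cfg G n) (K : Subgroup G) : Set G := {y | ∃ k ∈ K, k * D.t * k⁻¹ = y}

/-- The conjugates of `t` in `M`. -/
def MI (D : Cfg G n) : Set G := {y | IsConj D.t y ∧ y ∈ D.M}

/-- The conjugates of `t` in the centre of `P`. -/
def QZ (D : Cfg G n) : Set G := {y | ∃ v ∈ [1, 5, 9, 13], D.elem false v = y}

theorem MI_split (hN : D.types = nfTypes) :
    D.MI = ((D.QZ ∪ D.QE false) ∪ D.QE true) ∪ D.MX := by
  ext y
  constructor
  · rintro ⟨hI, hM⟩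
    by_cases hP : y ∈ D.P
    · obtain ⟨p, hp, rfl⟩ := hP
      rcases nf_twelve p (mem_pFin.2 hp) (hN ▸ (D.ind_spec hp).1 hI) with
        ⟨v, hv, e⟩ | ⟨v, hv, e⟩ | ⟨v, hv, e⟩
      · exact Or.inl (Or.inl (Or.inl ⟨v, hv, congrArg D.f e⟩))
      · exact Or.inl (Or.inl (Or.inr ⟨v, hv, congrArg D.f e⟩))
      · exact Or.inl (Or.inr ⟨v, hv, congrArg D.f e⟩)
    · exact Or.inr ⟨hI, hM, hP⟩
  · rintro (((⟨v, hv, rfl⟩ | h) | h) | h)
    · have hh : v < 16 ∧ v.testBit 0 = true := (by decide : ∀ v ∈ [1, 5, 9, 13], v < 16 ∧ v.testBit 0 = true) v hv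
      exact ⟨(D.isConj_elem hN hh.1).2 hh.2, D.P_le_M (D.A_le _ (D.elem_mem hh.1))⟩
    · obtain ⟨h1, h2, -⟩ := QE_spec hN h
      exact ⟨h1, D.P_le_M h2⟩
    · obtain ⟨h1, h2, -⟩ := QE_spec hN h
      exact ⟨h1, D.P_le_M h2⟩
    · exact ⟨h.1, h.2.1⟩

theorem MX_small (hN : D.types = nfTypes) (hnI : ∀ g, D.Twin g → ¬ IsConj D.t g) {g : G} (hg : D.Twin g)
    (hgg : g * g = 1) : D.MX.ncard ≤ 4 := by
  have hsub : D.MX ⊆ (fun d : Fin 4 => g * D.f (xCoord 0 d)) '' Set.univ := by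
    intro y hy
    obtain ⟨-, d, hd, hde⟩ := MX_coord hN hnI hg (c := 0) (by norm_num) (by rw [hgg, D.zc_zero]) hy
    exact ⟨⟨d, hd⟩, trivial, hde.symm⟩
  refine (Set.ncard_le_ncard hsub (Set.toFinite _)).trans ((Set.ncard_image_le (Set.toFinite _)).trans ?_)
  simp

theorem tau3_onto_X (hN : D.types = nfTypes) (hnI : ∀ g, D.Twin g → ¬ IsConj D.t g) {g : G} (hg : D.Twin g)
    (hgg : g * g = 1) (b : Bool) :
    (fun y => D.tau3 g b * y * (D.tau3 g b)⁻¹) '' D.QE (!b) = D.MX := by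
  refine Set.eq_of_subset_of_ncard_le (Set.image_subset_iff.2 fun y hy => tau3_to_X hN hg b hy) ?_
    (Set.toFinite _)
  rw [Set.ncard_image_of_injective (f := fun y => D.tau3 g b * y * (D.tau3 g b)⁻¹) _
      fun x y e => (MulAut.conj (D.tau3 g b)).injective e,
    ← Nat.card_coe_set_eq (D.QE (!b)), card_QE]
  exact MX_small hN hnI hg hgg

theorem Big.stable {g : G} {K : Subgroup G} (hK : D.Big g K) (b : Bool) (y : G) :
    D.tau3 g b * y * (D.tau3 g b)⁻¹ ∈ D.orbitIn K ↔ y ∈ D.orbitIn K := by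
  constructor
  · rintro ⟨k, hk, hke⟩
    refine ⟨(D.tau3 g b)⁻¹ * k, mul_mem (inv_mem (hK.tau b)) hk, ?_⟩
    calc (D.tau3 g b)⁻¹ * k * D.t * ((D.tau3 g b)⁻¹ * k)⁻¹
        = (D.tau3 g b)⁻¹ * (k * D.t * k⁻¹) * D.tau3 g b := by group
      _ = y := by rw [hke]; group
  · rintro ⟨k, hk, rfl⟩
    exact ⟨D.tau3 g b * k, mul_mem (hK.tau b) hk, by group⟩

/-- The orbit has sixteen elements. -/
theorem Big.full (hN : D.types = nfTypes) (hnI : ∀ g, D.Twin g → ¬ IsConj D.t g) {g : G} (hg : D.Twin g)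
    (hgg : g * g = 1) {K : Subgroup G} (hK : D.Big g K) : D.orbitIn K = D.MI ∧ Nat.card K = 512 := by
  set O := D.orbitIn K with hO
  have hsub : O ⊆ D.MI := by
    rintro _ ⟨k, hk, rfl⟩
    exact ⟨(D.isConj_conj _ _).2 (IsConj.refl _), hK.norm k hk _ (D.P_le_M D.t_mem_P)⟩
  have hQZ : D.QZ ⊆ O := by
    rintro _ ⟨v, hv, rfl⟩
    obtain ⟨k, hk, hkt⟩ := D.exists_norm_coord hN hv
    exact ⟨k, hK.TOne hk, hkt⟩
  have cQZ : D.QZ.ncard = 4 := by
    classical
    have e : D.QZ = (fun v => D.elem false v) '' ([1, 5, 9, 13].toFinset : Finset ℕ) := by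
      ext y; simp [QZ, eq_comm]
    rw [e, Set.ncard_image_of_injOn, Set.ncard_coe_finset]
    · rfl
    · intro x hx y hy e
      have lt : ∀ v ∈ [1, 5, 9, 13], v < 16 := by decide
      exact side_el_inj false x (lt x (List.mem_toFinset.1 hx)) y (lt y (List.mem_toFinset.1 hy)) (D.f_inj e)
  have d1 : ∀ b, Disjoint D.QZ (D.QE b) := fun b => by
    rw [Set.disjoint_left]
    rintro _ ⟨v, hv, rfl⟩ ⟨w, hw, e⟩
    exact quad_sep w hw v hv b (D.f_inj e)
  have d2 : Disjoint (D.QE false) (D.QE true) := by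
    rw [Set.disjoint_left]
    rintro _ ⟨v, hv, rfl⟩ ⟨w, hw, e⟩
    exact quad_sep' v hv w hw (D.f_inj e.symm)
  have d3 : ∀ b, Disjoint (D.QE b) D.MX := fun b => by
    rw [Set.disjoint_left]
    exact fun y hy hX => hX.2.2 (QE_spec hN hy).2.1
  have d4 : Disjoint D.QZ D.MX := by
    rw [Set.disjoint_left]
    rintro _ ⟨v, hv, rfl⟩ hX
    exact hX.2.2 (D.A_le _ (D.elem_mem ((by decide : ∀ v ∈ [1, 5, 9, 13], v < 16) v hv)))
  -- the three other parts contain equally many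
  have heq : ∀ b, (O ∩ D.MX).ncard = (O ∩ D.QE (!b)).ncard := by
    intro b
    have e : O ∩ D.MX = (fun y => D.tau3 g b * y * (D.tau3 g b)⁻¹) '' (O ∩ D.QE (!b)) := by
      rw [← tau3_onto_X hN hnI hg hgg b]
      ext y
      constructor
      · rintro ⟨hy, x, hx, rfl⟩
        exact ⟨x, ⟨(hK.stable b x).1 hy, hx⟩, rfl⟩
      · rintro ⟨x, ⟨hx1, hx2⟩, rfl⟩
        exact ⟨(hK.stable b x).2 hx1, x, hx2, rfl⟩
    rw [e, Set.ncard_image_of_injective (f := fun y => D.tau3 g b * y * (D.tau3 g b)⁻¹) _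
      fun x y e => (MulAut.conj (D.tau3 g b)).injective e]
  have a1 := heq false
  have a2 := heq true
  simp only [Bool.not_false, Bool.not_true] at a1 a2
  have hpos : 0 < (O ∩ D.QE false).ncard := by
    rw [Set.ncard_pos (Set.toFinite _)]
    refine ⟨_, (hK.stable false D.t).2 ⟨1, one_mem _, by group⟩, uLin false 5, (t_img_quad false).1, ?_⟩
    rw [← D.elem_one false, tau3_act hg false (by norm_num), (t_img_quad false).2.2]
  have hle : (O ∩ D.QE false).ncard ≤ 4 := by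
    refine (Set.ncard_le_ncard Set.inter_subset_right (Set.toFinite _)).trans ?_
    rw [← Nat.card_coe_set_eq, card_QE]
  have hOsplit : O = ((D.QZ ∪ (O ∩ D.QE false)) ∪ (O ∩ D.QE true)) ∪ (O ∩ D.MX) := by
    ext y
    constructor
    · intro hy
      have h := hsub hy
      rw [MI_split hN] at h
      rcases h with ((h | h) | h) | h
      exacts [Or.inl (Or.inl (Or.inl h)), Or.inl (Or.inl (Or.inr ⟨hy, h⟩)), Or.inl (Or.inr ⟨hy, h⟩),
        Or.inr ⟨hy, h⟩]
    · rintro (((h | h) | h) | h)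
      exacts [hQZ h, h.1, h.1, h.1]
  have hcO : O.ncard = 4 + 3 * (O ∩ D.QE false).ncard := by
    conv_lhs => rw [hOsplit]
    rw [Set.ncard_union_eq, Set.ncard_union_eq, Set.ncard_union_eq, cQZ]
    · omega
    · exact (d1 false).mono_right Set.inter_subset_right
    · exact Set.disjoint_union_left.2 ⟨(d1 true).mono_right Set.inter_subset_right,
        d2.mono Set.inter_subset_right Set.inter_subset_right⟩
    · exact Set.disjoint_union_left.2 ⟨Set.disjoint_union_left.2 ⟨d4.mono_right Set.inter_subset_right,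
        (d3 false).mono Set.inter_subset_right Set.inter_subset_right⟩,
        (d3 true).mono Set.inter_subset_right Set.inter_subset_right⟩
  have hK32 : Nat.card K = 32 * O.ncard := by
    rw [D.card_orbit, hK.cen, D.card_P, ← Nat.card_coe_set_eq]
    rfl
  have h128 : 128 ∣ Nat.card K := D.card_norm_P hN ▸ card_dvd_of_le hK.TOne
  have h16 : O.ncard = 16 := by
    rw [hK32, hcO] at h128
    omega
  refine ⟨Set.eq_of_subset_of_ncard_le hsub ?_ (Set.toFinite _), by rw [hK32, h16]⟩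
  rw [h16, MI_split hN]
  refine (Set.ncard_union_le _ _).trans ?_
  refine (Nat.add_le_add ((Set.ncard_union_le _ _).trans (Nat.add_le_add ((Set.ncard_union_le _ _).trans
    (Nat.add_le_add cQZ.le le_rfl)) le_rfl)) (MX_small hN hnI hg hgg)).trans ?_
  rw [← Nat.card_coe_set_eq, ← Nat.card_coe_set_eq, card_QE, card_QE]

theorem big_normalizer (hN : D.types = nfTypes) {g : G} (hg : D.Twin g) : D.Big g (normalizer (D.M : Set G)) :=
  ⟨fun _ hk => normalizer_of_forall fun _ hq => TOne_norm_M hN hg hk hq,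
    fun b => normalizer_of_forall fun _ hq => tau3_M hg b hq,
    fun _ hk q hq => (mem_normalizer_iff.1 hk q).1 hq⟩

end Cfg

end CfsgLib.TwoSymSix
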