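import Cfsg.Agent.Lib.Rec.TwoSymSix.RCase
import Cfsg.Agent.Lib.Rec.TwoSymSix.MSub

/-!
# The end of the case without interchanges
-/

set_option autoImplicit false
set_option synthInstance.maxSize 4000
set_option linter.unusedSectionVars false

namespace CfsgLib.TwoSymSix

attribute [local instance 10000] List.decidableBAll List.decidableBEx Finset.decidableDforallFinset

open Equiv Subgroup

namespace Cfg

variable {G : Type*} [Group G] [Finite G] {n : ℕ} {D : Cfg G n} {p : Par} {gA gB : G}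

theorem Rels.twin_coord (h : D.Rels p gA gB) (hN : D.types = nfTypes) (h1 : p.v₁ = false) (h2 : p.v₂ = false)
    {g : G} (hg : D.Twin g) (hI : IsConj D.t g) : 24 ∈ D.conjSet gA gB ∨ 25 ∈ D.conjSet gA gB := by
  obtain ⟨x, hx, c, hc, rfl⟩ := h.W_exists hN hg.mem
  have hxS : x ∈ D.conjSet gA gB := mem_conjSet.2 ⟨hx, (h.conj_iff hN hc).1 hI⟩
  have hz : ∀ {b : Bool} {v : ℕ}, v < 16 →
      D.W gA gB x * D.zc c * D.elem b v * (D.W gA gB x * D.zc c)⁻¹ = D.W gA gB x * D.elem b v * (D.W gA gB x)⁻¹ := by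
    intro b v hv
    have e := D.zc_comm c (D.A_le b (D.elem_mem hv))
    calc D.W gA gB x * D.zc c * D.elem b v * (D.W gA gB x * D.zc c)⁻¹
        = D.W gA gB x * (D.zc c * D.elem b v) * ((D.zc c)⁻¹ * (D.W gA gB x)⁻¹) := by group
      _ = _ := by rw [← e]; group
  have t5 := hg.t_img
  rw [← elem_t_pz false, ← D.elem_one false, hz (by norm_num), D.elem_one, (h.W_images false x).1] at t5
  have e1 := hg.fix pe (by simp)
  rw [show D.f (1, pe) = D.elem false 2 from congrArg D.f (by decide +kernel), hz (by norm_num),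
    (h.W_images false x).2, h1] at e1
  have e2 := hg.fix pf (by simp)
  rw [show D.f (1, pf) = D.elem true 2 from congrArg D.f (by decide +kernel), hz (by norm_num),
    (h.W_images true x).2, h2] at e2
  have l1 : ∀ a c : Bool, 1 ^^^ sel a 8 ^^^ sel c 12 < 16 ∧
      2 ^^^ (sel a 4 ^^^ sel c (sel false 12)) < 16 ∧ 2 ^^^ (sel a 4 ^^^ sel c (sel false 8)) < 16 := by decide
  have key : ∀ x < 32, 1 ^^^ sel (x.testBit 3) 8 ^^^ sel (x.testBit 4) 12 = 5 →
      2 ^^^ (sel (x.testBit 2) 4 ^^^ sel (x.testBit 3) (sel false 12)) = 2 →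
      2 ^^^ (sel (x.testBit 1) 4 ^^^ sel (x.testBit 4) (sel false 8)) = 2 → x = 24 ∨ x = 25 := by decide +kernel
  rcases key x hx (side_el_inj false _ (l1 _ _).1 5 (by norm_num) (D.f_inj t5))
    (side_el_inj false _ (l1 _ _).2.1 2 (by norm_num) (D.f_inj e1))
    (side_el_inj true _ (l1 _ _).2.2 2 (by norm_num) (D.f_inj e2)) with rfl | rfl
  exacts [Or.inl hxS, Or.inr hxS]

theorem Rels.twin_prod (h : D.Rels p gA gB) (h1 : p.v₁ = false) (h2 : p.v₂ = false) : D.Twin (gA * gB) := by
  have hc : ∀ b, ∀ v < 16, gA * gB * D.elem b v * (gA * gB)⁻¹ =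
      D.elem b (kLin false false false b (kLin false false true b v)) := by
    intro b v hv
    have hlt : kLin p.v₁ p.v₂ true b v < 16 := by
      have : ∀ v₁ v₂ i b, ∀ v < 16, kLin v₁ v₂ i b v < 16 := by decide +kernel
      exact this _ _ _ _ v hv
    have e := D.conj_comp (h.pick_conj true b hv) (h.pick_conj false b hlt)
    rw [h1, h2] at e
    exact e
  have key : ∀ b, kLin false false false b (kLin false false true b 1) = 5 ∧
      ∀ v ∈ evenList, kLin false false false b (kLin false false true b v) = v := by decide +kernel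
  refine ⟨mul_mem h.gens.memA h.gens.memB, ?_, fun q hq => ?_⟩
  · have e := hc false 1 (by norm_num)
    rw [(key false).1, D.elem_one, elem_t_pz] at e
    exact e
  · have hq' : ∀ q ∈ [pe, pf, pz, pa], ∃ b, ∃ v ∈ evenList, (side b).el v = (1, q) := by decide +kernel
    obtain ⟨b, v, hv, hve⟩ := hq' q hq
    rw [show D.f (1, q) = D.elem b v from congrArg D.f hve.symm, hc b v (evenList_spec v hv).1, (key b).2 v hv]

theorem Rels.not_caseD (h : D.Rels p gA gB) (hN : D.types = nfTypes) : caseD p (D.conjSet gA gB) ≠ true := by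
  intro hD
  simp only [caseD, Bool.and_eq_true, Bool.not_eq_true', Bool.or_eq_false_iff, bne_iff_ne] at hD
  obtain ⟨⟨⟨h1, h2⟩, hg⟩, h4⟩ := hD
  have hnI : ∀ g, D.Twin g → ¬ IsConj D.t g := fun g hg' hI => by
    rcases h.twin_coord hN h1 h2 hg' hI with e | e
    · exact absurd (List.contains_iff_mem.2 e) (by rw [hg.1]; decide)
    · exact absurd (List.contains_iff_mem.2 e) (by rw [hg.2]; decide)
  obtain ⟨g, hg', hgg⟩ := exists_invol_twin hN hnI (h.twin_prod h1 h2)
  have hcard := (Big.full hN hnI hg' hgg (big_normalizer hN hg')).2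
  have h512 : 512 ∣ Nat.card G := hcard ▸ (normalizer (D.M : Set G)).card_subgroup_dvd_card
  obtain ⟨m, hm, hc⟩ := D.card_cen
  have hs := sign_iff D.hno D.tt (normalizer (D.P : Set G))
  rw [D.card_norm_P hN, hc, h.cnt_TOne hN, show 32 * m * (4 * (D.conjSet gA gB).length) =
    128 * (m * (D.conjSet gA gB).length) by ring, show 4 * 128 = 128 * 4 from rfl] at hs
  have h4' : 4 ∣ m * (D.conjSet gA gB).length := Nat.dvd_of_mul_dvd_mul_left (by norm_num) (hs.1 h512)
  have hco : Nat.Coprime 4 m := by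
    rw [show (4 : ℕ) = 2 ^ 2 from rfl]
    exact Nat.Coprime.pow_left 2 (Nat.prime_two.coprime_iff_not_dvd.2 fun h2 =>
      Nat.not_even_iff_odd.2 hm (even_iff_two_dvd.2 h2))
  exact h4 (Nat.mod_eq_zero_of_dvd (hco.dvd_mul_left.1 h4'))

/-- Without interchanges there is no configuration. -/
theorem not_sw (hN : D.types = nfTypes)
    (hsw : ∀ k ∈ normalizer (D.P : Set G), k ∈ normalizer (D.A false : Set G)) : False := by
  obtain ⟨gA, gB, v₁, v₂, hgen⟩ := D.exists_gens hN hsw
  obtain ⟨p, -, -, h⟩ := D.exists_rels hN hgen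
  rcases h.cases hN hsw with hc | hc | hc | hc
  exacts [h.not_caseA hN hsw hc, h.not_caseB hN hsw hc, h.not_caseC hN hsw hc, h.not_caseD hN hc]

end Cfg

end CfsgLib.TwoSymSix
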