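import Cfsg.Agent.Lib.Rec.TwoSymSix.Twist
import Cfsg.Agent.Lib.Rec.TwoSymSix.SWFinal
import Cfsg.Agent.Lib.Rec.TwoSymSix.HoleFinal
import Cfsg.Agent.Lib.Rec.TwoSymSix.FactsSix
import Cfsg.Agent.Lib.Rec.TwoSymSix.FactsSeven

/-!
# A group with an involution centralizer `2 × S₆` or `2 × S₇` has a subgroup of index two
-/

set_option autoImplicit false
set_option linter.unusedSectionVars false

namespace CfsgLib.TwoSymSix

open Equiv Subgroup

namespace Cfg

variable {G : Type*} [Group G] [Finite G] {n : ℕ}

theorem impossible (D : Cfg G n) (hj : ∀ p, Perm.sign (D.j p) = Perm.sign p) : False := by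
  obtain ⟨E, hE⟩ := D.exists_normal hj
  have hN : E.types = nfTypes := hE
  rcases E.dichotomy hN with hsw | ⟨k, hk, hkt, hs⟩
  · exact not_sw hN hsw
  · exact not_hole (D := E) ⟨hN, hk, hkt, hs⟩

end Cfg

theorem center_value {n : ℕ} (hn : 3 ≤ n) (x : Multiplicative (ZMod 2) × Perm (Fin n))
    (hc : ∀ y, x * y = y * x) (hx : x ≠ 1) : x = (Multiplicative.ofAdd 1, 1) := by
  obtain ⟨i, π⟩ := x
  have hπ : π = 1 := by
    by_contra h
    obtain ⟨a, ha⟩ : ∃ a, π a ≠ a := by
      by_contra hall
      push Not at hall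
      exact h (Equiv.ext hall)
    obtain ⟨c, hca, hcb⟩ : ∃ c : Fin n, c ≠ a ∧ c ≠ π a := by
      by_contra hall
      push Not at hall
      have hsub : (Finset.univ : Finset (Fin n)) ⊆ {a, π a} := fun c _ => by
        by_cases e : c = a
        · simp [e]
        · simp [hall c e]
      have := Finset.card_le_card hsub
      rw [Finset.card_univ, Fintype.card_fin] at this
      have := this.trans Finset.card_le_two
      omega
    have h2 := congrArg (fun y : Multiplicative (ZMod 2) × Perm (Fin n) => y.2 a) (hc (1, Equiv.swap (π a) c))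
    simp only [Prod.snd_mul, Perm.mul_apply, Equiv.swap_apply_left] at h2
    rw [Equiv.swap_apply_of_ne_of_ne ha.symm hca.symm] at h2
    exact hcb h2.symm
  subst hπ
  rcases (by decide : ∀ i : Multiplicative (ZMod 2), i = 1 ∨ i = Multiplicative.ofAdd 1) i with rfl | rfl
  · exact absurd rfl hx
  · rfl

/-- The subgroup of index two. -/
theorem exists_index_two {G : Type*} [Group G] [Finite G] {n : ℕ} (hn : 3 ≤ n) (t : G) (ht : orderOf t = 2)
    (j : Perm (Fin 6) →* Perm (Fin n)) (hF : Facts j) (hj : ∀ p, Perm.sign (j p) = Perm.sign p)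
    (hC : Nonempty (↥(Subgroup.centralizer ({t} : Set G)) ≃* Multiplicative (ZMod 2) × Perm (Fin n))) :
    ∃ H : Subgroup G, H.index = 2 := by
  obtain ⟨e⟩ := hC
  by_contra hno
  push Not at hno
  have htC : t ∈ Subgroup.centralizer ({t} : Set G) := Subgroup.mem_centralizer_singleton_iff.2 rfl
  have ht1 : t ≠ 1 := fun h => by simp [h] at ht
  have htau : e ⟨t, htC⟩ = (Multiplicative.ofAdd 1, 1) := by
    refine center_value hn _ (fun y => ?_) fun h => ht1 ?_
    · have h1 : (⟨t, htC⟩ : Subgroup.centralizer ({t} : Set G)) * e.symm y = e.symm y * ⟨t, htC⟩ :=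
        Subtype.ext (Subgroup.mem_centralizer_singleton_iff.1 (e.symm y).2).symm
      have h2 := congrArg e h1
      rwa [map_mul, map_mul, e.apply_symm_apply] at h2
    · have := congrArg Subtype.val (e.injective (h.trans (map_one e).symm))
      exact this
  let el : Multiplicative (ZMod 2) × Perm (Fin n) →* G :=
    (Subgroup.centralizer ({t} : Set G)).subtype.comp e.symm.toMonoidHom
  have hel : el (Multiplicative.ofAdd 1, 1) = t := by
    show ((e.symm (Multiplicative.ofAdd 1, 1) : Subgroup.centralizer ({t} : Set G)) : G) = t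
    rw [← htau, e.symm_apply_apply]
  refine Cfg.impossible
    { el := el
      el_inj := fun x y h => e.symm.injective (Subtype.ext h)
      el_cen := fun g => ?_
      hno := hno
      j := j
      facts := hF } hj
  rw [hel]
  constructor
  · intro h
    exact ⟨e ⟨g, Subgroup.mem_centralizer_singleton_iff.2 h⟩,
      congrArg Subtype.val (e.symm_apply_apply _)⟩
  · rintro ⟨x, rfl⟩
    exact Subgroup.mem_centralizer_singleton_iff.1 (e.symm x).2

theorem index_two_six {G : Type*} [Group G] [Finite G] (t : G) (ht : orderOf t = 2)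
    (hC : Nonempty (↥(Subgroup.centralizer ({t} : Set G)) ≃* Multiplicative (ZMod 2) × Perm (Fin 6))) :
    ∃ H : Subgroup G, H.index = 2 :=
  exists_index_two (by norm_num) t ht (MonoidHom.id _) facts6 (fun _ => rfl) hC

theorem index_two_seven {G : Type*} [Group G] [Finite G] (t : G) (ht : orderOf t = 2)
    (hC : Nonempty (↥(Subgroup.centralizer ({t} : Set G)) ≃* Multiplicative (ZMod 2) × Perm (Fin 7))) :
    ∃ H : Subgroup G, H.index = 2 :=
  exists_index_two (by norm_num) t ht emb7 facts7 (fun p => Equiv.Perm.sign_extendDomain p six) hC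

end CfsgLib.TwoSymSix
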