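import Cfsg.Agent.Lib.Rec.TwoSymSix.ModelCoord

/-!
# A model of the normalizer of the Sylow subgroup when no element interchanges the sides

The bits of a coordinate belong to `t`, the two generators outside the centre and the two
translations; the values of squares and commutators lie in the four-group `⟨(56), (12)(34)⟩`.
-/

set_option autoImplicit false
set_option synthInstance.maxSize 4000

namespace CfsgLib.TwoSymSix

attribute [local instance 10000] List.decidableBAll List.decidableBEx Finset.decidableDforallFinset

/-- The parameters of the model. -/
structure Par where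
  /-- the first translation moves the first generator -/
  v₁ : Bool
  /-- the second translation moves the second generator -/
  v₂ : Bool
  /-- the commutator of the translations -/
  c : ℕ
  /-- the square of the first translation -/
  qa : ℕ
  /-- the square of the second translation -/
  qb : ℕ

/-- A value switched by a bit. -/
def sel (b : Bool) (v : ℕ) : ℕ := if b then v else 0

/-- Moving a generator to its place in a product. -/
def Par.cr (p : Par) (x : ℕ) : ℕ → ℕ
  | 0 => sel (x.testBit 3) 1 ^^^ sel (x.testBit 4) 3
  | 1 => sel (x.testBit 2) 2 ^^^ sel (x.testBit 3) (sel p.v₁ 3)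
  | 2 => sel (x.testBit 4) (sel p.v₂ 1)
  | 3 => sel (x.testBit 3) p.qa ^^^ sel (x.testBit 4) p.c
  | _ => sel (x.testBit 4) p.qb

/-- The cocycle of the product. -/
def Par.beta (p : Par) (x y : ℕ) : ℕ :=
  ((sel (y.testBit 0) (p.cr x 0) ^^^ sel (y.testBit 1) (p.cr x 1)) ^^^
    (sel (y.testBit 2) (p.cr x 2) ^^^ sel (y.testBit 3) (p.cr x 3))) ^^^ sel (y.testBit 4) (p.cr x 4)

/-- The square. -/
def Par.sq (p : Par) (x : ℕ) : ℕ := p.beta x x

/-- The commutator. -/
def Par.br (p : Par) (x y : ℕ) : ℕ := p.beta x y ^^^ p.beta y x

/-- The coordinates of the centralizer of an element. -/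
def Par.cenList (p : Par) (y : ℕ) : List ℕ := (List.range 32).filter fun x => p.br y x == 0

/-- At most two values occur. -/
def twoValues (l : List ℕ) : Bool :=
  match l.filter (· != 0) with
  | [] => true
  | a :: r => r.all (· == a)

/-- The conditions on a single coordinate of a conjugate of `t`. -/
def Par.admissible (p : Par) (y : ℕ) : Bool :=
  let K := p.cenList y
  p.sq y == 0 && decide (K.length ≤ 8) && twoValues (K.map p.sq)

/-- Closure under the two generators. -/
def Par.closedE (p : Par) (S : List ℕ) : Bool :=
  S.all fun y => (p.br y 2 != 0 || S.contains (y ^^^ 2)) && (p.br y 4 != 0 || S.contains (y ^^^ 4))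

/-- The possible coordinates in one column. -/
def Par.column (p : Par) (X : ℕ) : List (List ℕ) :=
  (((List.range 8).map (8 * X + ·)).filter p.admissible).sublists.filter p.closedE

/-- The number of elements of a list with a property. -/
def num (S : List ℕ) (f : ℕ → Bool) : ℕ := (S.filter f).length

/-- The parity conditions. -/
def balanced (S : List ℕ) : Bool :=
  S.length % 2 == 0 && (List.range 5).all fun i => num S (·.testBit i) % 2 == 0

/-- The low part on the first side. -/
def lowA (x : ℕ) : Bool := !x.testBit 2 && x.testBit 3

/-- The low part on the second side. -/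
def lowB (x : ℕ) : Bool := !x.testBit 1 && x.testBit 4

/-- The unbalanced case. -/
def caseB (S : List ℕ) : Bool :=
  ((S.length + 2 * num S lowA) % 8 == 0) != ((S.length + 2 * num S lowB) % 8 == 0)

/-- The case of two shears. -/
def caseC (p : Par) (S : List ℕ) : Bool :=
  p.v₁ && p.v₂ && num S lowA == 0 && num S (·.testBit 4) == 2

/-- The case of a conjugate translating by the central double transposition. -/
def caseA (p : Par) (S : List ℕ) : Bool :=
  !p.v₁ && !p.v₂ && (S.contains 24 || S.contains 25) && S.length % 4 == 0 &&
    (S.length + 2 * num S lowA) % 8 != 0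

/-- The remaining case. -/
def caseD (p : Par) (S : List ℕ) : Bool :=
  !p.v₁ && !p.v₂ && !(S.contains 24 || S.contains 25) && S.length % 4 != 0

/-- The statement that the parameters allow four cases. -/
def Par.fourCases (p : Par) : Bool :=
  (p.column 1).all fun a => (p.column 2).all fun b => (p.column 3).all fun c =>
    let S := [1, 3, 5] ++ a ++ b ++ c
    !balanced S || caseA p S || caseB S || caseC p S || caseD p S

theorem fourCases_ff : ((List.range 4).all fun c => (List.range 4).all fun qa => (List.range 4).all fun qb =>
    (Par.mk false false c qa qb).fourCases) = true := by decide +kernel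

theorem fourCases_ft : ((List.range 4).all fun c => (List.range 4).all fun qa => (List.range 4).all fun qb =>
    (Par.mk false true c qa qb).fourCases) = true := by decide +kernel

theorem fourCases_tf : ((List.range 4).all fun c => (List.range 4).all fun qa => (List.range 4).all fun qb =>
    (Par.mk true false c qa qb).fourCases) = true := by decide +kernel

theorem fourCases_tt : ((List.range 4).all fun c => (List.range 4).all fun qa => (List.range 4).all fun qb =>
    (Par.mk true true c qa qb).fourCases) = true := by decide +kernel

theorem fourCases_all (p : Par) (hc : p.c < 4) (ha : p.qa < 4) (hb : p.qb < 4) : p.fourCases = true := by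
  obtain ⟨v₁, v₂, c, qa, qb⟩ := p
  cases v₁ <;> cases v₂
  · have h := fourCases_ff
    simp only [List.all_eq_true, List.mem_range] at h
    exact h c hc qa ha qb hb
  · have h := fourCases_ft
    simp only [List.all_eq_true, List.mem_range] at h
    exact h c hc qa ha qb hb
  · have h := fourCases_tf
    simp only [List.all_eq_true, List.mem_range] at h
    exact h c hc qa ha qb hb
  · have h := fourCases_tt
    simp only [List.all_eq_true, List.mem_range] at h
    exact h c hc qa ha qb hb

/-- The cocycle does not depend on lower bits. -/
theorem Par.cr_xor (p : Par) (x y j : ℕ) (hj : j < 5) (hy : ∀ i, j ≤ i → y.testBit i = false) :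
    p.cr (x ^^^ y) j = p.cr x j := by
  have h : ∀ i, j ≤ i → (x ^^^ y).testBit i = x.testBit i := fun i hi => by
    rw [Nat.testBit_xor, hy i hi, Bool.xor_false]
  match j with
  | 0 => simp [Par.cr, h 3 (by omega), h 4 (by omega)]
  | 1 => simp [Par.cr, h 2 (by omega), h 3 (by omega)]
  | 2 => simp [Par.cr, h 4 (by omega)]
  | 3 => simp [Par.cr, h 3 le_rfl, h 4 (by omega)]
  | 4 => simp [Par.cr, h 4 le_rfl]
  | k + 5 => omega

end CfsgLib.TwoSymSix
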