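import Cfsg.Agent.Lib.Rec.TwoSymSix.Dichotomy
import Cfsg.Agent.Lib.Rec.TwoSymSix.TOneModel

/-!
# Generators of the normalizer of the Sylow subgroup of the centralizer
-/

set_option autoImplicit false
set_option synthInstance.maxSize 4000
set_option linter.unusedSectionVars false

namespace CfsgLib.TwoSymSix

attribute [local instance 10000] List.decidableBAll List.decidableBEx Finset.decidableDforallFinset

open Equiv Subgroup

/-- The four values of the squares. -/
def zcM (c : ℕ) : M6 := (1, (if c.testBit 0 then pa else 1) * (if c.testBit 1 then pz else 1))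

theorem zcM_mul : ∀ c < 4, ∀ d < 4, zcM (c ^^^ d) = zcM c * zcM d := by decide +kernel

theorem zcM_mem : ∀ c, zcM c ∈ zList := fun c => by
  unfold zcM
  cases c.testBit 0 <;> cases c.testBit 1 <;> decide +kernel

theorem zcM_inj : ∀ c < 4, ∀ d < 4, zcM c = zcM d → c = d := by decide +kernel

theorem zList_split : ∀ p ∈ zList, (∃ c < 4, p = zcM c) ∨ nfTypes.ind p = true := by decide +kernel

theorem dList_mem_closure : ∀ K : Subgroup (Perm (Fin 6)), pe ∈ K → pf ∈ K → pz ∈ K → pa ∈ K →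
    ∀ d ∈ dList, d ∈ K := by
  intro K he hf hz ha d hd
  simp only [dList, List.mem_cons, List.not_mem_nil, or_false] at hd
  rcases hd with rfl | rfl | rfl | rfl | rfl | rfl | rfl | rfl | rfl | rfl | rfl | rfl | rfl | rfl | rfl | rfl <;>
    first
      | exact one_mem _
      | exact he | exact hf | exact hz | exact ha
      | (repeat (first | exact he | exact hf | exact hz | exact ha | refine mul_mem ?_ ?_))

theorem pz_central : ∀ d ∈ dList, pz * d = d * pz := fun d hd => (central_comm d hd).1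

namespace Cfg

variable {G : Type*} [Group G] [Finite G] {n : ℕ} (D : Cfg G n)

/-- The values of the squares in the group. -/
def zc (c : ℕ) : G := D.f (zcM c)

theorem zc_mul {c d : ℕ} (hc : c < 4) (hd : d < 4) : D.zc (c ^^^ d) = D.zc c * D.zc d := by
  rw [zc, zc, zc, ← map_mul, zcM_mul c hc d hd]

theorem zc_zero : D.zc 0 = 1 := by
  rw [zc, ← map_one D.f]; congr 1

theorem zc_mem_P (c : ℕ) : D.zc c ∈ D.P := D.f_mem_P (zList_central _ (zcM_mem c)).1

theorem zc_comm (c : ℕ) {g : G} (hg : g ∈ D.P) : g * D.zc c = D.zc c * g := D.f_central (zcM_mem c) hg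

/-- An element of the normalizer fixing `t` and both generators is central in `P`. -/
theorem central_of_fix {q : G} (hq : q ∈ normalizer (D.P : Set G)) (ht : q * D.t * q⁻¹ = D.t)
    (h1 : q * D.elem false 2 * q⁻¹ = D.elem false 2) (h2 : q * D.elem true 2 * q⁻¹ = D.elem true 2) :
    ∃ p ∈ zList, D.f p = q := by
  obtain ⟨p, hp, rfl⟩ := D.mem_P_of_fix hq ht
  rw [elem, (coord_e false).1, ← map_inv, ← map_mul, ← map_mul] at h1
  rw [elem, (coord_e true).1, ← map_inv, ← map_mul, ← map_mul] at h2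
  exact ⟨p, central_zList p (mem_pFin.2 hp) (mul_inv_eq_iff_eq_mul.1 (D.f_inj h1))
    (mul_inv_eq_iff_eq_mul.1 (D.f_inj h2)), rfl⟩

/-- A square centralizing `t` and both generators is one of the four values. -/
theorem sq_value (hN : D.types = nfTypes) {r : G} (hr : r ∈ normalizer (D.P : Set G))
    (ht : r * r * D.t * (r * r)⁻¹ = D.t)
    (h1 : r * r * D.elem false 2 * (r * r)⁻¹ = D.elem false 2)
    (h2 : r * r * D.elem true 2 * (r * r)⁻¹ = D.elem true 2) :
    ∃ c < 4, r * r = D.zc c := by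
  obtain ⟨p, hp, hpe⟩ := D.central_of_fix (mul_mem hr hr) ht h1 h2
  rcases zList_split p hp with ⟨c, hc, rfl⟩ | h
  · exact ⟨c, hc, hpe.symm⟩
  · have h3 := (D.ind_spec (zList_central p hp).1).2 (hN ▸ h)
    exact (D.not_sq h3 hpe.symm).elim

/-- An element moving `t` to `t (12)(34)` and fixing the other generators. -/
structure Twin (g : G) : Prop where
  mem : g ∈ normalizer (D.P : Set G)
  t_img : g * D.t * g⁻¹ = D.t * D.f (1, pz)
  fix : ∀ q ∈ [pe, pf, pz, pa], g * D.f (1, q) * g⁻¹ = D.f (1, q)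

theorem Twin.fix_d {g : G} (hg : D.Twin g) {d : Perm (Fin 6)} (hd : d ∈ dList) :
    g * D.f (1, d) * g⁻¹ = D.f (1, d) := by
  let ι : Perm (Fin 6) →* G := D.f.comp (MonoidHom.inr _ _)
  have key := dList_mem_closure (((MulAut.conj g).toMonoidHom.comp ι).eqLocus ι) (hg.fix pe (by simp))
    (hg.fix pf (by simp)) (hg.fix pz (by simp)) (hg.fix pa (by simp)) d hd
  exact key

theorem f_split (i : Multiplicative (ZMod 2)) (d : Perm (Fin 6)) :
    D.f (i, d) = (if i = 1 then 1 else D.t) * D.f (1, d) := by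
  rcases (by decide : ∀ i : Multiplicative (ZMod 2), i = 1 ∨ i = Multiplicative.ofAdd 1) i with rfl | rfl
  · simp
  · rw [if_neg (by decide), ← D.f_tau, ← map_mul]
    simp [tau]

theorem Twin.conj_f {g : G} (hg : D.Twin g) {p : M6} (hp : p ∈ pSub) :
    g * D.f p * g⁻¹ = D.f (if p.1 = 1 then p else (p.1, pz * p.2)) := by
  obtain ⟨i, d⟩ := p
  rw [D.f_split i d]
  by_cases hi : i = 1
  · subst hi
    simp only [if_true, one_mul]
    exact hg.fix_d D hp
  · simp only [if_neg hi]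
    have e : D.t * D.f (1, pz) * D.f (1, d) = D.f (i, pz * d) := by
      rw [D.f_split i, if_neg hi, mul_assoc, ← map_mul]
      simp
    have hd : d ∈ dList := hp
    rw [← e, ← hg.t_img]
    conv_rhs => rw [← hg.fix_d D hd]
    group

theorem Twin.mul_t {g : G} (hg : D.Twin g) : D.Twin (g * D.t) := by
  refine ⟨mul_mem hg.mem (le_normalizer D.t_mem_P), ?_, fun q hq => ?_⟩
  · rw [← hg.t_img]
    group
  · have h : D.t * D.f (1, q) * D.t⁻¹ = D.f (1, q) := by
      rw [← D.f_tau, ← map_inv, ← map_mul, ← map_mul]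
      congr 1
      simp [tau]
    conv_rhs => rw [← hg.fix q hq, ← h]
    group

theorem Twin.sq_value {g : G} (hg : D.Twin g) (hN : D.types = nfTypes) : ∃ c < 4, g * g = D.zc c := by
  have h : ∀ q ∈ [pe, pf, pz, pa], g * g * D.f (1, q) * (g * g)⁻¹ = D.f (1, q) := fun q hq => by
    conv_rhs => rw [← hg.fix q hq, ← hg.fix q hq]
    group
  refine D.sq_value hN hg.mem ?_ ?_ ?_
  · calc g * g * D.t * (g * g)⁻¹ = g * (g * D.t * g⁻¹) * g⁻¹ := by group
      _ = g * (D.t * D.f (1, pz)) * g⁻¹ := by rw [hg.t_img]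
      _ = g * D.t * g⁻¹ * (g * D.f (1, pz) * g⁻¹) := by group
      _ = D.t * (D.f (1, pz) * D.f (1, pz)) := by rw [hg.t_img, hg.fix pz (by simp), mul_assoc]
      _ = D.t := by
        rw [← map_mul, show ((1 : Multiplicative (ZMod 2)), pz) * (1, pz) = 1 by decide +kernel,
          map_one, mul_one]
  · rw [elem, (coord_e false).1]; exact h pe (by simp)
  · rw [elem, (coord_e true).1]; exact h pf (by simp)

/-- Generators of an elementary side other than `t` go to their own coset. -/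
theorem e_image (hN : D.types = nfTypes) {b : Bool} {h : G} (hh : h ∈ normalizer (D.P : Set G))
    (hb : h ∈ normalizer (D.A b : Set G)) :
    ∃ x ∈ [0, 4, 8, 12], h * D.elem b 2 * h⁻¹ = D.elem b (2 ^^^ x) := by
  obtain ⟨w, hw, hwe⟩ := D.exists_elem ((mem_normalizer_iff.1 hb _).1 (D.elem_mem (b := b) (v := 2) (by norm_num)))
  have h0 : w.testBit 0 = false := by
    by_contra hc
    rw [Bool.not_eq_false, ← D.isConj_elem hN (b := b) hw, hwe, D.isConj_conj,
      D.isConj_elem hN (by norm_num)] at hc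
    exact absurd hc (by decide)
  have h1 : w ∉ zCoord := by
    intro hz
    obtain ⟨q, hq, hqe⟩ := D.conj_zList (inv_mem hh) (zCoord_mem b w hz).1
    obtain ⟨v, hv, rfl⟩ := zList_coord b q hq
    change h⁻¹ * D.elem b w * h⁻¹⁻¹ = D.elem b v at hqe
    rw [hwe] at hqe
    have h3 : D.elem b 2 = D.elem b v := by rw [← hqe]; group
    exact absurd (side_el_inj b 2 (by norm_num) v (zCoord_mem b v hv).2 (D.f_inj h3) ▸ hv) (by decide)
  have key : ∀ w < 16, w.testBit 0 = false → w ∉ zCoord → ∃ x ∈ [0, 4, 8, 12], 2 ^^^ x = w := by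
    decide +kernel
  obtain ⟨x, hx, rfl⟩ := key w hw h0 h1
  exact ⟨x, hx, hwe.symm⟩

/-- The part outside the centre may be changed by the central double transposition. -/
theorem adjust {h : G} (hh : h ∈ normalizer (D.P : Set G)) {x₁ x₂ y₁ y₂ : ℕ}
    (hx₁ : x₁ ∈ [0, 4, 8, 12]) (hx₂ : x₂ ∈ [0, 4, 8, 12]) (hy₁ : x₁ ^^^ y₁ ∈ [0, 4]) (hy₂ : x₂ ^^^ y₂ ∈ [0, 4])
    (h₁ : h * D.elem false 2 * h⁻¹ = D.elem false (2 ^^^ x₁))
    (h₂ : h * D.elem true 2 * h⁻¹ = D.elem true (2 ^^^ x₂)) :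
    ∃ g ∈ normalizer (D.P : Set G), g * D.t * g⁻¹ = h * D.t * h⁻¹ ∧
      g * D.elem false 8 * g⁻¹ = h * D.elem false 8 * h⁻¹ ∧
      g * D.elem false 2 * g⁻¹ = D.elem false (2 ^^^ y₁) ∧ g * D.elem true 2 * g⁻¹ = D.elem true (2 ^^^ y₂) := by
  let d := (if x₁ ^^^ y₁ = 0 then 1 else pf) * (if x₂ ^^^ y₂ = 0 then 1 else pe)
  have key : ∀ i ∈ [0, 4], ∀ j ∈ [0, 4],
      ((if i = 0 then 1 else pf) * (if j = 0 then (1 : Perm (Fin 6)) else pe)) ∈ dList ∧
        (∀ v ∈ [1, 8], ((1 : Multiplicative (ZMod 2)), (if i = 0 then 1 else pf) * (if j = 0 then 1 else pe)) *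
          (side false).el v * (1, (if i = 0 then 1 else pf) * (if j = 0 then 1 else pe))⁻¹ = (side false).el v) ∧
        ((1 : Multiplicative (ZMod 2)), (if i = 0 then 1 else pf) * (if j = 0 then 1 else pe)) *
          (side false).el 2 * (1, (if i = 0 then 1 else pf) * (if j = 0 then 1 else pe))⁻¹ =
            (side false).el (2 ^^^ i) ∧
        ((1 : Multiplicative (ZMod 2)), (if i = 0 then 1 else pf) * (if j = 0 then 1 else pe)) *
          (side true).el 2 * (1, (if i = 0 then 1 else pf) * (if j = 0 then 1 else pe))⁻¹ =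
            (side true).el (2 ^^^ j) := by decide +kernel
  obtain ⟨k1, k2, k3, k4⟩ := key _ hy₁ _ hy₂
  set m := D.f (1, d) with hm
  have hc : ∀ (b : Bool) (v w : ℕ), ((1 : Multiplicative (ZMod 2)), d) * (side b).el v * (1, d)⁻¹ = (side b).el w →
      h * m * D.elem b v * (h * m)⁻¹ = h * D.elem b w * h⁻¹ := by
    intro b v w e
    have e' : m * D.elem b v * m⁻¹ = D.elem b w := by rw [hm, elem, elem, ← map_inv, ← map_mul, ← map_mul, e]
    rw [← e']
    group
  have hfix : ∀ (b : Bool) (i : ℕ), i ∈ [0, 4] → h * D.elem b i * h⁻¹ = D.elem b i := by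
    intro b i hi
    simp only [List.mem_cons, List.not_mem_nil, or_false] at hi
    rcases hi with rfl | rfl
    · rw [D.elem_zero]; group
    · rw [D.elem_pz]; exact D.conj_pz hh
  have hx16 : ∀ x ∈ [0, 4, 8, 12], 2 ^^^ x < 16 := by decide
  have hi16 : ∀ i ∈ [0, 4], i < 16 := by decide
  have hsplit : ∀ (b : Bool) (x y : ℕ), x ∈ [0, 4, 8, 12] → x ^^^ y ∈ [0, 4] →
      h * D.elem b 2 * h⁻¹ = D.elem b (2 ^^^ x) →
        h * D.elem b (2 ^^^ (x ^^^ y)) * h⁻¹ = D.elem b (2 ^^^ y) := by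
    intro b x y hx hy he
    rw [D.elem_xor (by norm_num) (hi16 _ hy), conj_mul_split, he, hfix b _ hy,
      ← D.elem_xor (hx16 x hx) (hi16 _ hy)]
    congr 1
    rw [Nat.xor_assoc, ← Nat.xor_assoc x x y, Nat.xor_self, Nat.zero_xor]
  refine ⟨h * m, mul_mem hh (le_normalizer (D.f_mem_P (p := (1, d)) k1)), ?_, ?_, ?_, ?_⟩
  · rw [← D.elem_one false]; exact hc false 1 1 (k2 1 (by simp))
  · exact hc false 8 8 (k2 8 (by simp))
  · rw [hc false 2 _ k3]; exact hsplit false x₁ y₁ hx₁ hy₁ h₁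
  · rw [hc true 2 _ k4]; exact hsplit true x₂ y₂ hx₂ hy₂ h₂
where
  conj_mul_split {H : Type _} [Group H] {h x y : H} : h * (x * y) * h⁻¹ = h * x * h⁻¹ * (h * y * h⁻¹) := by
    group

/-- The interchanging element and the one translating by the central double transposition. -/
theorem hole_gen (hN : D.types = nfTypes) {k : G} (hk : k ∈ normalizer (D.P : Set G))
    (hkt : k * D.t * k⁻¹ = D.elem false 9) (hs : k ∉ normalizer (D.A false : Set G)) :
    ∃ g, D.Twin g := by
  have ha := D.hole_a hN hk hkt hs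
  have kz : k * D.elem false 4 * k⁻¹ = D.elem false 4 := by rw [D.elem_pz]; exact D.conj_pz hk
  have hP2 : k * k ∈ normalizer (D.P : Set G) := mul_mem hk hk
  have ht : k * k * D.t * (k * k)⁻¹ = D.elem false 5 := by
    rw [show k * k * D.t * (k * k)⁻¹ = k * (k * D.t * k⁻¹) * k⁻¹ by group, hkt,
      show (9 : ℕ) = 1 ^^^ 8 from rfl, D.elem_xor (by norm_num) (by norm_num), D.elem_one,
      show k * (D.t * D.elem false 8) * k⁻¹ = k * D.t * k⁻¹ * (k * D.elem false 8 * k⁻¹) by group, hkt, ha,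
      ← D.elem_xor (by norm_num) (by norm_num)]
    rfl
  have ha2 : k * k * D.elem false 8 * (k * k)⁻¹ = D.elem false 8 := by
    rw [show k * k * D.elem false 8 * (k * k)⁻¹ = k * (k * D.elem false 8 * k⁻¹) * k⁻¹ by group, ha,
      show (12 : ℕ) = 4 ^^^ 8 from rfl, D.elem_xor (by norm_num) (by norm_num),
      show k * (D.elem false 4 * D.elem false 8) * k⁻¹ =
        k * D.elem false 4 * k⁻¹ * (k * D.elem false 8 * k⁻¹) by group,
      kz, ha, ← D.elem_xor (by norm_num) (by norm_num)]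
    rfl
  have hkk : ∀ c, k * k ∈ normalizer (D.A c : Set G) := fun c => normalizer_of_forall fun g hg => by
    have h := D.swap_maps hk hs _ (D.swap_maps hk hs c hg)
    rw [Bool.not_not] at h
    convert h using 1
    group
  have hx : ∀ b, ∃ x ∈ [0, 4], k * k * D.elem b 2 * (k * k)⁻¹ = D.elem b (2 ^^^ x) := by
    intro b
    obtain ⟨x, hx, he⟩ := D.e_image hN hP2 (hkk b)
    refine ⟨x, ?_, he⟩
    obtain ⟨-, horb⟩ := D.hole_orb hN hk hkt hs b
    have h5 : 5 ∈ D.orb b := (D.mem_orb hN).2 ⟨by norm_num, k * k, hkk b,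
      ht.trans (D.elem_central b (v := 5) (by decide)).symm⟩
    have hfour : ∀ b, ∀ S ∈ cands b, 5 ∈ S → ∀ v ∈ orbFour b, v ∈ S := by decide +kernel
    have h4 := four_check b x hx fun v hv => by
      obtain ⟨hv16, m, hm, hme⟩ := (D.mem_orb hN).1 (hfour b _ (D.orb_cands hN b) h5 v hv)
      have hlt : 2 ^^^ x < 16 := (by decide : ∀ x ∈ [0, 4, 8, 12], 2 ^^^ x < 16) x hx
      refine horb _ ((D.mem_orb hN).2 ⟨lin_lt (by norm_num) hlt (by norm_num) (by norm_num) v,
        k * k * m, mul_mem (hkk b) hm, ?_⟩)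
      have e5 : D.elem b 5 = D.elem false 5 := D.elem_central b (by decide)
      rw [← D.conj_lin (by norm_num) hlt (by norm_num) (by norm_num)
        (by rw [D.elem_one, e5]; exact ht) he
        (by rw [D.elem_pz]; exact D.conj_pz hP2)
        (by rw [D.elem_central b (v := 8) (by decide)]; exact ha2) hv16, ← hme]
      group
    simpa using h4
  obtain ⟨x₁, hx₁, e₁⟩ := hx false
  obtain ⟨x₂, hx₂, e₂⟩ := hx true
  have hsub : ∀ x ∈ [0, 4], x ∈ [0, 4, 8, 12] := by decide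
  obtain ⟨g, hg, gt, ga, g1, g2⟩ := D.adjust hP2 (y₁ := 0) (y₂ := 0) (hsub _ hx₁) (hsub _ hx₂)
    (by simpa using hx₁) (by simpa using hx₂) e₁ e₂
  refine ⟨g, hg, ?_, fun q hq => ?_⟩
  · rw [gt, ht, show (5 : ℕ) = 1 ^^^ 4 from rfl, D.elem_xor (by norm_num) (by norm_num), D.elem_one, D.elem_pz]
  · simp only [List.mem_cons, List.not_mem_nil, or_false] at hq
    rcases hq with rfl | rfl | rfl | rfl
    · rw [Nat.xor_zero, show D.elem false 2 = D.f (1, pe) from congrArg D.f (by decide +kernel)] at g1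
      exact g1
    · rw [Nat.xor_zero, show D.elem true 2 = D.f (1, pf) from congrArg D.f (by decide +kernel)] at g2
      exact g2
    · exact D.conj_pz hg
    · rw [ha2, show D.elem false 8 = D.f (1, pa) from congrArg D.f (by decide +kernel)] at ga
      exact ga

/-- The two translations in the case without interchanges. -/
structure Gens (gA gB : G) (v₁ v₂ : Bool) : Prop where
  memA : gA ∈ normalizer (D.P : Set G)
  memB : gB ∈ normalizer (D.P : Set G)
  tA : gA * D.t * gA⁻¹ = D.elem false 9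
  tB : gB * D.t * gB⁻¹ = D.elem false 13
  aA : gA * D.elem false 8 * gA⁻¹ = D.elem false 8
  aB : gB * D.elem false 8 * gB⁻¹ = D.elem false 8
  eA₁ : gA * D.elem false 2 * gA⁻¹ = D.elem false (2 ^^^ sel v₁ 12)
  eA₂ : gA * D.elem true 2 * gA⁻¹ = D.elem true 2
  eB₁ : gB * D.elem false 2 * gB⁻¹ = D.elem false 2
  eB₂ : gB * D.elem true 2 * gB⁻¹ = D.elem true (2 ^^^ sel v₂ 8)

theorem exists_gens (hN : D.types = nfTypes)
    (hsw : ∀ k ∈ normalizer (D.P : Set G), k ∈ normalizer (D.A false : Set G)) :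
    ∃ gA gB v₁ v₂, D.Gens gA gB v₁ v₂ := by
  have step : ∀ w ∈ [9, 13], ∃ k ∈ normalizer (D.P : Set G), k * D.t * k⁻¹ = D.elem false w ∧
      (∀ b, tw b = w → ∃ x ∈ [0, 4], k * D.elem b 2 * k⁻¹ = D.elem b (2 ^^^ x)) ∧
      ∀ b, ∃ x ∈ [0, 4, 8, 12], k * D.elem b 2 * k⁻¹ = D.elem b (2 ^^^ x) := by
    intro w hw
    have hw' : w ∈ [1, 5, 9, 13] := (by decide : ∀ w ∈ [9, 13], w ∈ [1, 5, 9, 13]) w hw
    have hwz : w ∈ zCoord := (by decide : ∀ w ∈ [1, 5, 9, 13], w ∈ zCoord) w hw'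
    obtain ⟨k, hk, hkt⟩ := D.exists_norm_coord hN hw'
    have hb := D.norm_all hk (hsw k hk)
    refine ⟨k, hk, hkt, fun b hbw => ?_, fun b => D.e_image hN hk (hb b)⟩
    obtain ⟨x, hx, he⟩ := D.e_image hN hk (hb b)
    refine ⟨x, ?_, he⟩
    have h4 := D.translation (hb b) (by rw [hbw, D.elem_central b hwz]; exact hkt)
      (by rw [D.elem_pz]; exact D.conj_pz hk)
      (by rw [D.elem_central b (v := 8) (by decide)]; exact D.sw_a hN hsw hk) hx he
    simpa using h4
  have hsub : ∀ x ∈ [0, 4], x ∈ [0, 4, 8, 12] := by decide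
  have rep : ∀ x ∈ [0, 4, 8, 12], (∃ v : Bool, x ^^^ sel v 12 ∈ [0, 4]) ∧ ∃ v : Bool, x ^^^ sel v 8 ∈ [0, 4] := by
    decide +kernel
  obtain ⟨k, hk, kt, ktw, kall⟩ := step 9 (by simp)
  obtain ⟨x₁, hx₁, e₁⟩ := kall false
  obtain ⟨x₂, hx₂, e₂⟩ := ktw true rfl
  obtain ⟨v₁, hv₁⟩ := (rep x₁ hx₁).1
  obtain ⟨gA, hA, At, Aa, A1, A2⟩ := D.adjust hk (y₂ := 0) hx₁ (hsub _ hx₂) hv₁ (by simpa using hx₂) e₁ e₂
  obtain ⟨l, hl, lt', ltw, lall⟩ := step 13 (by simp)
  obtain ⟨z₂, hz₂, d₂⟩ := lall true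
  obtain ⟨z₁, hz₁, d₁⟩ := ltw false rfl
  obtain ⟨v₂, hv₂⟩ := (rep z₂ hz₂).2
  obtain ⟨gB, hB, Bt, Ba, B1, B2⟩ := D.adjust hl (y₁ := 0) (hsub _ hz₁) hz₂ (by simpa using hz₁) hv₂ d₁ d₂
  exact ⟨gA, gB, v₁, v₂, hA, hB, At.trans kt, Bt.trans lt', Aa.trans (D.sw_a hN hsw hk),
    Ba.trans (D.sw_a hN hsw hl), A1, by simpa using A2, by simpa using B1, B2⟩

end Cfg

end CfsgLib.TwoSymSix
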