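import Cfsg.Agent.Lib.Rec.TwoSymSix.SideActs

/-!
# Coordinates for the subgroup of order `256` normalizing a side
-/

set_option autoImplicit false
set_option synthInstance.maxSize 4000

namespace CfsgLib.TwoSymSix

attribute [local instance 10000] List.decidableBAll List.decidableBEx Finset.decidableDforallFinset

/-- The image of `(56)` when the image of the central double transposition is given. -/
def aImg : Bool → ℕ → ℕ
  | false, iz => iz ^^^ 12
  | true, _ => 8

/-- The shifted low class. -/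
def lowClass : Bool → List ℕ
  | false => [5, 9]
  | true => [5, 13]

/-- The low part of a side. -/
def lowOf : Bool → ℕ → Bool
  | false => lowA
  | true => lowB

/-- The index of the generator of a side. -/
def eIdx : Bool → ℕ
  | false => 2
  | true => 4

/-- The actions of the two translations. -/
def kLin (v₁ v₂ : Bool) : Bool → Bool → ℕ → ℕ
  | false, false => lin 9 (2 ^^^ sel v₁ 12) 4 8
  | true, false => lin 13 2 4 8
  | false, true => lin 9 2 4 8
  | true, true => lin 13 (2 ^^^ sel v₂ 8) 4 8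

/-- The translation conjugated by the element of order three. -/
def tauOf (v₁ v₂ : Bool) (b : Bool) (v : ℕ) : ℕ := uLin b (kLin v₁ v₂ b b (uLin b (uLin b v)))

theorem hParam : ∀ b, ∀ it ∈ oddList, ∀ ie ∈ evenList, ∀ iz ∈ [4, 4 ^^^ wv b],
    lin it ie iz (aImg b iz) it = 1 → it ∈ [1, 5, 9, 13] ∨
      ∀ v ∈ evenList, lin it ie iz (aImg b iz) v ∈ [v, v ^^^ wv b] := by decide +kernel

theorem high_split : ∀ b, ∀ it ∈ oddList,
    it ∈ [1, 5, 9, 13] ∨ uLin b it ∈ lowClass b ∨ uLin b (uLin b it) ∈ lowClass b := by decide +kernel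

theorem low_shift : ∀ b, ∀ it ∈ lowClass b, uLin b it ∈ oddList ∧ uLin b it ∉ [1, 5, 9, 13] ∧
    uLin b (uLin b it) ∈ oddList ∧ uLin b (uLin b it) ∉ [1, 5, 9, 13] ∧
      ∀ it' ∈ lowClass b, uLin b it ≠ uLin b (uLin b it') := by decide +kernel

theorem uLin_w : ∀ b, ∀ v < 16, uLin b (v ^^^ wv b) = uLin b v ^^^ wv b := by decide +kernel

theorem uLin_even : ∀ b, ∀ v ∈ evenList, uLin b v ∈ evenList ∧ uLin b (uLin b (uLin b v)) = v := by decide +kernel

theorem tau_z : ∀ v₁ v₂ b, tauOf v₁ v₂ b 4 ∈ [4, 4 ^^^ wv b] ∧ tauOf v₁ v₂ b (wv b) = wv b := by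
  decide +kernel

theorem reach_all : ∀ v₁ v₂ b, ∀ it ∈ oddList, it ∈
    [1, kLin v₁ v₂ false b 1, kLin v₁ v₂ true b 1, kLin v₁ v₂ false b (kLin v₁ v₂ true b 1),
      tauOf v₁ v₂ b 1, kLin v₁ v₂ false b (tauOf v₁ v₂ b 1), kLin v₁ v₂ true b (tauOf v₁ v₂ b 1),
      kLin v₁ v₂ false b (kLin v₁ v₂ true b (tauOf v₁ v₂ b 1))] := by decide +kernel

theorem lin_two : ∀ it < 16, ∀ ie < 16, ∀ iz < 16, ∀ ia < 16, lin it ie iz ia 2 = ie := by
  intro it _ ie _ iz _ ia _
  simp [lin, show Nat.testBit 2 0 = false by decide, show Nat.testBit 2 1 = true by decide,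
    show Nat.testBit 2 2 = false by decide, show Nat.testBit 2 3 = false by decide]

theorem trivMod_check : ∀ b, ∀ ie ∈ [2, 2 ^^^ wv b], ∀ v ∈ evenList, lin 1 ie 4 8 v ∈ [v, v ^^^ wv b] := by
  decide +kernel

theorem lowOf_iff : ∀ b, ∀ v₁ v₂ : Bool, ∀ x < 32,
    (lowOf b x = true ↔
      (1 ^^^ sel (x.testBit 3) 8 ^^^ sel (x.testBit 4) 12) ∈ lowClass b ∧
        (2 ^^^ (match b with
          | false => sel (x.testBit 2) 4 ^^^ sel (x.testBit 3) (sel v₁ 12)
          | true => sel (x.testBit 1) 4 ^^^ sel (x.testBit 4) (sel v₂ 8))) ∈ [2, 2 ^^^ wv b]) := by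
  decide +kernel

end CfsgLib.TwoSymSix
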