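import Cfsg.Agent.Lib.Rec.TwoSymSix.RSub
import Cfsg.Agent.Lib.Rec.TwoSymSix.MSub
import Cfsg.Agent.Lib.Rec.TwoSymSix.TOneModel

/-!
# The case of an element interchanging the sides
-/

set_option autoImplicit false
set_option synthInstance.maxSize 4000
set_option linter.unusedSectionVars false

namespace CfsgLib.TwoSymSix

attribute [local instance 10000] List.decidableBAll List.decidableBEx Finset.decidableDforallFinset

open Equiv Subgroup

/-- The second factors making an element outside `P` an involution. -/
def singList : Finset M6 := pFin.filter fun p => sig p * p = 1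

theorem singList_card : singList.card = 16 := by decide +kernel

/-- Twelve of them. -/
def twelveList : List M6 :=
  [((1 : Multiplicative (ZMod 2)), (1 : Perm (Fin 6))), (1, pe), (1, pf)].flatMap fun d =>
    (List.range 4).map fun c => d * zcM c

theorem twelveList_spec : twelveList.Nodup ∧ twelveList.length = 12 ∧ ∀ p ∈ twelveList, p ∈ pFin := by
  decide +kernel

/-- The product of generators. -/
def wd (i a b c e : Bool) : M6 :=
  (if i then tau else 1) * (if a then (1, pe) else 1) * (if b then (1, pf) else 1) *
    (if c then (1, pz) else 1) * (if e then (1, pa) else 1)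

theorem wd_surj : ∀ p ∈ pFin, ∃ i a b c e : Bool, wd i a b c e = p := by decide +kernel

/-- Its image under the interchanging element. -/
def sigK (x y : ℕ) (i a b c e : Bool) : M6 :=
  (if i then tau * (1, pa) else 1) * (if a then (side true).el (2 ^^^ x) else 1) *
    (if b then (side false).el (2 ^^^ y) else 1) * (if c then (1, pz) else 1) *
      (if e then (1, pa * pz) else 1)

theorem swap_check : ∀ x ∈ [0, 4, 8, 12], ∀ y ∈ [0, 4, 8, 12], ∀ c < 4, ∀ i a b z e : Bool,
    zcM c * sigK x y i a b z e = wd i a b z e →
    (wd i a b z e * (1, pe) * (wd i a b z e)⁻¹ = (side false).el (2 ^^^ y) * zcM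
      (sel (x.testBit 3) 1 ^^^ sel (x.testBit 3) 2 ^^^ sel (x.testBit 2) 2)) →
    (∀ d < 4, wd i a b z e ≠ xCoord 0 d) →
    (∀ d < 4, wd i a b z e * (side true).el (2 ^^^ (y ^^^ sel (y.testBit 3) 4)) * (1, pe) ≠ xCoord 0 d) →
      c = 0 ∨ c = 2 := by decide +kernel

end CfsgLib.TwoSymSix
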