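import Cfsg.Agent.Lib.Rec.TwoSymSix.Hole

/-!
# The interchanging element
-/

set_option autoImplicit false
set_option synthInstance.maxSize 4000
set_option linter.unusedSectionVars false

namespace CfsgLib.TwoSymSix

attribute [local instance 10000] List.decidableBAll List.decidableBEx Finset.decidableDforallFinset

open Equiv Subgroup

namespace Cfg

variable {G : Type*} [Group G] [Finite G] {n : ℕ} (D : Cfg G n)

/-- An element interchanging the sides. -/
structure Swap (k : G) : Prop where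
  nf : D.types = nfTypes
  mem : k ∈ normalizer (D.P : Set G)
  img : k * D.t * k⁻¹ = D.elem false 9
  out : k ∉ normalizer (D.A false : Set G)

variable {D} {k g : G}

theorem f_pa_eq : D.f (1, pa) = D.elem false 8 := congrArg D.f (by decide +kernel)

theorem Swap.a_img (hk : D.Swap k) : k * D.elem false 8 * k⁻¹ = D.elem false 12 :=
  D.hole_a hk.nf hk.mem hk.img hk.out

theorem Swap.z_img (hk : D.Swap k) : k * D.elem false 4 * k⁻¹ = D.elem false 4 := by
  rw [D.elem_pz]; exact D.conj_pz hk.mem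

theorem Swap.e_img (hk : D.Swap k) (b : Bool) :
    ∃ x ∈ [0, 4, 8, 12], k * D.elem b 2 * k⁻¹ = D.elem (!b) (2 ^^^ x) := by
  have hN := hk.nf
  obtain ⟨w, hw, hwe⟩ := D.exists_elem (D.swap_maps hk.mem hk.out b (D.elem_mem (b := b) (v := 2) (by norm_num)))
  have h0 : w.testBit 0 = false := by
    by_contra hc
    rw [Bool.not_eq_false, ← D.isConj_elem hN (b := !b) hw, hwe, D.isConj_conj,
      D.isConj_elem hN (by norm_num)] at hc
    exact absurd hc (by decide)
  have h1 : w ∉ zCoord := by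
    intro hz
    obtain ⟨q, hq, hqe⟩ := D.conj_zList (inv_mem hk.mem) (zCoord_mem (!b) w hz).1
    obtain ⟨v, hv, rfl⟩ := zList_coord b q hq
    change k⁻¹ * D.elem (!b) w * k⁻¹⁻¹ = D.elem b v at hqe
    rw [hwe] at hqe
    have h3 : D.elem b 2 = D.elem b v := by rw [← hqe]; group
    exact absurd (side_el_inj b 2 (by norm_num) v (zCoord_mem b v hv).2 (D.f_inj h3) ▸ hv) (by decide)
  have key : ∀ w < 16, w.testBit 0 = false → w ∉ zCoord → ∃ x ∈ [0, 4, 8, 12], 2 ^^^ x = w := by decide +kernel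
  obtain ⟨x, hx, rfl⟩ := key w hw h0 h1
  exact ⟨x, hx, hwe.symm⟩

theorem M_fix_a (hg : D.Twin g) {q : G} (hq : q ∈ D.M) : q * D.elem false 8 * q⁻¹ = D.elem false 8 := by
  have hP : ∀ {r : G}, r ∈ D.P → r * D.elem false 8 * r⁻¹ = D.elem false 8 := fun {r} hr => by
    have e : r * D.elem false 8 = D.elem false 8 * r := D.f_central (zCoord_mem false 8 (by decide)).1 hr
    rw [e, mul_inv_cancel_right]
  rcases hq.2 with ht | ht
  · exact hP (D.mem_P_of_fix hq.1 ht)
  · have hfix : g⁻¹ * q * D.t * (g⁻¹ * q)⁻¹ = D.t := by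
      calc g⁻¹ * q * D.t * (g⁻¹ * q)⁻¹ = g⁻¹ * (q * D.t * q⁻¹) * g := by group
        _ = g⁻¹ * (g * D.t * g⁻¹) * g := by rw [ht, hg.t_img]
        _ = _ := by group
    have h := hP (D.mem_P_of_fix (mul_mem (inv_mem hg.mem) hq.1) hfix)
    have hga : g * D.elem false 8 * g⁻¹ = D.elem false 8 := by
      rw [hg.act false (by norm_num)]; rfl
    calc q * D.elem false 8 * q⁻¹ = g * (g⁻¹ * q * D.elem false 8 * (g⁻¹ * q)⁻¹) * g⁻¹ := by group
      _ = _ := by rw [h, hga]

theorem M_norm_side (hg : D.Twin g) (b : Bool) {q : G} (hq : q ∈ D.M) : q ∈ normalizer (D.A b : Set G) := by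
  rcases hq.2 with ht | ht
  · exact D.P_norm b (D.mem_P_of_fix hq.1 ht)
  · have hfix : g⁻¹ * q * D.t * (g⁻¹ * q)⁻¹ = D.t := by
      calc g⁻¹ * q * D.t * (g⁻¹ * q)⁻¹ = g⁻¹ * (q * D.t * q⁻¹) * g := by group
        _ = g⁻¹ * (g * D.t * g⁻¹) * g := by rw [ht, hg.t_img]
        _ = _ := by group
    have h := mul_mem (hg.norm b) (D.P_norm b (D.mem_P_of_fix (mul_mem (inv_mem hg.mem) hq.1) hfix))
    rwa [mul_inv_cancel_left] at h

/-- The normalizer of `P` is made of `M` and one further coset. -/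
theorem Swap.TOne_split (hk : D.Swap k) {q : G} (hq : q ∈ normalizer (D.P : Set G)) :
    q ∈ D.M ∨ ∃ m ∈ D.M, q = k * m := by
  obtain ⟨w, hw, hwe⟩ := (D.norm_values hk.nf hq).1
  simp only [List.mem_cons, List.not_mem_nil, or_false] at hw
  rcases hw with rfl | rfl | rfl | rfl
  · exact Or.inl ⟨hq, Or.inl (by rw [hwe, D.elem_one])⟩
  · exact Or.inl ⟨hq, Or.inr (by rw [hwe, elem_t_pz])⟩
  · refine Or.inr ⟨k⁻¹ * q, ⟨mul_mem (inv_mem hk.mem) hq, Or.inl ?_⟩, by group⟩
    calc k⁻¹ * q * D.t * (k⁻¹ * q)⁻¹ = k⁻¹ * (q * D.t * q⁻¹) * k := by group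
      _ = D.t := by rw [hwe, ← hk.img]; group
  · refine Or.inr ⟨k⁻¹ * q, ⟨mul_mem (inv_mem hk.mem) hq, Or.inr ?_⟩, by group⟩
    have e : k * (D.t * D.f (1, pz)) * k⁻¹ = D.elem false 13 := by
      rw [Cfg.adjust.conj_mul_split, hk.img, D.conj_pz hk.mem, ← D.elem_pz false,
        ← D.elem_xor (by norm_num) (by norm_num)]
      rfl
    calc k⁻¹ * q * D.t * (k⁻¹ * q)⁻¹ = k⁻¹ * (q * D.t * q⁻¹) * k := by group
      _ = _ := by rw [hwe, ← e]; group

/-- The other coset contains no involution. -/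
theorem Swap.invol_in_M (hk : D.Swap k) (hg : D.Twin g) {q : G} (hq : q ∈ normalizer (D.P : Set G))
    (h2 : q * q = 1) : q ∈ D.M := by
  rcases hk.TOne_split hq with h | ⟨m, hm, rfl⟩
  · exact h
  exfalso
  have hma := M_fix_a hg hm
  obtain ⟨w, hw, hwe⟩ : ∃ w ∈ [9, 13], k * m * D.t * (k * m)⁻¹ = D.elem false w := by
    rcases hm.2 with ht | ht
    · refine ⟨9, by simp, ?_⟩
      rw [← hk.img]
      calc k * m * D.t * (k * m)⁻¹ = k * (m * D.t * m⁻¹) * k⁻¹ := by group
        _ = _ := by rw [ht]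
    · refine ⟨13, by simp, ?_⟩
      calc k * m * D.t * (k * m)⁻¹ = k * (m * D.t * m⁻¹) * k⁻¹ := by group
        _ = _ := by
          rw [ht, Cfg.adjust.conj_mul_split, hk.img, D.conj_pz hk.mem, ← D.elem_pz false,
            ← D.elem_xor (by norm_num) (by norm_num)]
          rfl
  have qa : k * m * D.elem false 8 * (k * m)⁻¹ = D.elem false 12 := by
    rw [← hk.a_img]
    calc k * m * D.elem false 8 * (k * m)⁻¹ = k * (m * D.elem false 8 * m⁻¹) * k⁻¹ := by group
      _ = _ := by rw [hma]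
  have qz : k * m * D.elem false 4 * (k * m)⁻¹ = D.elem false 4 := by
    rw [D.elem_pz]; exact D.conj_pz hq
  -- the square moves `t`
  have hlast : k * m * D.elem false w * (k * m)⁻¹ = D.elem false (w ^^^ 12 ^^^ (if w = 13 then 4 else 0)) := by
    simp only [List.mem_cons, List.not_mem_nil, or_false] at hw
    rcases hw with rfl | rfl
    · rw [show D.elem false 9 = D.t * D.elem false 8 by
          rw [← D.elem_one false, ← D.elem_xor (by norm_num) (by norm_num)]; rfl,
        Cfg.adjust.conj_mul_split, hwe, qa, ← D.elem_xor (by norm_num) (by norm_num)]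
      rfl
    · rw [show D.elem false 13 = D.t * D.elem false 8 * D.elem false 4 by
          rw [← D.elem_one false, ← D.elem_xor (by decide) (by decide),
            ← D.elem_xor (by decide) (by decide)]; rfl,
        Cfg.adjust.conj_mul_split, Cfg.adjust.conj_mul_split, hwe, qa, qz,
        ← D.elem_xor (by decide) (by decide), ← D.elem_xor (by decide) (by decide)]
      rfl
  have e : D.elem false (w ^^^ 12 ^^^ (if w = 13 then 4 else 0)) = D.elem false 1 := by
    rw [← hlast, ← hwe, D.elem_one]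
    calc k * m * (k * m * D.t * (k * m)⁻¹) * (k * m)⁻¹ = (k * m * (k * m)) * D.t * (k * m * (k * m))⁻¹ := by group
      _ = D.t := by rw [h2]; group
  have key : ∀ w ∈ [9, 13], w ^^^ 12 ^^^ (if w = 13 then 4 else 0) < 16 ∧
      w ^^^ 12 ^^^ (if w = 13 then 4 else 0) ≠ 1 := by decide
  exact (key w hw).2 (side_el_inj false _ (key w hw).1 1 (by norm_num) (D.f_inj e))

theorem Swap.cnt_TOne (hk : D.Swap k) (hg : D.Twin g) :
    cnt D.t (normalizer (D.P : Set G) : Set G) = 12 + D.MX.ncard := by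
  classical
  have hI : {y : G | IsConj D.t y ∧ y ∈ normalizer (D.P : Set G)} =
      {y | IsConj D.t y ∧ y ∈ D.P} ∪ D.MX := by
    ext y
    constructor
    · rintro ⟨hc, hy⟩
      have hM := hk.invol_in_M hg hy (D.invol_of_isConj hc).1
      by_cases hP : y ∈ D.P
      exacts [Or.inl ⟨hc, hP⟩, Or.inr ⟨hc, hM, hP⟩]
    · rintro (⟨hc, hP⟩ | ⟨hc, hM, -⟩)
      exacts [⟨hc, le_normalizer hP⟩, ⟨hc, hM.1⟩]
  have e1 : cnt D.t (normalizer (D.P : Set G) : Set G) =
      {y : G | IsConj D.t y ∧ y ∈ normalizer (D.P : Set G)}.ncard := by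
    rw [← Nat.card_coe_set_eq]
    exact Nat.card_congr (Equiv.subtypeEquivRight fun y => by simp [and_comm])
  have e2 : cnt D.t (D.P : Set G) = {y : G | IsConj D.t y ∧ y ∈ D.P}.ncard := by
    rw [← Nat.card_coe_set_eq]
    exact Nat.card_congr (Equiv.subtypeEquivRight fun y => by simp [and_comm])
  rw [e1, hI, Set.ncard_union_eq (Set.disjoint_left.2 fun y hy hy' => hy'.2.2 hy.2), ← e2, D.cnt_P_nf hk.nf]

theorem Swap.dvd_512_iff (hk : D.Swap k) (hg : D.Twin g) :
    512 ∣ Nat.card G ↔ (12 + D.MX.ncard) % 16 = 0 := by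
  obtain ⟨m, hm, hc⟩ := D.card_cen
  have hs := sign_iff D.hno D.tt (normalizer (D.P : Set G))
  rw [D.card_norm_P hk.nf, hc, hk.cnt_TOne hg, show 32 * m * (12 + D.MX.ncard) =
    32 * (m * (12 + D.MX.ncard)) by ring, show 4 * 128 = 32 * 16 from rfl,
    Nat.mul_dvd_mul_iff_left (by norm_num : 0 < 32)] at hs
  rw [show (512 : ℕ) = 32 * 16 from rfl, hs, ← Nat.dvd_iff_mod_eq_zero]
  have hco : Nat.Coprime 16 m := by
    rw [show (16 : ℕ) = 2 ^ 4 from rfl]
    exact Nat.Coprime.pow_left 4 (Nat.prime_two.coprime_iff_not_dvd.2 fun h2 =>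
      Nat.not_even_iff_odd.2 hm (even_iff_two_dvd.2 h2))
  exact hco.dvd_mul_left

theorem Twin.pick_R (hg : D.Twin g) (b : Bool) : g ∈ D.R b := by
  refine mem_inf.2 ⟨mem_centralizer_iff.2 ?_, hg.norm b⟩
  rintro _ ⟨v, hv, rfl⟩
  have e := hg.act b (evenList_spec v hv).1
  rw [(by decide +kernel : ∀ v ∈ evenList, gLin v = v) v hv] at e
  exact (mul_inv_eq_iff_eq_mul.1 e).symm

theorem Swap.card_R (hk : D.Swap k) (hg : D.Twin g) (b : Bool) : Nat.card (D.R b) = 64 := by
  obtain ⟨hnd, -⟩ := (by decide +kernel : ∀ b, (orbFour b).Nodup ∧ True) b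
  have h5 : g * D.t * g⁻¹ = D.elem b 5 := by rw [elem_t_pz]; exact hg.t_img
  rw [D.card_R b (orbFour b) hnd (orbFour_lt b) ?_ ?_]
  · rfl
  · intro v hv
    simp only [orbFour, List.mem_cons, List.not_mem_nil, or_false] at hv
    have m1 := (mem_normalizer_iff.1 (D.R_normal hk.nf (D.uEl_norm b)) _).1 (hg.pick_R b)
    have m2 := (mem_normalizer_iff.1 (D.R_normal hk.nf (D.uEl_norm b)) _).1 m1
    have i1 := D.uEl_shift (b := b) (y := g) (by norm_num) h5
    rcases hv with rfl | rfl | rfl | rfl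
    exacts [⟨1, one_mem _, by rw [D.elem_one]; group⟩, ⟨g, hg.pick_R b, h5⟩, ⟨_, m1, i1⟩,
      ⟨_, m2, D.uEl_shift (uLin_lt' b 5) i1⟩]
  · intro r hr
    obtain ⟨v, hv, hve⟩ := D.odd_image hk.nf (D.R_norm hr)
    exact ⟨v, (D.hole_orb hk.nf hk.mem hk.img hk.out b).2 v
      ((D.mem_orb hk.nf).2 ⟨oddList_lt v hv, r, D.R_norm hr, hve⟩), hve⟩

theorem rule_step (hN : D.types = nfTypes) {y : G} {d : M6} (hy : IsConj D.t y) (hd : d ∈ pSub) (h2 : d * d = 1)
    (h1 : d ≠ 1) (hn : nfTypes.ind d = false) (hc : D.f d * y = y * D.f d) : IsConj D.t (y * D.f d) := by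
  have hnI : ¬ IsConj D.t (D.f d) := by rw [D.ind_spec hd, hN, hn]; simp
  exact (D.rule hN hy (by rw [← map_mul, h2, map_one]) hc
    (fun e => h1 (D.f_inj (e.trans (map_one D.f).symm))) fun e => hnI (e ▸ hy)).2 hnI

/-- A twin among the conjugates is impossible. -/
theorem Swap.no_twin_conj (hk : D.Swap k) (hg : D.Twin g) : ¬ IsConj D.t g := by
  classical
  intro hI
  have hN := hk.nf
  have hgg := (D.invol_of_isConj hI).1
  -- at least twelve further conjugates
  have hge : 12 ≤ D.MX.ncard := by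
    obtain ⟨hnd, hlen, hP⟩ := twelveList_spec
    have hsub : ((twelveList.toFinset.image fun p => g * D.f p : Finset G) : Set G) ⊆ D.MX := by
      intro y hy
      simp only [Finset.coe_image, Set.mem_image, List.coe_toFinset, Set.mem_setOf_eq] at hy
      obtain ⟨p, hp, rfl⟩ := hy
      have hpP : D.f p ∈ D.P := D.f_mem_P (mem_pFin.1 (hP p hp))
      refine ⟨?_, mul_mem hg.mem_M (D.P_le_M hpP), fun h => ?_⟩
      · obtain ⟨d, hd, hp'⟩ := List.mem_flatMap.1 hp
        obtain ⟨c, hc, rfl⟩ := List.mem_map.1 hp'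
        rw [List.mem_range] at hc
        have hdd : IsConj D.t (g * D.f d) := by
          simp only [List.mem_cons, List.not_mem_nil, or_false] at hd
          rcases hd with rfl | rfl | rfl
          · rw [show D.f ((1 : Multiplicative (ZMod 2)), (1 : Perm (Fin 6))) = 1 from map_one D.f, mul_one]
            exact hI
          · exact rule_step hN hI (mem_pSub.2 (by decide +kernel)) (by decide +kernel) (by decide +kernel)
              (by decide +kernel) (mul_inv_eq_iff_eq_mul.1 (hg.fix pe (by simp))).symm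
          · exact rule_step hN hI (mem_pSub.2 (by decide +kernel)) (by decide +kernel) (by decide +kernel)
              (by decide +kernel) (mul_inv_eq_iff_eq_mul.1 (hg.fix pf (by simp))).symm
        have hdP : d ∈ pSub := by
          simp only [List.mem_cons, List.not_mem_nil, or_false] at hd
          rcases hd with rfl | rfl | rfl <;> exact mem_pSub.2 (by decide +kernel)
        rw [map_mul, ← mul_assoc]
        by_cases h0 : c = 0
        · subst h0
          rw [show D.f (zcM 0) = 1 from D.zc_zero, mul_one]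
          exact hdd
        · have key : ∀ c < 4, c ≠ 0 → zcM c * zcM c = 1 ∧ zcM c ≠ 1 ∧ nfTypes.ind (zcM c) = false := by
            decide +kernel
          obtain ⟨k1, k2, k3⟩ := key c hc h0
          refine rule_step hN hdd (zList_central _ (zcM_mem c)).1 k1 k2 k3 ?_
          show D.zc c * (g * D.f d) = g * D.f d * D.zc c
          rw [mul_assoc, D.zc_comm c (D.f_mem_P hdP), ← mul_assoc, ← mul_assoc, zc_twin hg c]
      · have h5 : g ∈ D.P := by
          have := mul_mem h (inv_mem hpP)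
          simpa using this
        have h6 := hg.t_img
        rw [mem_centralizer_singleton_iff.1 (D.P_le h5), mul_inv_cancel_right, left_eq_mul,
          ← map_one D.f] at h6
        exact absurd (congrArg Prod.snd (D.f_inj h6)) (by decide +kernel)
    have hc := Set.ncard_le_ncard hsub (Set.toFinite _)
    rw [Set.ncard_coe_finset, Finset.card_image_of_injective _ fun p q e => D.f_inj (mul_left_cancel e),
      List.toFinset_card_of_nodup hnd, hlen] at hc
    exact hc
  -- at most sixteen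
  have hle : D.MX.ncard ≤ 16 := by
    have hsub : D.MX ⊆ ((singList.image fun p => g * D.f p : Finset G) : Set G) := by
      rintro y ⟨hc, hM, hP⟩
      have ht : y * D.t * y⁻¹ = D.t * D.f (1, pz) := hM.2.resolve_left fun e => hP (D.mem_P_of_fix hM.1 e)
      have hfix : g⁻¹ * y * D.t * (g⁻¹ * y)⁻¹ = D.t := by
        calc g⁻¹ * y * D.t * (g⁻¹ * y)⁻¹ = g⁻¹ * (y * D.t * y⁻¹) * g := by group
          _ = g⁻¹ * (g * D.t * g⁻¹) * g := by rw [ht, hg.t_img]
          _ = _ := by group
      obtain ⟨p, hp, hpe⟩ := D.mem_P_of_fix (mul_mem (inv_mem hg.mem) hM.1) hfix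
      obtain rfl : y = g * D.f p := by rw [hpe]; group
      simp only [Finset.coe_image, Set.mem_image, Finset.mem_coe]
      refine ⟨p, Finset.mem_filter.2 ⟨mem_pFin.2 hp, D.f_inj ?_⟩, rfl⟩
      rw [map_mul, map_one, ← show g * D.f p * g⁻¹ = D.f (sig p) from hg.conj_f D hp,
        inv_eq_of_mul_eq_one_right hgg]
      calc g * D.f p * g * D.f p = g * D.f p * (g * D.f p) := by group
        _ = 1 := (D.invol_of_isConj hc).1
    refine (Set.ncard_le_ncard hsub (Set.toFinite _)).trans ?_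
    rw [Set.ncard_coe_finset]
    exact Finset.card_image_le.trans singList_card.le
  have hnot : ¬ 512 ∣ Nat.card G := fun h => by
    have := (hk.dvd_512_iff hg).1 h
    omega
  -- the fibres
  have h5 : 5 ∈ D.fibs false := (D.mem_fibs hN).2
    ⟨by norm_num, g, ⟨hI, hg.pick_R false⟩, by rw [elem_t_pz]; exact hg.t_img⟩
  have hfour : ∀ S ∈ cands false, 5 ∈ S → (∀ v ∈ S, v ∈ orbFour false) → S.length = 4 := by decide +kernel
  have hlen := hfour _ (D.fibs_cands hN false) h5 fun v hv => by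
    obtain ⟨hv16, y, hy, hye⟩ := (D.mem_fibs hN).1 hv
    exact (D.hole_orb hN hk.mem hk.img hk.out false).2 v ((D.mem_orb hN).2 ⟨hv16, y, D.R_norm hy.2, hye⟩)
  have hcard := D.card_RI hN false
  rw [hlen] at hcard
  have hdvd : 96 * Nat.card D.RO ∣ Nat.card G :=
    D.card_normR hN ▸ (normalizer (D.R false : Set G)).card_subgroup_dvd_card
  rcases D.orbit_size hN (hk.card_R hg) with e | e
  · rw [← e, hcard] at hdvd
    exact hnot (dvd_trans ⟨6, by norm_num⟩ hdvd)
  · rw [show Nat.card D.RO = 16 by omega] at hdvd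
    exact hnot (dvd_trans ⟨3, by norm_num⟩ hdvd)

end Cfg

end CfsgLib.TwoSymSix
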