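import Cfsg.Agent.Lib.Rec.TwoSymSix.LocalModel

/-!
# The normalizer of the Sylow subgroup of the centralizer and the parities of the types
-/

set_option autoImplicit false
set_option linter.unusedSectionVars false

namespace CfsgLib.TwoSymSix

attribute [local instance 10000] List.decidableBAll List.decidableBEx Finset.decidableDforallFinset

open Equiv

namespace Cfg

variable {G : Type*} [Group G] [Finite G] {n : ℕ} (D : Cfg G n)

open Subgroup

theorem transfer_P (χ : M6 → ℤˣ) (hχ : ∀ p ∈ pFin, ∀ q ∈ pFin, χ (p * q) = χ p * χ q) :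
    Even (pFin.filter fun p => χ p = -1 ∧ D.types.ind p = true).card := by
  let e := equivMapOfInjective pSub D.f D.f_inj
  let χ0 : pSub →* ℤˣ := MonoidHom.mk' (fun p => χ p.1) fun p q => hχ _ (mem_pFin.2 p.2) _ (mem_pFin.2 q.2)
  have h := transfer_dvd D.hno D.orderOf_t D.P (χ0.comp e.symm.toMonoidHom)
  have hset : {y | ∃ h : y ∈ D.P, χ0.comp e.symm.toMonoidHom ⟨y, h⟩ = -1} =
      D.f '' {p | p ∈ pSub ∧ χ p = -1} := by
    ext y
    constructor
    · rintro ⟨hy, hv⟩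
      obtain ⟨q, hq⟩ := e.surjective ⟨y, hy⟩
      have h1 : e.symm ⟨y, hy⟩ = q := by rw [← hq, e.symm_apply_apply]
      refine ⟨q.1, ⟨q.2, ?_⟩, congrArg Subtype.val hq⟩
      simpa [h1, χ0] using hv
    · rintro ⟨p, ⟨hp, hv⟩, rfl⟩
      refine ⟨D.f_mem_P hp, ?_⟩
      have h1 : e.symm ⟨D.f p, D.f_mem_P hp⟩ = ⟨p, hp⟩ := e.symm_apply_eq.2 (Subtype.ext rfl)
      show χ0 (e.symm ⟨D.f p, D.f_mem_P hp⟩) = -1
      rw [h1]
      exact hv
  obtain ⟨m, hm, hc⟩ := D.card_cen
  replace h : 2 * Nat.card D.P ∣ Nat.card (centralizer ({D.t} : Set G)) *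
      cnt D.t (D.f '' {p | p ∈ pSub ∧ χ p = -1}) := by
    rw [← hset]; exact h
  rw [D.cnt_P, D.card_P, hc, mul_assoc] at h
  have h2 := Nat.dvd_of_mul_dvd_mul_left (by norm_num : 0 < 32) ((mul_comm 2 32) ▸ h)
  exact even_iff_two_dvd.2 (((Nat.prime_two.dvd_mul).1 h2).resolve_left fun h3 =>
    Nat.not_even_iff_odd.2 hm (even_iff_two_dvd.2 h3))

/-- The two parity conditions on the types. -/
theorem parities :
    (xor (xor D.types.tT D.types.tD) D.types.tU) = true ∧
      (xor (xor D.types.tT D.types.tU) (xor D.types.T D.types.U)) = false := by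
  have h1 := D.transfer_P chiT chiT_mul
  have h2 := D.transfer_P chiA chiA_mul
  exact parity_types _ _ _ _ _ h1 h2

/-- The normalizer of `P` in the centralizer is `P`. -/
theorem mem_P_of_fix {k : G} (hk : k ∈ normalizer (D.P : Set G)) (hfix : k * D.t * k⁻¹ = D.t) :
    k ∈ D.P := by
  obtain ⟨⟨i, π⟩, hx⟩ := (D.mem_cen (g := k)).1 (mem_centralizer_singleton_iff.2 (mul_inv_eq_iff_eq_mul.1 hfix))
  have key : ∀ q ∈ dList, π * D.j q * π⁻¹ ∈ dList.map D.j := by
    intro q hq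
    have h1 : k * D.f (1, q) * k⁻¹ ∈ D.P := (mem_normalizer_iff.1 hk _).1 (D.f_mem_P hq)
    obtain ⟨p, hp, hpe⟩ := h1
    rw [← hx, f_apply, f_apply, ← map_inv, ← map_mul, ← map_mul] at hpe
    have h2 := congrArg Prod.snd (D.el_inj hpe)
    simp only [Prod.snd_mul, Prod.snd_inv] at h2
    exact List.mem_map.2 ⟨p.2, hp, h2⟩
  obtain ⟨d, hd, hde⟩ := List.mem_map.1 (D.facts.norD π (key _ (by decide +kernel))
    (key _ (by decide +kernel)) (key _ (by decide +kernel)))
  rw [← hx, ← hde]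
  exact D.f_mem_P (p := (i, d)) hd

/-- A conjugating element may be chosen to normalize `P`. -/
theorem exists_norm {y : G} (hy : IsConj D.t y) (hc : ∀ g ∈ D.P, g * y = y * g) :
    ∃ k ∈ normalizer (D.P : Set G), k * D.t * k⁻¹ = y := by
  obtain ⟨k, hk, hP⟩ := D.exists_into_P hy D.isPGroup_P hc
  refine ⟨k, ?_, hk⟩
  have hinj : Function.Injective (fun g : D.P => (⟨_, hP g g.2⟩ : D.P)) := fun a b h => by
    simpa using congrArg Subtype.val h
  rw [← inv_mem_iff, mem_normalizer_iff]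
  intro g
  rw [inv_inv]
  refine ⟨fun hg => hP g hg, fun hg => ?_⟩
  obtain ⟨⟨g', hg'⟩, he⟩ := (Finite.injective_iff_surjective.1 hinj) ⟨_, hg⟩
  have : g' = g := by simpa using congrArg Subtype.val he
  exact this ▸ hg'

theorem f_central {p : M6} (hp : p ∈ zList) {g : G} (hg : g ∈ D.P) : g * D.f p = D.f p * g := by
  obtain ⟨q, hq, rfl⟩ := hg
  rw [← map_mul, ← map_mul, (zList_central p hp).2 q (mem_pFin.2 hq)]

theorem exists_norm_f {p : M6} (hp : p ∈ zList) (hy : IsConj D.t (D.f p)) :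
    ∃ k ∈ normalizer (D.P : Set G), k * D.t * k⁻¹ = D.f p :=
  D.exists_norm hy fun _ hg => D.f_central hp hg

/-- The normalizer fixes the distinguished square. -/
theorem conj_pz {k : G} (hk : k ∈ normalizer (D.P : Set G)) :
    k * D.f (1, pz) * k⁻¹ = D.f (1, pz) := by
  have hm : D.f (1, pe * pf) ∈ D.P := D.f_mem_P (mem_pSub.2 (by decide +kernel))
  have hsq : D.f (1, pe * pf) * D.f (1, pe * pf) = D.f (1, pz) := by
    rw [← map_mul]; congr 1; decide +kernel
  have h1 := D.sq_P ((mem_normalizer_iff.1 hk _).1 hm)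
  have e : k * D.f (1, pe * pf) * k⁻¹ * (k * D.f (1, pe * pf) * k⁻¹) = k * D.f (1, pz) * k⁻¹ := by
    rw [← hsq]; group
  rw [e] at h1
  refine h1.resolve_left fun h => ?_
  have h2 : D.f (1, pz) = 1 := by
    calc D.f (1, pz) = k⁻¹ * (k * D.f (1, pz) * k⁻¹) * k := by group
      _ = 1 := by rw [h]; group
  rw [← map_one D.f] at h2
  exact absurd (congrArg Prod.snd (D.f_inj h2)) (by decide +kernel)

/-- The normalizer permutes the central elements. -/
theorem conj_zList {k : G} (hk : k ∈ normalizer (D.P : Set G)) {p : M6} (hp : p ∈ zList) :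
    ∃ q ∈ zList, k * D.f p * k⁻¹ = D.f q := by
  obtain ⟨q, hq, hqe⟩ := (mem_normalizer_iff.1 hk _).1 (D.f_mem_P (zList_central p hp).1)
  refine ⟨q, ?_, hqe.symm⟩
  have comm : ∀ d : M6, d ∈ pSub → q * d = d * q := by
    intro d hd
    apply D.f_inj
    rw [map_mul, map_mul, hqe]
    have h1 := D.f_central hp ((mem_normalizer_iff.1 (inv_mem hk) _).1 (D.f_mem_P hd))
    rw [inv_inv] at h1
    calc k * D.f p * k⁻¹ * D.f d = k * (D.f p * (k⁻¹ * D.f d * k)) * k⁻¹ := by group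
      _ = k * ((k⁻¹ * D.f d * k) * D.f p) * k⁻¹ := by rw [h1]
      _ = D.f d * (k * D.f p * k⁻¹) := by group
  exact central_zList q (mem_pFin.2 hq) (comm _ (mem_pSub.2 (by decide +kernel)))
    (comm _ (mem_pSub.2 (by decide +kernel)))

/-- An element of the normalizer fixing a central conjugate of `t` centralizes the centre. -/
theorem act_trivial {k : G} (hk : k ∈ normalizer (D.P : Set G)) {p : M6} (hp : p ∈ zList)
    (hy : IsConj D.t (D.f p)) (hfix : k * D.f p * k⁻¹ = D.f p) {q : M6} (hq : q ∈ zList) :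
    k * D.f q * k⁻¹ = D.f q := by
  obtain ⟨l, hl, hle⟩ := D.exists_norm_f hp hy
  have h1 : l⁻¹ * k * l * D.t * (l⁻¹ * k * l)⁻¹ = D.t := by
    calc l⁻¹ * k * l * D.t * (l⁻¹ * k * l)⁻¹ = l⁻¹ * (k * (l * D.t * l⁻¹) * k⁻¹) * l := by group
      _ = l⁻¹ * (l * D.t * l⁻¹) * l := by rw [hle, hfix]
      _ = D.t := by group
  obtain ⟨r, hr, hre⟩ := D.conj_zList (inv_mem hl) hq
  rw [inv_inv] at hre
  have h2 := D.f_central hr (D.mem_P_of_fix (mul_mem (mul_mem (inv_mem hl) hk) hl) h1)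
  rw [← hre] at h2
  calc k * D.f q * k⁻¹ = l * (l⁻¹ * k * l * (l⁻¹ * D.f q * l)) * (l⁻¹ * k⁻¹) := by group
    _ = l * ((l⁻¹ * D.f q * l) * (l⁻¹ * k * l)) * (l⁻¹ * k⁻¹) := by rw [h2]
    _ = D.f q := by group

end Cfg

end CfsgLib.TwoSymSix
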