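import Cfsg.Agent.Lib.Rec.TwoSymSix.Basic

/-!
# Finite computations for the normalizer of the Sylow subgroup
-/

set_option autoImplicit false

namespace CfsgLib.TwoSymSix

attribute [local instance 10000] List.decidableBAll List.decidableBEx Finset.decidableDforallFinset

open Equiv

/-- The central elements of the model Sylow subgroup. -/
def zList : List M6 :=
  [(1, 1), tau, (1, pz), (Multiplicative.ofAdd 1, pz), (1, pa), (Multiplicative.ofAdd 1, pa), (1, pa * pz),
    (Multiplicative.ofAdd 1, pa * pz)]

theorem central_zList : ∀ p ∈ pFin, p * (1, pe) = (1, pe) * p → p * (1, pf) = (1, pf) * p → p ∈ zList := by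
  decide +kernel

theorem zList_central : ∀ p ∈ zList, p ∈ pSub ∧ ∀ q ∈ pFin, p * q = q * p := by decide +kernel

/-- The sign of the first coordinate. -/
def chiT (p : M6) : ℤˣ := if p.1 = 1 then 1 else -1

/-- The action on the last two points. -/
def chiA (p : M6) : ℤˣ := if p.2 4 = 4 then 1 else -1

theorem chiT_mul : ∀ p ∈ pFin, ∀ q ∈ pFin, chiT (p * q) = chiT p * chiT q := by decide +kernel

theorem chiA_mul : ∀ p ∈ pFin, ∀ q ∈ pFin, chiA (p * q) = chiA p * chiA q := by decide +kernel

/-- The values of two parities. -/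
theorem parity_types : ∀ tT tD tU T U : Bool,
    Even (pFin.filter fun p => chiT p = -1 ∧ (⟨tT, tD, tU, T, U⟩ : Types).ind p = true).card →
    Even (pFin.filter fun p => chiA p = -1 ∧ (⟨tT, tD, tU, T, U⟩ : Types).ind p = true).card →
    (xor (xor tT tD) tU) = true ∧ (xor (xor tT tU) (xor T U)) = false := by decide +kernel

end CfsgLib.TwoSymSix
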