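import Cfsg.Agent.Lib.Rec.TwoSymSix.SideActs

/-!
# Coordinates for the subgroup of index two of the normalizer of `P`
-/

set_option autoImplicit false
set_option synthInstance.maxSize 4000

namespace CfsgLib.TwoSymSix

attribute [local instance 10000] List.decidableBAll List.decidableBEx Finset.decidableDforallFinset

open Equiv

/-- Conjugation by an element translating by the central double transposition. -/
def sig (p : M6) : M6 := if p.1 = 1 then p else (p.1, pz * p.2)

/-- The action of such an element on a side. -/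
def gLin : ℕ → ℕ := lin 5 2 4 8

/-- Its conjugate by the element of order three. -/
def tLin (b : Bool) : ℕ → ℕ := lin (uLin b 5) 2 4 8

theorem sig_sig : ∀ p ∈ pFin, sig (sig p) = p := by decide +kernel

theorem sig_central : ∀ p ∈ zList, ∀ c < 4, sig (zcM c) = zcM c := by decide +kernel

theorem sig_el : ∀ b, ∀ v < 16, sig ((side b).el v) = (side b).el (gLin v) := by decide +kernel

theorem tLin_spec : ∀ b, ∀ v < 16, uLin b (gLin (uLin b (uLin b v))) = tLin b v ∧ tLin b (tLin b v) = v ∧
    gLin (gLin v) = v ∧ tLin b v < 16 ∧ gLin v < 16 := by decide +kernel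

theorem m_norm : ∀ b, tLin b (tLin b 1) = 1 ∧ tLin b (sLin (tLin b 1)) = 5 ∧ tLin b (gLin (tLin b 1)) ∈ [1, 5] ∧
    tLin b (gLin (sLin (tLin b 1))) ∈ [1, 5] ∧ tLin b (sLin 4) = 4 ∧ tLin b (gLin 4) = 4 ∧
      tLin b (gLin (sLin 4)) = 4 ∧ tLin b 4 = 4 := by decide +kernel

/-- The coordinates of the four sets of conjugates of `t`. -/
def quadList : List ℕ := [3, 7, 11, 15]

theorem quad_s : ∀ b, ∀ v ∈ quadList, ((side (!b)).el v).2 ∈ dList ∧ ((side (!b)).el v).2 ∉ (side b).eList ∧
    ((side b).el v).2 ∈ dList := by decide +kernel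

theorem nf_twelve : ∀ p ∈ pFin, nfTypes.ind p = true →
    (∃ v ∈ [1, 5, 9, 13], (side false).el v = p) ∨ (∃ v ∈ quadList, (side false).el v = p) ∨
      ∃ v ∈ quadList, (side true).el v = p := by decide +kernel

/-- The possible second factor of an involution outside `P`. -/
def xCoord (c : ℕ) (d : ℕ) : M6 :=
  (if c = 0 then Multiplicative.ofAdd 1 else 1, pe * pf * (zcM d).2)

theorem x_cases : ∀ c < 4, ∀ p ∈ pFin, sig p * zcM c * p = 1 →
    p ∈ zList ∨ (∃ d ∈ [((1 : Multiplicative (ZMod 2)), pe), (1, pf)], d * p = p * d ∧ p * d ∈ zList) ∨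
      ((c = 0 ∨ c = 2) ∧ ∃ d < 4, p = xCoord c d) := by decide +kernel

theorem x_shift : ∀ b, ∀ d < 4, ∃ e < 4,
    sig ((side b).el (uLin b 5)) * xCoord 0 d = (1, (side b).s) * zcM e := by decide +kernel

theorem side_el_three : ∀ b, (side (!b)).el 3 = tau * (1, (side b).s) := by decide +kernel

theorem t_img_quad : ∀ b, uLin b 5 ∈ quadList ∧ uLin b 5 < 16 ∧ tLin b 1 = uLin b 5 := by decide +kernel

theorem quad_lt : ∀ v ∈ quadList, v < 16 ∧ v.testBit 0 = true ∧ v ∈ oddList := by decide +kernel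

theorem quad_sep : ∀ v ∈ quadList, ∀ w ∈ [1, 5, 9, 13], ∀ b, (side b).el v ≠ (side false).el w := by
  decide +kernel

theorem quad_sep' : ∀ v ∈ quadList, ∀ w ∈ quadList, (side false).el v ≠ (side true).el w := by
  decide +kernel

end CfsgLib.TwoSymSix
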