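import Mathlib

/-!
# Finite computations in a Sylow two-subgroup of `2 × S₆`
-/

set_option autoImplicit false

namespace CfsgLib.TwoSymSix

attribute [local instance 10000] List.decidableBAll List.decidableBEx Finset.decidableDforallFinset

open Equiv

/-- The ambient model. -/
abbrev M6 := Multiplicative (ZMod 2) × Perm (Fin 6)

/-- A permutation of six points given by its values; applying it evaluates the point first. -/
def perm6 (f g : Fin 6 → Fin 6) (h₁ : ∀ i, g (f i) = i) (h₂ : ∀ i, f (g i) = i) : Perm (Fin 6) :=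
  ⟨f, g, h₁, h₂⟩

/-- The transposition `(45)` fixed by the Sylow subgroup. -/
def pa : Perm (Fin 6) := perm6 ![0, 1, 2, 3, 5, 4] ![0, 1, 2, 3, 5, 4] (by decide) (by decide)

/-- The transposition `(01)`. -/
def pe : Perm (Fin 6) := perm6 ![1, 0, 2, 3, 4, 5] ![1, 0, 2, 3, 4, 5] (by decide) (by decide)

/-- The double transposition `(02)(13)`. -/
def pf : Perm (Fin 6) := perm6 ![2, 3, 0, 1, 4, 5] ![2, 3, 0, 1, 4, 5] (by decide) (by decide)

/-- The central double transposition `(01)(23)`. -/
def pz : Perm (Fin 6) := perm6 ![1, 0, 3, 2, 4, 5] ![1, 0, 3, 2, 4, 5] (by decide) (by decide)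

/-- The Sylow subgroup of the symmetric group, as a list. -/
def dList : List (Perm (Fin 6)) :=
  [1, pe, pf, pe * pf, pz, pe * pz, pf * pz, pe * pf * pz, pa, pe * pa, pf * pa, pe * pf * pa,
    pz * pa, pe * pz * pa, pf * pz * pa, pe * pf * pz * pa]

theorem dList_mul : ∀ p ∈ dList, ∀ q ∈ dList, p * q ∈ dList := by decide +kernel

theorem dList_inv : ∀ p ∈ dList, p⁻¹ ∈ dList := by decide +kernel

theorem dList_nodup : dList.Nodup := by decide +kernel

/-- The Sylow subgroup of the symmetric group. -/
def dSub : Subgroup (Perm (Fin 6)) where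
  carrier := {p | p ∈ dList}
  one_mem' := by decide +kernel
  mul_mem' hp hq := dList_mul _ hp _ hq
  inv_mem' hp := dList_inv _ hp

instance : DecidablePred (· ∈ dSub) := fun p => inferInstanceAs (Decidable (p ∈ dList))

/-- The Sylow subgroup of the model. -/
def pSub : Subgroup M6 := Subgroup.comap (MonoidHom.snd _ _) dSub

instance : DecidablePred (· ∈ pSub) := fun p => inferInstanceAs (Decidable (p.2 ∈ dList))

theorem mem_pSub {p : M6} : p ∈ pSub ↔ p.2 ∈ dList := Iff.rfl

/-- The same, as a finite set. -/
def pFin : Finset M6 := Finset.univ.product dList.toFinset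

theorem mem_pFin {p : M6} : p ∈ pFin ↔ p ∈ pSub := by simp [pFin, mem_pSub]

theorem pFin_card : pFin.card = 32 := by decide +kernel

/-- The five free type indicators. -/
structure Types where
  /-- `t` times a transposition -/
  tT : Bool
  /-- `t` times a double transposition -/
  tD : Bool
  /-- `t` times a triple transposition -/
  tU : Bool
  /-- a transposition -/
  T : Bool
  /-- a triple transposition -/
  U : Bool
deriving DecidableEq

/-- The indicator of the conjugates of `t`. -/
def Types.ind (x : Types) (p : M6) : Bool :=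
  if p.2 * p.2 = 1 then
    if p.1 = 1 then
      match p.2.support.card with
      | 2 => x.T
      | 6 => x.U
      | _ => false
    else
      match p.2.support.card with
      | 0 => true
      | 2 => x.tT
      | 4 => x.tD
      | 6 => x.tU
      | _ => false
  else false

/-- Candidates for conjugating an involution to a standard one. -/
def witList : List (Perm (Fin 6)) :=
  [perm6 ![4, 5, 0, 1, 2, 3] ![2, 3, 4, 5, 0, 1] (by decide) (by decide),
    perm6 ![0, 1, 2, 3, 4, 5] ![0, 1, 2, 3, 4, 5] (by decide) (by decide),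
    perm6 ![0, 1, 4, 5, 2, 3] ![0, 1, 4, 5, 2, 3] (by decide) (by decide),
    perm6 ![0, 2, 1, 3, 4, 5] ![0, 2, 1, 3, 4, 5] (by decide) (by decide),
    perm6 ![0, 2, 3, 1, 4, 5] ![0, 3, 1, 2, 4, 5] (by decide) (by decide)]

/-- Every involution of the Sylow subgroup is conjugate to a standard one of the same support. -/
theorem exists_std : ∀ p ∈ dList, p * p = 1 → p = 1 ∨ ∃ c ∈ witList,
    (c * p * c⁻¹ = pa ∧ p.support.card = 2) ∨ (c * p * c⁻¹ = pz ∧ p.support.card = 4) ∨
      (c * p * c⁻¹ = pa * pz ∧ p.support.card = 6) := by decide +kernel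

/-- The squares in the Sylow subgroup. -/
theorem sq_dList : ∀ p ∈ dList, p * p = 1 ∨ p * p = pz := by decide +kernel

/-- The centre of the Sylow subgroup. -/
theorem central_dList : ∀ p ∈ dList,
    p * pe = pe * p → p * pf = pf * p → p = 1 ∨ p = pz ∨ p = pa ∨ p = pa * pz := by decide +kernel

/-- The central elements are central. -/
theorem central_comm : ∀ p ∈ dList, pz * p = p * pz ∧ pa * p = p * pa ∧
    (pa * pz) * p = p * (pa * pz) := by decide +kernel

/-- One side: an elementary subgroup of order eight with its symmetries. -/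
structure Side where
  /-- the generator outside the centre -/
  e : Perm (Fin 6)
  /-- the element swapping the other two cosets -/
  s : Perm (Fin 6)
  /-- the fixed vector -/
  w : Perm (Fin 6)
  /-- the other central involution -/
  v : Perm (Fin 6)
  /-- an element of order three normalising the subgroup -/
  u : Perm (Fin 6)

/-- The side of the three transpositions. -/
def sideA : Side := ⟨pe, pf, pa * pz, pa, perm6 ![2, 3, 4, 5, 0, 1] ![4, 5, 0, 1, 2, 3] (by decide) (by decide)⟩

/-- The side of the four-group acting regularly on four points. -/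
def sideB : Side := ⟨pf, pe, pa, pa * pz, perm6 ![1, 2, 0, 3, 4, 5] ![2, 0, 1, 3, 4, 5] (by decide) (by decide)⟩

/-- The elementary subgroup of a side. -/
def Side.eList (S : Side) : List (Perm (Fin 6)) :=
  [1, S.e, pz, S.e * pz, pa, S.e * pa, pz * pa, S.e * pz * pa]

/-- The facts about a side. -/
structure Side.Good (S : Side) : Prop where
  nodup : S.eList.Nodup
  mul : ∀ p ∈ S.eList, ∀ q ∈ S.eList, p * q ∈ S.eList ∧ p * q = q * p ∧ p * p = 1
  sub : ∀ p ∈ S.eList, p ∈ dList
  s_mem : S.s ∈ dList ∧ S.s * S.s = 1 ∧ S.s ∉ S.eList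
  u_nor : ∀ p ∈ S.eList, S.u * p * S.u⁻¹ ∈ S.eList
  u_three : S.u * S.u * S.u = 1 ∧ S.u * S.w * S.u⁻¹ = S.w ∧ S.s * S.u * S.s = S.u * S.u
  gen : ∀ p ∈ dList, p ∈ S.eList ∨ S.s * p ∈ S.eList

theorem sideA_good : sideA.Good := by
  constructor <;> decide +kernel

theorem sideB_good : sideB.Good := by
  constructor <;> decide +kernel

/-- Elementary subgroups of order eight of the Sylow subgroup. -/
theorem side_of_commute : ∀ p ∈ dList, ∀ q ∈ dList, p * p = 1 → q * q = 1 → p * q = q * p →
    p ∈ sideA.eList ∧ q ∈ sideA.eList ∨ p ∈ sideB.eList ∧ q ∈ sideB.eList := by decide +kernel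

theorem invol_side : ∀ p ∈ dList, p * p = 1 → p ∈ sideA.eList ∨ p ∈ sideB.eList := by
  decide +kernel

theorem common_side : ∀ p ∈ sideA.eList, p ∈ sideB.eList → p = 1 ∨ p = pz ∨ p = pa ∨ p = pz * pa := by
  decide +kernel

end CfsgLib.TwoSymSix
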