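import Cfsg.Agent.Lib.Rec.TwoSymSix.ModelThree

/-!
# Coordinates of the central elements
-/

set_option autoImplicit false

namespace CfsgLib.TwoSymSix

attribute [local instance 10000] List.decidableBAll List.decidableBEx Finset.decidableDforallFinset

open Equiv

/-- The linear coordinates of the central elements. -/
def zCoord : List ℕ := [0, 1, 4, 5, 8, 9, 12, 13]

theorem zList_coord : ∀ b, ∀ p ∈ zList, ∃ v ∈ zCoord, (side b).el v = p := by decide +kernel

theorem zCoord_mem : ∀ b, ∀ v ∈ zCoord, (side b).el v ∈ zList ∧ v < 16 := by decide +kernel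

theorem side_el_mul : ∀ b, ∀ v < 16, ∀ w < 16, (side b).el (v ^^^ w) = (side b).el v * (side b).el w
  | false => sideA_el_mul
  | true => sideB_el_mul

theorem side_el_mem : ∀ b, ∀ v < 16, ((side b).el v).2 ∈ (side b).eList
  | false => sideA_el_mem
  | true => sideB_el_mem

theorem side_el_surj : ∀ b, ∀ p ∈ (side b).eList, ∀ i, ∃ v ∈ List.range 16, (side b).el v = (i, p)
  | false => sideA_el_surj
  | true => sideB_el_surj

theorem side_el_inj : ∀ b, ∀ v < 16, ∀ w < 16, (side b).el v = (side b).el w → v = w := by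
  decide +kernel

theorem side_actions : ∀ b, ∀ v < 16,
    (1, (side b).u) * (side b).el v * (1, (side b).u)⁻¹ = (side b).el (uLin b v) ∧
      (1, (side b).s) * (side b).el v * (1, (side b).s)⁻¹ = (side b).el (sLin v)
  | false => sideA_actions
  | true => sideB_actions

theorem lin_id : ∀ v < 16, lin 1 2 4 8 v = v := by decide +kernel

theorem uLin_lt : ∀ b, ∀ v < 16, uLin b v < 16 ∧ sLin v < 16 := by decide +kernel

theorem lin_lt {a b c d : ℕ} (ha : a < 16) (hb : b < 16) (hc : c < 16) (hd : d < 16) (v : ℕ) :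
    lin a b c d v < 16 := by
  unfold lin
  have h0 : (0 : ℕ) < 2 ^ 4 := by norm_num
  refine Nat.xor_lt_two_pow (n := 4) (Nat.xor_lt_two_pow (n := 4) ?_ ?_) (Nat.xor_lt_two_pow (n := 4) ?_ ?_) <;>
    split <;> assumption

end CfsgLib.TwoSymSix
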