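import Cfsg.Agent.Lib.Rec.TwoSymSix.Model

/-!
# Coordinates on the elementary subgroups of order sixteen
-/

set_option autoImplicit false

namespace CfsgLib.TwoSymSix

attribute [local instance 10000] List.decidableBAll List.decidableBEx Finset.decidableDforallFinset

open Equiv

/-- A linear map on four coordinates given by the images of the basis. -/
def lin (a b c d v : ℕ) : ℕ :=
  ((if v.testBit 0 then a else 0) ^^^ (if v.testBit 1 then b else 0)) ^^^
    ((if v.testBit 2 then c else 0) ^^^ (if v.testBit 3 then d else 0))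

/-- The element with coordinates `v` on a side: the bits belong to `t`, `e`, `z`, `a`. -/
def Side.el (S : Side) (v : ℕ) : M6 :=
  (if v.testBit 0 then Multiplicative.ofAdd 1 else 1,
    (if v.testBit 1 then S.e else 1) * (if v.testBit 2 then pz else 1) * (if v.testBit 3 then pa else 1))

theorem sideA_el_mul : ∀ v < 16, ∀ w < 16, sideA.el (v ^^^ w) = sideA.el v * sideA.el w := by
  decide +kernel

theorem sideB_el_mul : ∀ v < 16, ∀ w < 16, sideB.el (v ^^^ w) = sideB.el v * sideB.el w := by
  decide +kernel

theorem sideA_actions : ∀ v < 16,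
    (1, sideA.u) * sideA.el v * (1, sideA.u)⁻¹ = sideA.el (lin 1 6 14 2 v) ∧
      (1, sideA.s) * sideA.el v * (1, sideA.s)⁻¹ = sideA.el (lin 1 6 4 8 v) := by
  decide +kernel

theorem sideB_actions : ∀ v < 16,
    (1, sideB.u) * sideB.el v * (1, sideB.u)⁻¹ = sideB.el (lin 1 4 6 8 v) ∧
      (1, sideB.s) * sideB.el v * (1, sideB.s)⁻¹ = sideB.el (lin 1 6 4 8 v) := by
  decide +kernel

theorem sideA_el_surj : ∀ p ∈ sideA.eList, ∀ i : Multiplicative (ZMod 2),
    ∃ v ∈ List.range 16, sideA.el v = (i, p) := by decide +kernel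

theorem sideB_el_surj : ∀ p ∈ sideB.eList, ∀ i : Multiplicative (ZMod 2),
    ∃ v ∈ List.range 16, sideB.el v = (i, p) := by decide +kernel

theorem sideA_el_mem : ∀ v < 16, (sideA.el v).2 ∈ sideA.eList := by decide +kernel

theorem sideB_el_mem : ∀ v < 16, (sideB.el v).2 ∈ sideB.eList := by decide +kernel

end CfsgLib.TwoSymSix
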