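import Cfsg.Agent.Lib.Rec.TwoSymSix.Sides

/-!
# Fusion of three central conjugates is impossible on an elementary subgroup of order sixteen
-/

set_option autoImplicit false

namespace CfsgLib.TwoSymSix

attribute [local instance 10000] List.decidableBAll List.decidableBEx Finset.decidableDforallFinset

/-- The indicator on a side, in coordinates. -/
def indOn (b : Bool) (x : Types) (v : ℕ) : Bool := x.ind ((side b).el v)

/-- The action of the element of order three. -/
def uLin : Bool → ℕ → ℕ
  | false => lin 1 6 14 2
  | true => lin 1 4 6 8

/-- The action of the element of the other side. -/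
def sLin : ℕ → ℕ := lin 1 6 4 8

/-- The two words used. -/
def wordOne (u h : ℕ → ℕ) (v : ℕ) : ℕ := u (h (h (u (u (h (u v))))))

/-- The two words used. -/
def wordTwo (u h : ℕ → ℕ) (v : ℕ) : ℕ := u (h (u (h (h (u (u v))))))

/-- An involution commuting with `s` and different from it. -/
def goodWord (w : ℕ → ℕ) : Bool :=
  ((List.range 16).all fun v => w (w v) == v && w (sLin v) == sLin (w v)) &&
    (List.range 16).any (fun v => w v != v) && (List.range 16).any fun v => w v != sLin v

/-- A linear map respecting the types and permuting three central conjugates cyclically. -/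
def goodMap (b : Bool) (x : Types) (h : ℕ → ℕ) : Bool :=
  ((List.range 16).all fun v => indOn b x (h v) == indOn b x v) && decide ((List.range 16).map h).Nodup &&
    (h (h (h 1)) == 1) && (h 1 != 1)

/-- The four configurations of types with three central conjugates, with a suitable side. -/
def threeCases : List (Bool × Types) :=
  [(false, ⟨true, false, false, true, false⟩), (false, ⟨true, false, false, false, true⟩),
    (false, ⟨false, false, true, true, false⟩), (true, ⟨false, false, true, false, true⟩)]

/-- Every such map gives a four-group acting on the side. -/
theorem three_check : ∀ c ∈ threeCases, ∀ it ∈ [4, 5, 8, 9, 12, 13], ∀ ia ∈ [1, 4, 5, 8, 9, 12, 13],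
    ∀ ie ∈ [2, 3, 6, 7, 10, 11, 14, 15],
      goodMap c.1 c.2 (lin it ie 4 ia) = true →
        goodWord (wordOne (uLin c.1) (lin it ie 4 ia)) = true ∨
          goodWord (wordTwo (uLin c.1) (lin it ie 4 ia)) = true := by
  decide +kernel

end CfsgLib.TwoSymSix
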