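import Cfsg.Agent.Lib.Rec.TwoSymSix.StageA2

/-!
# The normal form: all involutions outside the symmetric group are conjugates of `t`
-/

set_option autoImplicit false
set_option synthInstance.maxSize 4000
set_option linter.unusedSectionVars false

namespace CfsgLib.TwoSymSix

attribute [local instance 10000] List.decidableBAll List.decidableBEx Finset.decidableDforallFinset

open Equiv Subgroup

/-- The normal form of the types. -/
def nfTypes : Types := ⟨true, true, true, false, false⟩

theorem nf_rule : ∀ p ∈ pFin, p * p = 1 → p ≠ 1 → p ≠ tau →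
    (nfTypes.ind (tau * p) = true ↔ ¬ nfTypes.ind p = true) := by decide +kernel

theorem nf_coord : ∀ b, ∀ v < 16, indOn b nfTypes v = v.testBit 0 := by decide +kernel

theorem nf_count : (pFin.filter fun p => True ∧ nfTypes.ind p = true).card = 12 := by decide +kernel

namespace Cfg

variable {G : Type*} [Group G] [Finite G] {n : ℕ} (D : Cfg G n)

/-- In normal form the product of a conjugate of `t` and a commuting involution is a conjugate of `t`
exactly if the involution is none. -/
theorem rule (hN : D.types = nfTypes) {y x : G} (hy : IsConj D.t y) (hx2 : x * x = 1) (hc : x * y = y * x)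
    (hx1 : x ≠ 1) (hxy : x ≠ y) : IsConj D.t (y * x) ↔ ¬ IsConj D.t x := by
  have hQ : IsPGroup 2 (zpowers x) := by
    refine IsPGroup.of_card (n := 1) ?_
    rw [Nat.card_zpowers, orderOf_eq_prime (by rw [pow_two, hx2]) hx1, pow_one]
  obtain ⟨k, hk, hP⟩ := D.exists_into_P hy hQ fun q hq => by
    obtain ⟨i, rfl⟩ := mem_zpowers_iff.1 hq
    exact (Commute.zpow_left hc i).eq
  obtain ⟨p, hp, hpe⟩ := hP x (mem_zpowers x)
  have ex : x = k * D.f p * k⁻¹ := by rw [hpe]; group
  have exy : y * x = k * D.f (tau * p) * k⁻¹ := by rw [map_mul, D.f_tau, hpe, ← hk]; group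
  rw [exy, ex, D.isConj_conj, D.isConj_conj, D.ind_spec hp,
    D.ind_spec (mul_mem (mem_pSub.2 (by decide +kernel)) hp), hN]
  refine nf_rule p (mem_pFin.2 hp) (D.f_inj ?_) (fun h => hx1 ?_) fun h => hxy ?_
  · rw [map_mul, map_one, hpe]
    calc k⁻¹ * x * k * (k⁻¹ * x * k) = k⁻¹ * (x * x) * k := by group
      _ = 1 := by rw [hx2]; group
  · rw [ex, h, map_one]; group
  · rw [ex, h, D.f_tau, hk]

theorem isConj_elem (hN : D.types = nfTypes) {b : Bool} {v : ℕ} (hv : v < 16) :
    IsConj D.t (D.elem b v) ↔ v.testBit 0 = true := by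
  rw [D.ind_elem hv, hN, nf_coord b v hv]

theorem cnt_P_nf (hN : D.types = nfTypes) : cnt D.t (D.P : Set G) = 12 := by
  have e : (D.P : Set G) = D.f '' {p | p ∈ pSub ∧ True} := by
    ext g; simp [D.mem_P]
  rw [e, D.cnt_P, hN]
  exact nf_count

theorem elem_congr {b c : Bool} {v w : ℕ} (h : (side b).el v = (side c).el w) : D.elem b v = D.elem c w :=
  congrArg D.f h

theorem elem_central (b : Bool) {v : ℕ} (hv : v ∈ zCoord) : D.elem b v = D.elem false v := by
  refine D.elem_congr ?_
  revert v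
  revert b
  decide +kernel

theorem norm_inf_cen : (normalizer (D.P : Set G) ⊓ centralizer ({D.t} : Set G) : Subgroup G) = D.P := by
  ext g
  constructor
  · intro hg
    obtain ⟨h1, h2⟩ := mem_inf.1 hg
    exact D.mem_P_of_fix h1 (mul_inv_eq_iff_eq_mul.2 (mem_centralizer_singleton_iff.1 h2))
  · exact fun hg => mem_inf.2 ⟨le_normalizer hg, D.P_le hg⟩

theorem central_of_norm {k : G} (hk : k ∈ normalizer (D.P : Set G)) {v : ℕ} (hv : v ∈ zCoord) :
    ∃ w ∈ zCoord, k * D.elem false v * k⁻¹ = D.elem false w := by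
  obtain ⟨q, hq, hqe⟩ := D.conj_zList hk (zCoord_mem false v hv).1
  obtain ⟨w, hw, rfl⟩ := zList_coord false q hq
  exact ⟨w, hw, hqe⟩

/-- The images of `t` and of `(56)` under the normalizer. -/
theorem norm_values (hN : D.types = nfTypes) {k : G} (hk : k ∈ normalizer (D.P : Set G)) :
    (∃ w ∈ [1, 5, 9, 13], k * D.t * k⁻¹ = D.elem false w) ∧
      (k * D.elem false 8 * k⁻¹ = D.elem false 8 ∨ k * D.elem false 8 * k⁻¹ = D.elem false 12) := by
  constructor
  · obtain ⟨w, hw, hwe⟩ := D.central_of_norm hk (v := 1) (by decide)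
    rw [D.elem_one] at hwe
    have key : ∀ w ∈ zCoord, w.testBit 0 = true → w ∈ [1, 5, 9, 13] := by decide +kernel
    exact ⟨w, key w hw ((D.isConj_elem hN (b := false) (zCoord_mem false w hw).2).1
      (by rw [← hwe, D.isConj_conj])), hwe⟩
  · obtain ⟨w, hw, hwe⟩ := D.central_of_norm hk (v := 8) (by decide)
    have h : ¬ w.testBit 0 = true := fun h => by
      have h1 := (D.isConj_elem hN (b := false) (zCoord_mem false w hw).2).2 h
      rw [← hwe, D.isConj_conj, D.isConj_elem hN (by norm_num)] at h1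
      exact absurd h1 (by decide)
    have h0 : w ≠ 0 := fun h => by
      rw [h, D.elem_zero, conj_eq_one_iff, ← D.elem_zero false] at hwe
      exact absurd (side_el_inj false 8 (by norm_num) 0 (by norm_num) (D.f_inj hwe)) (by decide)
    have h4 : w ≠ 4 := fun h => by
      have h1 : k * D.elem false 8 * k⁻¹ = k * D.elem false 4 * k⁻¹ := by
        rw [hwe, h, D.elem_pz, D.conj_pz hk]
      exact absurd (side_el_inj false 8 (by norm_num) 4 (by norm_num)
        (D.f_inj
        (show D.elem false 8 = D.elem false 4 from (MulAut.conj k).injective (by simpa using h1)))) (by decide)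
    simp only [zCoord, List.mem_cons, List.not_mem_nil, or_false] at hw
    rcases hw with rfl | rfl | rfl | rfl | rfl | rfl | rfl | rfl <;> first
      | exact absurd rfl h0 | exact absurd rfl h4 | exact absurd (by decide) h
      | exact Or.inl hwe | exact Or.inr hwe

theorem exists_norm_coord (hN : D.types = nfTypes) {w : ℕ} (hw : w ∈ [1, 5, 9, 13]) :
    ∃ k ∈ normalizer (D.P : Set G), k * D.t * k⁻¹ = D.elem false w := by
  have key : ∀ w ∈ [1, 5, 9, 13], w ∈ zCoord ∧ w < 16 ∧ w.testBit 0 = true := by decide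
  obtain ⟨h1, h2, h3⟩ := key w hw
  exact D.exists_norm_f (zCoord_mem false w h1).1 ((D.isConj_elem hN h2).2 h3)

/-- The normalizer of `P` has order `128`. -/
theorem card_norm_P (hN : D.types = nfTypes) : Nat.card (normalizer (D.P : Set G)) = 128 := by
  rw [D.card_orbit, D.norm_inf_cen, D.card_P]
  have hc : Nat.card {y : G // ∃ k ∈ normalizer (D.P : Set G), k * D.t * k⁻¹ = y} = 4 := by
    rw [show 4 = ([1, 5, 9, 13] : List ℕ).toFinset.card from rfl, ← Nat.card_eq_finsetCard]
    have hlt : ∀ w ∈ ([1, 5, 9, 13] : List ℕ), w < 16 := by decide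
    refine (Nat.card_congr (Equiv.ofBijective
      (fun w => ⟨D.elem false w.1, D.exists_norm_coord hN (List.mem_toFinset.1 w.2)⟩) ⟨?_, ?_⟩)).symm
    · intro x y h
      exact Subtype.ext (side_el_inj false _ (hlt _ (List.mem_toFinset.1 x.2)) _
        (hlt _ (List.mem_toFinset.1 y.2)) (D.f_inj (congrArg Subtype.val h)))
    · rintro ⟨y, k, hk, rfl⟩
      obtain ⟨w, hw, hwe⟩ := (D.norm_values hN hk).1
      exact ⟨⟨w, List.mem_toFinset.2 hw⟩, Subtype.ext hwe.symm⟩
  rw [hc]

/-- The orbit of an element under conjugation. -/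
theorem card_orbit_at (K : Subgroup G) (x : G) :
    Nat.card K = Nat.card (K ⊓ centralizer ({x} : Set G) : Subgroup G) *
      Nat.card {y : G // ∃ k ∈ K, k * x * k⁻¹ = y} := by
  classical
  let p : K → {y : G // ∃ k ∈ K, k * x * k⁻¹ = y} := fun k => ⟨k.1 * x * k.1⁻¹, k.1, k.2, rfl⟩
  have := Fintype.ofFinite {y : G // ∃ k ∈ K, k * x * k⁻¹ = y}
  rw [← Nat.card_congr (Equiv.sigmaFiberEquiv p), Nat.card_sigma,
    Nat.card_eq_fintype_card (α := {y : G // ∃ k ∈ K, k * x * k⁻¹ = y}),
    Finset.sum_congr rfl (g := fun _ => Nat.card (K ⊓ centralizer ({x} : Set G) : Subgroup G)) fun y _ => ?_,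
    Finset.sum_const, Finset.card_univ, smul_eq_mul, mul_comm]
  obtain ⟨k₀, hk₀, hy⟩ := y.2
  refine Nat.card_congr ⟨fun k => ⟨k₀⁻¹ * k.1.1, mem_inf.2 ⟨mul_mem (inv_mem hk₀) k.1.2, ?_⟩⟩,
    fun c => ⟨⟨k₀ * c.1, mul_mem hk₀ (mem_inf.1 c.2).1⟩, ?_⟩, fun k => ?_, fun c => ?_⟩
  · have hk : k.1.1 * x * k.1.1⁻¹ = y.1 := congrArg Subtype.val k.2
    rw [mem_centralizer_singleton_iff]
    calc k₀⁻¹ * k.1.1 * x = k₀⁻¹ * (k.1.1 * x * k.1.1⁻¹) * k.1.1 := by group
      _ = k₀⁻¹ * (k₀ * x * k₀⁻¹) * k.1.1 := by rw [hk, hy]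
      _ = x * (k₀⁻¹ * k.1.1) := by group
  · refine Subtype.ext ?_
    have hc := mem_centralizer_singleton_iff.1 (mem_inf.1 c.2).2
    show k₀ * c.1 * x * (k₀ * c.1)⁻¹ = y.1
    rw [← hy, mul_assoc k₀ c.1, hc]
    group
  · exact Subtype.ext (Subtype.ext (by simp))
  · exact Subtype.ext (by simp)

end Cfg

end CfsgLib.TwoSymSix
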