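import Cfsg.Agent.Lib.Rec.TwoSymSix.SideActs

/-!
# The translations of a side and the two orbits on their conjugates of `t`
-/

set_option autoImplicit false
set_option synthInstance.maxSize 4000
set_option linter.unusedSectionVars false

namespace CfsgLib.TwoSymSix

attribute [local instance 10000] List.decidableBAll List.decidableBEx Finset.decidableDforallFinset

open Equiv Subgroup

theorem evenList_of : ∀ v < 16, v.testBit 0 = false → v ∈ evenList := by decide +kernel

theorem evenList_spec : ∀ v ∈ evenList, v < 16 ∧ v.testBit 0 = false := by decide +kernel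

theorem evenList_xor : ∀ v ∈ evenList, ∀ w ∈ evenList, v ^^^ w ∈ evenList := by decide +kernel

theorem eList_even : ∀ b, ∀ q ∈ (side b).eList, ∃ v ∈ evenList, (side b).el v = (1, q) := by decide +kernel

namespace Cfg

variable {G : Type*} [Group G] [Finite G] {n : ℕ} (D : Cfg G n)

/-- The part of a side without conjugates of `t`. -/
def E (b : Bool) : Subgroup G where
  carrier := {g | ∃ v ∈ evenList, D.elem b v = g}
  one_mem' := ⟨0, by decide, D.elem_zero b⟩
  mul_mem' := by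
    rintro _ _ ⟨v, hv, rfl⟩ ⟨w, hw, rfl⟩
    exact ⟨v ^^^ w, evenList_xor v hv w hw, D.elem_xor (evenList_spec v hv).1 (evenList_spec w hw).1⟩
  inv_mem' := by
    rintro _ ⟨v, hv, rfl⟩
    refine ⟨v, hv, eq_inv_of_mul_eq_one_left ?_⟩
    exact D.A_sq (D.elem_mem (evenList_spec v hv).1)

theorem E_le (b : Bool) : D.E b ≤ D.A b := by
  rintro _ ⟨v, hv, rfl⟩
  exact D.elem_mem (evenList_spec v hv).1

theorem card_E (b : Bool) : Nat.card (D.E b) = 8 := by
  classical
  rw [show 8 = evenList.toFinset.card from rfl, ← Nat.card_eq_finsetCard]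
  refine (Nat.card_congr (Equiv.ofBijective
    (fun v : evenList.toFinset => (⟨D.elem b v.1, v.1, List.mem_toFinset.1 v.2, rfl⟩ : D.E b))
    ⟨fun x y e => ?_, ?_⟩)).symm
  · exact Subtype.ext (side_el_inj b _ (evenList_spec _ (List.mem_toFinset.1 x.2)).1 _
      (evenList_spec _ (List.mem_toFinset.1 y.2)).1 (D.f_inj (congrArg Subtype.val e)))
  · rintro ⟨_, v, hv, rfl⟩
    exact ⟨⟨v, List.mem_toFinset.2 hv⟩, rfl⟩

theorem E_not_conj (hN : D.types = nfTypes) {b : Bool} {g : G} (hg : g ∈ D.E b) : ¬ IsConj D.t g := by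
  obtain ⟨v, hv, rfl⟩ := hg
  rw [D.isConj_elem hN (evenList_spec v hv).1, (evenList_spec v hv).2]
  simp

theorem mem_E_of (hN : D.types = nfTypes) {b : Bool} {g : G} (hg : g ∈ D.A b) (h : ¬ IsConj D.t g) :
    g ∈ D.E b := by
  obtain ⟨v, hv, rfl⟩ := D.exists_elem hg
  refine ⟨v, evenList_of v hv ?_, rfl⟩
  rwa [D.isConj_elem hN hv, Bool.not_eq_true] at h

theorem split_A (hN : D.types = nfTypes) {b : Bool} {g : G} (hg : g ∈ D.A b) :
    g ∈ D.E b ∨ D.t * g ∈ D.E b := by
  by_cases h : IsConj D.t g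
  · refine Or.inr (D.mem_E_of hN (mul_mem (D.t_mem_A b) hg) fun h2 => ?_)
    obtain ⟨v, hv, rfl⟩ := D.exists_elem hg
    have e : D.t * D.elem b v = D.elem b (1 ^^^ v) := by rw [D.elem_xor (by norm_num) hv, D.elem_one]
    rw [e,
      D.isConj_elem hN (Nat.xor_lt_two_pow (n := 4) (by norm_num) hv), Nat.testBit_xor,
      (D.isConj_elem hN hv).1 h] at h2
    exact absurd h2 (by decide)
  · exact Or.inl (D.mem_E_of hN hg h)

theorem E_normal (hN : D.types = nfTypes) {b : Bool} {k : G} (hk : k ∈ normalizer (D.A b : Set G))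
    {g : G} (hg : g ∈ D.E b) : k * g * k⁻¹ ∈ D.E b := by
  refine D.mem_E_of hN ((mem_normalizer_iff.1 hk g).1 (D.E_le b hg)) ?_
  rw [D.isConj_conj]
  exact D.E_not_conj hN hg

/-- The elements of the normalizer of a side centralizing its part without conjugates of `t`. -/
def R (b : Bool) : Subgroup G := centralizer (D.E b : Set G) ⊓ normalizer (D.A b : Set G)

theorem R_comm {b : Bool} {r g : G} (hr : r ∈ D.R b) (hg : g ∈ D.E b) : g * r = r * g :=
  mem_centralizer_iff.1 (mem_inf.1 hr).1 g hg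

theorem R_norm {b : Bool} {r : G} (hr : r ∈ D.R b) : r ∈ normalizer (D.A b : Set G) := (mem_inf.1 hr).2

theorem A_le_R (b : Bool) : D.A b ≤ D.R b := fun _ hg =>
  mem_inf.2 ⟨mem_centralizer_iff.2 fun _ hh => D.A_comm (D.E_le b hh) hg,
    normalizer_of_forall fun h hh => by rw [D.A_comm hg hh, mul_inv_cancel_right]; exact hh⟩

theorem R_normal (hN : D.types = nfTypes) {b : Bool} {k : G} (hk : k ∈ normalizer (D.A b : Set G)) :
    k ∈ normalizer (D.R b : Set G) := by
  refine normalizer_of_forall fun r hr => mem_inf.2 ⟨mem_centralizer_iff.2 fun g hg => ?_,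
    mul_mem (mul_mem hk (D.R_norm hr)) (inv_mem hk)⟩
  have h := D.R_comm hr (D.E_normal hN (inv_mem hk) hg)
  rw [inv_inv] at h
  calc g * (k * r * k⁻¹) = k * ((k⁻¹ * g * k) * r) * k⁻¹ := by group
    _ = k * (r * (k⁻¹ * g * k)) * k⁻¹ := by rw [h]
    _ = k * r * k⁻¹ * g := by group

theorem R_cen {b : Bool} {r : G} (hr : r ∈ D.R b) (ht : r * D.t = D.t * r) : r ∈ D.A b := by
  refine D.mem_A_of_comm ht fun q hq => ?_
  obtain ⟨v, hv, hve⟩ := eList_even b q hq
  rw [← hve]
  exact (D.R_comm hr ⟨v, hv, rfl⟩).symm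

/-- The order of the translations of a side from their images of `t`. -/
theorem card_R (b : Bool) (L : List ℕ) (hnd : L.Nodup) (hlt : ∀ v ∈ L, v < 16)
    (h₁ : ∀ v ∈ L, ∃ r ∈ D.R b, r * D.t * r⁻¹ = D.elem b v)
    (h₂ : ∀ r ∈ D.R b, ∃ v ∈ L, r * D.t * r⁻¹ = D.elem b v) : Nat.card (D.R b) = 16 * L.length := by
  classical
  have hst : (D.R b ⊓ centralizer ({D.t} : Set G) : Subgroup G) = D.A b := by
    refine le_antisymm (fun r hr => ?_) (le_inf (D.A_le_R b) ((D.A_le b).trans D.P_le))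
    obtain ⟨h1, h2⟩ := mem_inf.1 hr
    exact D.R_cen h1 (mem_centralizer_singleton_iff.1 h2)
  rw [D.card_orbit, hst, D.card_A, ← List.toFinset_card_of_nodup hnd, ← Nat.card_eq_finsetCard]
  congr 1
  refine (Nat.card_congr (Equiv.ofBijective
    (fun v : L.toFinset => (⟨D.elem b v.1, h₁ v.1 (List.mem_toFinset.1 v.2)⟩ :
      {y : G // ∃ k ∈ D.R b, k * D.t * k⁻¹ = y})) ⟨fun x y e => ?_, ?_⟩)).symm
  · exact Subtype.ext (side_el_inj b _ (hlt _ (List.mem_toFinset.1 x.2)) _
      (hlt _ (List.mem_toFinset.1 y.2)) (D.f_inj (congrArg Subtype.val e)))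
  · rintro ⟨y, k, hk, rfl⟩
    obtain ⟨v, hv, hve⟩ := h₂ k hk
    exact ⟨⟨v, List.mem_toFinset.2 hv⟩, Subtype.ext hve.symm⟩

/-- The conjugates of `t` among the translations of a side. -/
def RI (b : Bool) : Set G := {y | IsConj D.t y ∧ y ∈ D.R b}

theorem t_mem_RI (b : Bool) : D.t ∈ D.RI b := ⟨IsConj.refl _, D.A_le_R b (D.t_mem_A b)⟩

/-- Conjugates of `t` with equal images differ by an element without conjugates of `t`. -/
theorem fibre_diff (hN : D.types = nfTypes) {b : Bool} {y z : G} (hy : y ∈ D.RI b) (hz : z ∈ D.RI b)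
    (he : y * D.t * y⁻¹ = z * D.t * z⁻¹) : y⁻¹ * z ∈ D.E b := by
  obtain ⟨y2, -⟩ := D.invol_of_isConj hy.1
  obtain ⟨z2, -⟩ := D.invol_of_isConj hz.1
  have hd : y⁻¹ * z * D.t = D.t * (y⁻¹ * z) := by
    calc y⁻¹ * z * D.t = y⁻¹ * (z * D.t * z⁻¹) * z := by group
      _ = y⁻¹ * (y * D.t * y⁻¹) * z := by rw [he]
      _ = D.t * (y⁻¹ * z) := by group
  have hA := D.R_cen (mul_mem (inv_mem hy.2) hz.2) hd
  by_cases hfix : y * D.t = D.t * y
  · have hyA := D.R_cen hy.2 hfix
    have hzA : z ∈ D.A b := by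
      rw [show z = y * (y⁻¹ * z) by group]; exact mul_mem hyA hA
    obtain ⟨v, hv, rfl⟩ := D.exists_elem hyA
    obtain ⟨w, hw, rfl⟩ := D.exists_elem hzA
    rw [inv_eq_of_mul_eq_one_right y2, ← D.elem_xor hv hw]
    refine ⟨v ^^^ w, evenList_of _ (Nat.xor_lt_two_pow (n := 4) hv hw) ?_, rfl⟩
    rw [Nat.testBit_xor, (D.isConj_elem hN hv).1 hy.1, (D.isConj_elem hN hw).1 hz.1]
    rfl
  · refine (D.split_A hN hA).resolve_right fun hε => hfix ?_
    set ε := D.t * (y⁻¹ * z) with hεdef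
    have ez : z = y * D.t * ε := by
      rw [hεdef, mul_assoc y, ← mul_assoc D.t, D.tt]; group
    have c1 : ε * y = y * ε := D.R_comm hy.2 hε
    have c2 : ε * D.t = D.t * ε := D.A_comm (D.E_le b hε) (D.t_mem_A b)
    have ε2 : ε * ε = 1 := D.A_sq (D.E_le b hε)
    have h : y * D.t * (y * D.t) = 1 := by
      calc y * D.t * (y * D.t) = y * D.t * (y * D.t) * (ε * ε) := by rw [ε2, mul_one]
        _ = y * D.t * y * (D.t * ε) * ε := by group
        _ = y * D.t * (y * ε) * D.t * ε := by rw [← c2]; group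
        _ = y * D.t * ε * (y * D.t * ε) := by rw [← c1]; group
        _ = 1 := by rw [← ez, z2]
    calc y * D.t = (y * D.t)⁻¹ := (inv_eq_of_mul_eq_one_right h).symm
      _ = D.t * y := by rw [mul_inv_rev, inv_eq_of_mul_eq_one_right D.tt, inv_eq_of_mul_eq_one_right y2]

theorem fibre_mul (hN : D.types = nfTypes) {b : Bool} {y ε : G} (hy : y ∈ D.RI b) (hε : ε ∈ D.E b) :
    y * ε ∈ D.RI b ∧ y * ε * D.t * (y * ε)⁻¹ = y * D.t * y⁻¹ := by
  refine ⟨⟨?_, mul_mem hy.2 (D.A_le_R b (D.E_le b hε))⟩, ?_⟩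
  · by_cases h1 : ε = 1
    · rw [h1, mul_one]; exact hy.1
    · exact (D.rule hN hy.1 (D.A_sq (D.E_le b hε)) (D.R_comm hy.2 hε) h1
        fun e => D.E_not_conj hN hε (e ▸ hy.1)).2 (D.E_not_conj hN hε)
  · have c := D.A_comm (D.E_le b hε) (D.t_mem_A b)
    calc y * ε * D.t * (y * ε)⁻¹ = y * (ε * D.t) * ε⁻¹ * y⁻¹ := by group
      _ = y * D.t * y⁻¹ := by rw [c]; group

open Classical in
/-- The coordinates of the images of `t` by the conjugates among the translations. -/
noncomputable def fibs (b : Bool) : List ℕ :=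
  oddList.filter fun v => decide (∃ y ∈ D.RI b, y * D.t * y⁻¹ = D.elem b v)

theorem mem_fibs (hN : D.types = nfTypes) {b : Bool} {v : ℕ} :
    v ∈ D.fibs b ↔ v < 16 ∧ ∃ y ∈ D.RI b, y * D.t * y⁻¹ = D.elem b v := by
  classical
  unfold fibs
  rw [List.mem_filter, decide_eq_true_eq]
  refine ⟨fun h => ⟨oddList_lt v h.1, h.2⟩, fun ⟨hv, y, hy, hye⟩ => ⟨?_, y, hy, hye⟩⟩
  rw [oddList_iff v hv, ← D.isConj_elem hN (b := b) hv, ← hye, D.isConj_conj]

theorem uEl_shift {b : Bool} {y : G} {v : ℕ} (hv : v < 16) (h : y * D.t * y⁻¹ = D.elem b v) :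
    D.uEl b * y * (D.uEl b)⁻¹ * D.t * (D.uEl b * y * (D.uEl b)⁻¹)⁻¹ = D.elem b (uLin b v) := by
  rw [← D.uEl_conj b hv, ← h]
  calc D.uEl b * y * (D.uEl b)⁻¹ * D.t * (D.uEl b * y * (D.uEl b)⁻¹)⁻¹
      = D.uEl b * (y * ((D.uEl b)⁻¹ * (D.t * D.uEl b)) * y⁻¹) * (D.uEl b)⁻¹ := by group
    _ = _ := by rw [← D.uEl_comm b]; group

theorem RI_shift (hN : D.types = nfTypes) {b : Bool} {y : G} (hy : y ∈ D.RI b) {k : G}
    (hk : k ∈ normalizer (D.R b : Set G)) : k * y * k⁻¹ ∈ D.RI b :=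
  ⟨(D.isConj_conj _ _).2 hy.1, (mem_normalizer_iff.1 hk y).1 hy.2⟩

theorem fibs_cands (hN : D.types = nfTypes) (b : Bool) : D.fibs b ∈ cands b := by
  classical
  refine List.mem_filter.2 ⟨List.mem_sublists.2 List.filter_sublist, ?_⟩
  simp only [Bool.and_eq_true, List.all_eq_true, List.contains_iff_mem]
  refine ⟨(D.mem_fibs hN).2 ⟨by norm_num, D.t, D.t_mem_RI b, by rw [D.elem_one]; group⟩, fun v hv => ?_⟩
  obtain ⟨hv', y, hy, hye⟩ := (D.mem_fibs hN).1 hv
  exact (D.mem_fibs hN).2 ⟨(uLin_lt b v hv').1, _, D.RI_shift hN hy (D.R_normal hN (D.uEl_norm b)),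
    D.uEl_shift hv' hye⟩

/-- Eight conjugates in each fibre. -/
theorem card_RI (hN : D.types = nfTypes) (b : Bool) : Nat.card (D.RI b) = 8 * (D.fibs b).length := by
  classical
  have hnd : (D.fibs b).Nodup := List.Nodup.filter _ (by decide)
  have hlt : ∀ v : (D.fibs b).toFinset, v.1 < 16 := fun v => ((D.mem_fibs hN).1 (List.mem_toFinset.1 v.2)).1
  choose yf hyf hye using fun v : (D.fibs b).toFinset => ((D.mem_fibs hN).1 (List.mem_toFinset.1 v.2)).2
  rw [← List.toFinset_card_of_nodup hnd, ← Nat.card_eq_finsetCard, ← D.card_E b, ← Nat.card_prod]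
  refine (Nat.card_congr (Equiv.ofBijective
    (fun x : D.E b × (D.fibs b).toFinset => (⟨yf x.2 * x.1.1, (D.fibre_mul hN (hyf x.2) x.1.2).1⟩ : D.RI b))
    ⟨fun x z e => ?_, ?_⟩)).symm
  · have e' : yf x.2 * x.1.1 = yf z.2 * z.1.1 := congrArg Subtype.val e
    have h1 := (D.fibre_mul hN (hyf x.2) x.1.2).2
    rw [e', (D.fibre_mul hN (hyf z.2) z.1.2).2, hye, hye] at h1
    have h2 : x.2 = z.2 := Subtype.ext (side_el_inj b _ (hlt x.2) _ (hlt z.2) (D.f_inj h1.symm))
    rw [h2] at e'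
    exact Prod.ext (Subtype.ext (mul_left_cancel e')) h2
  · rintro ⟨y, hy⟩
    obtain ⟨v, hv, hve⟩ := D.exists_elem ((mem_normalizer_iff.1 (D.R_norm hy.2) _).1 (D.t_mem_A b))
    have hm : v ∈ (D.fibs b).toFinset := List.mem_toFinset.2 ((D.mem_fibs hN).2 ⟨hv, y, hy, hve.symm⟩)
    refine ⟨(⟨_, D.fibre_diff hN (hyf ⟨v, hm⟩) hy ((hye _).trans hve)⟩, ⟨v, hm⟩), Subtype.ext ?_⟩
    show yf ⟨v, hm⟩ * ((yf ⟨v, hm⟩)⁻¹ * y) = y
    group

theorem cnt_R (hN : D.types = nfTypes) (b : Bool) : cnt D.t (D.R b : Set G) = 8 * (D.fibs b).length := by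
  rw [← D.card_RI hN]
  exact Nat.card_congr (Equiv.subtypeEquivRight fun y => by simp [RI, and_comm])

/-- Commuting involutions of `P` lie in one side. -/
theorem commuting_in_side {B : Subgroup G} (hP : B ≤ D.P) (h2 : ∀ x ∈ B, x * x = 1) :
    B ≤ D.A false ∨ B ≤ D.A true := by
  by_contra hno
  rw [not_or] at hno
  obtain ⟨h1, h1'⟩ := hno
  obtain ⟨x, hx, hx'⟩ := SetLike.not_le_iff_exists.1 h1
  obtain ⟨y, hy, hy'⟩ := SetLike.not_le_iff_exists.1 h1'
  have hc : x * y = y * x := by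
    have := inv_eq_of_mul_eq_one_right (h2 _ (mul_mem hx hy))
    rw [mul_inv_rev, inv_eq_of_mul_eq_one_right (h2 x hx), inv_eq_of_mul_eq_one_right (h2 y hy)] at this
    exact this.symm
  obtain ⟨p, hp, rfl⟩ := hP hx
  obtain ⟨q, hq, rfl⟩ := hP hy
  rcases side_of_commute' p (mem_pFin.2 hp) q (mem_pFin.2 hq)
    (D.f_inj (by rw [map_mul, map_one]; exact h2 _ hx)) (D.f_inj (by rw [map_mul, map_one]; exact h2 _ hy))
    (D.f_inj (by rw [map_mul, map_mul]; exact hc)) with h | h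
  · exact hx' (D.f_mem_A h.1)
  · exact hy' (D.f_mem_A h.2)

/-- Every conjugate among the translations is carried to `t` on one of the two sides. -/
theorem to_side (hN : D.types = nfTypes) {ρ : ℕ} (hρ : ∀ b, Nat.card (D.R b) = ρ) {y : G}
    (hy : y ∈ D.RI false) : ∃ (k : G) (c : Bool), k * D.t * k⁻¹ = y ∧
      (D.R c).map (MulAut.conj k).toMonoidHom = D.R false := by
  obtain ⟨y2, -⟩ := D.invol_of_isConj hy.1
  let Q : Subgroup G :=
    { carrier := {g | g ∈ D.E false ∨ y * g ∈ D.E false}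
      one_mem' := Or.inl (one_mem _)
      mul_mem' := by
        intro g h hg hh
        rcases hg with hg | hg <;> rcases hh with hh | hh
        · exact Or.inl (mul_mem hg hh)
        · refine Or.inr ?_
          rw [← mul_assoc, ← D.R_comm hy.2 hg, mul_assoc]
          exact mul_mem hg hh
        · refine Or.inr ?_
          rw [← mul_assoc]
          exact mul_mem hg hh
        · refine Or.inl ?_
          have e := mul_mem hg hh
          rwa [show y * g * (y * h) = y * (g * y) * h by group, show g * y = y * g by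
            have := D.R_comm hy.2 hg
            rw [mul_assoc] at this
            exact mul_left_cancel this, ← mul_assoc, y2, one_mul] at e
      inv_mem' := by
        intro g hg
        rcases hg with hg | hg
        · exact Or.inl (inv_mem hg)
        · refine Or.inr ?_
          have e := inv_mem hg
          rw [mul_inv_rev, inv_eq_of_mul_eq_one_right y2] at e
          have h' := D.R_comm hy.2 e
          rw [mul_assoc, y2, mul_one] at h'
          rw [show y * g⁻¹ = g⁻¹ * y from ?_]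
          · exact e
          · conv_lhs => rw [h']
            rw [← mul_assoc, ← mul_assoc, y2, one_mul] }
  have hyQ : y ∈ Q := Or.inr (by rw [y2]; exact one_mem _)
  have hEQ : D.E false ≤ Q := fun _ h => Or.inl h
  have hcom : ∀ g ∈ Q, g * y = y * g := by
    intro g hg
    rcases hg with hg | hg
    · exact D.R_comm hy.2 hg
    · have := D.R_comm hy.2 hg
      rw [mul_assoc] at this
      exact mul_left_cancel this
  have hsq : ∀ g ∈ Q, g * g = 1 := by
    intro g hg
    rcases id hg with hg' | hg'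
    · exact D.A_sq (D.E_le _ hg')
    · have h1 := D.A_sq (D.E_le _ hg')
      rwa [show y * g * (y * g) = y * (g * y) * g by group, hcom g hg, ← mul_assoc, y2, one_mul] at h1
  have hQ : IsPGroup 2 Q := fun g => ⟨1, by rw [pow_one, pow_two]; exact Subtype.ext (hsq g.1 g.2)⟩
  obtain ⟨k, hk, hkP⟩ := D.exists_into_P hy.1 hQ hcom
  set B := Q.map (MulAut.conj k⁻¹).toMonoidHom with hB
  have hBP : B ≤ D.P := by
    rintro _ ⟨g, hg, rfl⟩
    simpa using hkP g hg
  have hB2 : ∀ x ∈ B, x * x = 1 := by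
    rintro _ ⟨g, hg, rfl⟩
    rw [← map_mul, hsq g hg, map_one]
  obtain ⟨c, hc⟩ : ∃ c, B ≤ D.A c := by
    rcases D.commuting_in_side hBP hB2 with h | h
    exacts [⟨_, h⟩, ⟨_, h⟩]
  have hEc : (D.E false).map (MulAut.conj k⁻¹).toMonoidHom = D.E c := by
    refine eq_of_le_of_card_ge ?_ ?_
    · rintro _ ⟨g, hg, rfl⟩
      refine D.mem_E_of hN (hc ⟨g, hEQ hg, rfl⟩) ?_
      simp only [MulEquiv.coe_toMonoidHom, MulAut.conj_apply]
      rw [D.isConj_conj]
      exact D.E_not_conj hN hg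
    · rw [Nat.card_congr (equivMapOfInjective (D.E false) _ (MulAut.conj k⁻¹).injective).toEquiv.symm,
        D.card_E, D.card_E]
  have hEk : ∀ g ∈ D.E c, k * g * k⁻¹ ∈ D.E false := by
    intro g hg
    rw [← hEc] at hg
    obtain ⟨g', hg', rfl⟩ := hg
    simpa [mul_assoc] using hg'
  have hle : (D.R false).map (MulAut.conj k⁻¹).toMonoidHom ≤ D.R c := by
    rintro _ ⟨r, hr, rfl⟩
    simp only [MulEquiv.coe_toMonoidHom, MulAut.conj_apply, inv_inv]
    have hcomm : ∀ g ∈ D.E c, g * (k⁻¹ * r * k) = k⁻¹ * r * k * g := by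
      intro g hg
      calc g * (k⁻¹ * r * k) = k⁻¹ * ((k * g * k⁻¹) * r) * k := by group
        _ = k⁻¹ * (r * (k * g * k⁻¹)) * k := by rw [D.R_comm hr (hEk g hg)]
        _ = k⁻¹ * r * k * g := by group
    refine mem_inf.2 ⟨mem_centralizer_iff.2 hcomm, normalizer_of_forall fun a ha => ?_⟩
    have hE' : ∀ g ∈ D.E c, k⁻¹ * r * k * g * (k⁻¹ * r * k)⁻¹ ∈ D.A c := fun g hg => by
      rw [← hcomm g hg, mul_inv_cancel_right]; exact D.E_le c hg
    rcases D.split_A hN ha with h | h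
    · exact hE' a h
    · have hz : r * y * r⁻¹ ∈ D.RI false :=
        D.RI_shift hN hy (le_normalizer hr)
      have himg : y * D.t * y⁻¹ = r * y * r⁻¹ * D.t * (r * y * r⁻¹)⁻¹ := by
        obtain ⟨σ, hσ, hσe⟩ : ∃ σ ∈ D.E false, r⁻¹ * D.t * r = D.t * σ := by
          have h1 := (mem_normalizer_iff.1 (inv_mem (D.R_norm hr)) _).1 (D.t_mem_A false)
          rw [inv_inv] at h1
          refine ⟨D.t * (r⁻¹ * D.t * r), (D.split_A hN h1).resolve_left fun he => D.E_not_conj hN he ?_, ?_⟩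
          · have := (D.isConj_conj r⁻¹ D.t).2 (IsConj.refl _)
            rwa [inv_inv] at this
          · rw [← mul_assoc, D.tt, one_mul]
        have hv : y * D.t * y⁻¹ ∈ D.A false := (mem_normalizer_iff.1 (D.R_norm hy.2) _).1 (D.t_mem_A false)
        have hyσ : y * σ * y⁻¹ = σ := by rw [← D.R_comm hy.2 hσ, mul_inv_cancel_right]
        have hrσ : r * σ * r⁻¹ = σ := by rw [← D.R_comm hr hσ, mul_inv_cancel_right]
        have hrt : r * D.t * r⁻¹ = D.t * σ := by
          calc r * D.t * r⁻¹ = r * (D.t * σ) * r⁻¹ * (r * σ * r⁻¹) := by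
                conv_lhs => rw [show D.t = D.t * (σ * σ) by rw [D.A_sq (D.E_le _ hσ), mul_one]]
                group
            _ = r * (r⁻¹ * D.t * r) * r⁻¹ * σ := by rw [hrσ, hσe]
            _ = D.t * σ := by group
        obtain ⟨β, hβ, hβe⟩ : ∃ β ∈ D.E false, y * D.t * y⁻¹ = D.t * β := by
          refine ⟨D.t * (y * D.t * y⁻¹), (D.split_A hN hv).resolve_left fun he => D.E_not_conj hN he ?_, ?_⟩
          · exact (D.isConj_conj _ _).2 (IsConj.refl _)
          · rw [← mul_assoc, D.tt, one_mul]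
        have hrβ : r * β * r⁻¹ = β := by rw [← D.R_comm hr hβ, mul_inv_cancel_right]
        calc y * D.t * y⁻¹ = D.t * β := hβe
          _ = D.t * (σ * σ) * β := by rw [D.A_sq (D.E_le _ hσ), mul_one]
          _ = D.t * σ * (β * σ) := by rw [D.A_comm (D.E_le _ hβ) (D.E_le _ hσ)]; group
          _ = r * D.t * r⁻¹ * ((r * β * r⁻¹) * (r * σ * r⁻¹)) := by rw [hrt, hrβ, hrσ]
          _ = r * (D.t * β * σ) * r⁻¹ := by group
          _ = r * (y * D.t * y⁻¹ * (y * σ * y⁻¹)) * r⁻¹ := by rw [hβe, hyσ]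
          _ = r * (y * (D.t * σ) * y⁻¹) * r⁻¹ := by group
          _ = _ := by rw [← hσe]; group
      have hd := D.fibre_diff hN hy hz himg
      have hrt : k⁻¹ * r * k * D.t * (k⁻¹ * r * k)⁻¹ ∈ D.A c := by
        have hmem : r * y * r⁻¹ ∈ Q := by
          refine Or.inr ?_
          rwa [inv_eq_of_mul_eq_one_right y2] at hd
        have := hc ⟨_, hmem, rfl⟩
        convert this using 1
        simp only [MulEquiv.coe_toMonoidHom, MulAut.conj_apply, ← hk]
        group
      rw [show a = D.t * (D.t * a) by rw [← mul_assoc, D.tt, one_mul], Cfg.adjust.conj_mul_split]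
      exact mul_mem hrt (hE' _ h)
  have heq : (D.R false).map (MulAut.conj k⁻¹).toMonoidHom = D.R c := by
    refine eq_of_le_of_card_ge hle ?_
    rw [Nat.card_congr (equivMapOfInjective (D.R false) _ (MulAut.conj k⁻¹).injective).toEquiv.symm, hρ, hρ]
  refine ⟨k, c, hk, ?_⟩
  rw [← heq, map_map]
  convert map_id (D.R false) using 2
  ext g
  simp [mul_assoc]

/-- The orbit of `t` among the conjugates in the translations. -/
def RO : Set G := {y | ∃ k ∈ normalizer (D.R false : Set G), k * D.t * k⁻¹ = y}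

theorem RO_sub (hN : D.types = nfTypes) : D.RO ⊆ D.RI false := by
  rintro _ ⟨k, hk, rfl⟩
  exact D.RI_shift hN (D.t_mem_RI false) hk

theorem card_stab (hN : D.types = nfTypes) (b : Bool) :
    Nat.card (normalizer (D.R b : Set G) ⊓ centralizer ({D.t} : Set G) : Subgroup G) = 96 := by
  rw [← D.card_norm_cen b]
  congr 2
  refine le_antisymm (fun q hq => ?_) (le_inf (fun q hq => D.R_normal hN (mem_inf.1 hq).1) inf_le_right)
  obtain ⟨h1, h2⟩ := mem_inf.1 hq
  have hqt := mem_centralizer_singleton_iff.1 h2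
  refine mem_inf.2 ⟨normalizer_of_forall fun a ha => D.R_cen ((mem_normalizer_iff.1 h1 a).1 (D.A_le_R b ha)) ?_, h2⟩
  calc q * a * q⁻¹ * D.t = q * (a * (q⁻¹ * (D.t * q))) * q⁻¹ := by group
    _ = q * (a * D.t) * q⁻¹ := by rw [← hqt]; group
    _ = q * D.t * (a * q⁻¹) := by rw [D.A_comm ha (D.t_mem_A b)]; group
    _ = D.t * (q * a * q⁻¹) := by rw [hqt]; group

theorem card_normR (hN : D.types = nfTypes) :
    Nat.card (normalizer (D.R false : Set G)) = 96 * Nat.card D.RO := by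
  rw [D.card_orbit, D.card_stab hN]
  rfl

/-- At most two orbits, of equal size. -/
theorem orbit_size (hN : D.types = nfTypes) {ρ : ℕ} (hρ : ∀ b, Nat.card (D.R b) = ρ) :
    Nat.card (D.RI false) = Nat.card D.RO ∨ Nat.card (D.RI false) = 2 * Nat.card D.RO := by
  classical
  by_cases hall : D.RI false ⊆ D.RO
  · exact Or.inl (by rw [Set.Subset.antisymm hall (D.RO_sub hN)])
  obtain ⟨y₀, hy₀, hn₀⟩ := Set.not_subset.1 hall
  have hfalse : ∀ {k : G}, (D.R false).map (MulAut.conj k).toMonoidHom = D.R false → k * D.t * k⁻¹ ∈ D.RO := by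
    intro k hk
    exact ⟨k, normalizer_of_forall fun g hg => hk.le ⟨g, hg, rfl⟩, rfl⟩
  obtain ⟨k₀, c₀, hk₀, hR₀⟩ := D.to_side hN hρ hy₀
  obtain rfl : c₀ = true := by
    cases c₀
    · exact absurd (hk₀ ▸ hfalse hR₀) hn₀
    · rfl
  let O' : Set G := {y | ∃ k ∈ normalizer (D.R false : Set G), k * y₀ * k⁻¹ = y}
  have hsub : O' ⊆ D.RI false := by
    rintro _ ⟨k, hk, rfl⟩
    exact D.RI_shift hN hy₀ hk
  have hdisj : Disjoint D.RO O' := by
    rw [Set.disjoint_left]
    rintro _ ⟨k, hk, rfl⟩ ⟨l, hl, hle⟩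
    exact hn₀ ⟨l⁻¹ * k, mul_mem (inv_mem hl) hk, by
      calc l⁻¹ * k * D.t * (l⁻¹ * k)⁻¹ = l⁻¹ * (k * D.t * k⁻¹) * l := by group
        _ = y₀ := by rw [← hle]; group⟩
  have hcov : D.RI false = D.RO ∪ O' := by
    refine Set.Subset.antisymm (fun y hy => ?_) (Set.union_subset (D.RO_sub hN) hsub)
    obtain ⟨k, c, hk, hR⟩ := D.to_side hN hρ hy
    cases c
    · exact Or.inl (hk ▸ hfalse hR)
    · refine Or.inr ⟨k * k₀⁻¹, normalizer_of_forall fun g hg => ?_, ?_⟩
      · rw [← hR₀] at hg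
        obtain ⟨g', hg', rfl⟩ := hg
        refine hR.le ⟨g', hg', ?_⟩
        simp [mul_assoc]
      · rw [← hk₀, ← hk]; group
  have hst : Nat.card (normalizer (D.R false : Set G) ⊓ centralizer ({y₀} : Set G) : Subgroup G) = 96 := by
    have e1 : (normalizer (D.R true : Set G)).map (MulAut.conj k₀).toMonoidHom =
        normalizer (D.R false : Set G) := by
      rw [← hR₀]; exact map_equiv_normalizer_eq (D.R true) (MulAut.conj k₀)
    have e : (normalizer (D.R true : Set G) ⊓ centralizer ({D.t} : Set G)).map (MulAut.conj k₀).toMonoidHom =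
        normalizer (D.R false : Set G) ⊓ centralizer ({y₀} : Set G) := by
      rw [map_inf _ _ _ (MulAut.conj k₀).injective, e1]
      congr 1
      ext g
      rw [Subgroup.mem_map_equiv, mem_centralizer_singleton_iff, mem_centralizer_singleton_iff, ← hk₀]
      simp only [MulAut.conj_symm_apply]
      constructor
      · intro h
        calc g * (k₀ * D.t * k₀⁻¹) = k₀ * (k₀⁻¹ * g * k₀ * D.t) * k₀⁻¹ := by group
          _ = k₀ * (D.t * (k₀⁻¹ * g * k₀)) * k₀⁻¹ := by rw [h]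
          _ = k₀ * D.t * k₀⁻¹ * g := by group
      · intro h
        calc k₀⁻¹ * g * k₀ * D.t = k₀⁻¹ * (g * (k₀ * D.t * k₀⁻¹)) * k₀ := by group
          _ = k₀⁻¹ * ((k₀ * D.t * k₀⁻¹) * g) * k₀ := by rw [h]
          _ = D.t * (k₀⁻¹ * g * k₀) := by group
    rw [← e, Nat.card_congr (equivMapOfInjective _ _ (MulAut.conj k₀).injective).toEquiv.symm,
      D.card_stab hN]
  have hO' : Nat.card O' = Nat.card D.RO := by
    have h1 := card_orbit_at (normalizer (D.R false : Set G)) y₀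
    rw [hst, D.card_normR hN] at h1
    exact Nat.eq_of_mul_eq_mul_left (by norm_num) h1.symm
  right
  rw [hcov, Nat.card_coe_set_eq, Set.ncard_union_eq hdisj, ← Nat.card_coe_set_eq, ← Nat.card_coe_set_eq, hO',
    two_mul]

end Cfg

end CfsgLib.TwoSymSix
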