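import Cfsg.Agent.Lib.Rec.TwoSymSix.SideH
import Cfsg.Agent.Lib.Rec.TwoSymSix.RSub

/-!
# The case of a conjugate translating by the central double transposition, without interchanges
-/

set_option autoImplicit false
set_option synthInstance.maxSize 4000
set_option linter.unusedSectionVars false

namespace CfsgLib.TwoSymSix

attribute [local instance 10000] List.decidableBAll List.decidableBEx Finset.decidableDforallFinset

open Equiv Subgroup

theorem cands_even_five : ∀ b, ∀ S ∈ cands b, 5 ∈ S → S.length % 2 = 0 →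
    (S.length = 4 ∧ ∀ v ∈ S, v ∈ orbFour b) ∨ S.length = 8 := by decide +kernel

theorem kLin_plain : ∀ i b, ∀ v ∈ evenList, kLin false false i b v = v := by decide +kernel

theorem orbFour_distinct : ∀ b, (orbFour b).Nodup ∧ uLin b (uLin b (uLin b 5)) = 5 := by decide +kernel

namespace Cfg

variable {G : Type*} [Group G] [Finite G] {n : ℕ} {D : Cfg G n} {p : Par} {gA gB : G}

theorem Rels.reach (h : D.Rels p gA gB) (b : Bool) (K : Subgroup G) (hA : gA ∈ K) (hB : gB ∈ K)
    (hτ : D.tauEl gA gB b ∈ K) {it : ℕ} (hit : it ∈ oddList) : ∃ g ∈ K, g * D.t * g⁻¹ = D.elem b it := by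
  have klt : ∀ v₁ v₂ i b, ∀ v < 16, kLin v₁ v₂ i b v < 16 := by decide +kernel
  have st : ∀ {g : G} {v w : ℕ}, g ∈ K → (∃ k ∈ K, k * D.t * k⁻¹ = D.elem b v) →
      g * D.elem b v * g⁻¹ = D.elem b w → ∃ k ∈ K, k * D.t * k⁻¹ = D.elem b w := by
    rintro g v w hg ⟨k, hk, hke⟩ e
    exact ⟨g * k, mul_mem hg hk, by rw [← e, ← hke]; group⟩
  have r1 : ∃ g ∈ K, g * D.t * g⁻¹ = D.elem b 1 := ⟨1, one_mem _, by rw [D.elem_one]; group⟩
  have r4 := st hτ r1 (h.tau_conj b (by norm_num))
  have tlt : tauOf p.v₁ p.v₂ b 1 < 16 := uLin_lt' b _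
  have := reach_all p.v₁ p.v₂ b it hit
  simp only [List.mem_cons, List.not_mem_nil, or_false] at this
  rcases this with rfl | rfl | rfl | rfl | rfl | rfl | rfl | rfl
  exacts [r1, st hA r1 (h.pick_conj false b (by norm_num)), st hB r1 (h.pick_conj true b (by norm_num)),
    st hA (st hB r1 (h.pick_conj true b (by norm_num))) (h.pick_conj false b (klt _ _ _ _ _ (by norm_num))),
    r4, st hA r4 (h.pick_conj false b tlt), st hB r4 (h.pick_conj true b tlt),
    st hA (st hB r4 (h.pick_conj true b tlt)) (h.pick_conj false b (klt _ _ _ _ _ tlt))]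

theorem Rels.pick_R (h : D.Rels p gA gB)
    (hsw : ∀ k ∈ normalizer (D.P : Set G), k ∈ normalizer (D.A false : Set G))
    (h1 : p.v₁ = false) (h2 : p.v₂ = false) (i b : Bool) : pick gA gB i ∈ D.R b := by
  refine mem_inf.2 ⟨mem_centralizer_iff.2 ?_, D.norm_all (h.pick_mem i).1 (hsw _ (h.pick_mem i).1) b⟩
  rintro _ ⟨v, hv, rfl⟩
  have e := h.pick_conj i b (evenList_spec v hv).1
  rw [h1, h2, kLin_plain i b v hv] at e
  exact (mul_inv_eq_iff_eq_mul.1 e).symm

theorem Rels.tau_R (h : D.Rels p gA gB) (hN : D.types = nfTypes)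
    (hsw : ∀ k ∈ normalizer (D.P : Set G), k ∈ normalizer (D.A false : Set G))
    (h1 : p.v₁ = false) (h2 : p.v₂ = false) (b : Bool) : D.tauEl gA gB b ∈ D.R b :=
  (mem_normalizer_iff.1 (D.R_normal hN (D.uEl_norm b)) _).1 (h.pick_R hsw h1 h2 b b)

theorem Rels.card_R_sw (h : D.Rels p gA gB) (hN : D.types = nfTypes)
    (hsw : ∀ k ∈ normalizer (D.P : Set G), k ∈ normalizer (D.A false : Set G))
    (h1 : p.v₁ = false) (h2 : p.v₂ = false) (b : Bool) : Nat.card (D.R b) = 128 := by
  rw [D.card_R b oddList (by decide) oddList_lt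
    (fun v hv => h.reach b _ (h.pick_R hsw h1 h2 false b) (h.pick_R hsw h1 h2 true b) (h.tau_R hN hsw h1 h2 b) hv)
    (fun r hr => D.odd_image hN (D.R_norm hr))]
  rfl

/-- An orbit of `16` elements is impossible. -/
theorem orbit_ne_sixteen (hN : D.types = nfTypes)
    (hsw : ∀ k ∈ normalizer (D.P : Set G), k ∈ normalizer (D.A false : Set G))
    (hF : ∀ v ∈ D.fibs false, v ∈ orbFour false) : Nat.card D.RO ≠ 16 := by
  classical
  obtain ⟨hnd, hu5⟩ := orbFour_distinct false
  let Φ : Set G := {y | y ∈ D.RO ∧ y * D.t * y⁻¹ = D.elem false 5}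
  let pts : Fin 3 → ℕ := ![5, uLin false 5, uLin false (uLin false 5)]
  have plt : ∀ i, pts i < 16 ∧ pts i ≠ 1 := by decide +kernel
  have pinj : ∀ i j, pts i = pts j → i = j := by decide +kernel
  let sh : Fin 3 → G := fun i => D.uEl false ^ (i : ℕ)
  have hsh : ∀ i, ∀ y ∈ Φ, sh i * y * (sh i)⁻¹ ∈ D.RO ∧
      sh i * y * (sh i)⁻¹ * D.t * (sh i * y * (sh i)⁻¹)⁻¹ = D.elem false (pts i) := by
    intro i y hy
    obtain ⟨⟨k, hk, hke⟩, himg⟩ := hy
    refine ⟨⟨sh i * k, mul_mem (pow_mem (D.R_normal hN (D.uEl_norm false)) _) hk, by rw [← hke]; group⟩, ?_⟩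
    fin_cases i
    · simpa [sh, pts] using himg
    · simpa [sh, pts] using D.uEl_shift (b := false) (by norm_num) himg
    · have e : sh 2 * y * (sh 2)⁻¹ = D.uEl false * (D.uEl false * y * (D.uEl false)⁻¹) * (D.uEl false)⁻¹ := by
        show D.uEl false ^ 2 * y * (D.uEl false ^ 2)⁻¹ = _
        rw [pow_two]; group
      have e2 := D.uEl_shift (b := false) (uLin_lt' false 5) (D.uEl_shift (b := false) (by norm_num) himg)
      show sh 2 * y * (sh 2)⁻¹ * D.t * (sh 2 * y * (sh 2)⁻¹)⁻¹ = D.elem false (uLin false (uLin false 5))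
      rw [e]; exact e2
  have hodd : ∀ v : oddList.toFinset, D.elem false v.1 ∈ D.RO ∧
      D.elem false v.1 * D.t * (D.elem false v.1)⁻¹ = D.elem false 1 := by
    intro v
    have hv := List.mem_toFinset.1 v.2
    obtain ⟨-, k, hk, hke⟩ := (D.mem_orb hN).1 ((D.sw_orb hN hsw false).2 v.1 hv)
    refine ⟨⟨k, D.R_normal hN hk, hke⟩, ?_⟩
    rw [D.elem_one, D.A_comm (D.elem_mem (oddList_lt _ hv)) (D.t_mem_A false), mul_inv_cancel_right]
  let F : oddList.toFinset ⊕ (Fin 3 × Φ) → D.RO := fun x => match x with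
    | .inl v => ⟨_, (hodd v).1⟩
    | .inr (i, y) => ⟨_, (hsh i y.1 y.2).1⟩
  have hbij : Function.Bijective F := by
    constructor
    · rintro (v | ⟨i, x⟩) (w | ⟨j, y⟩) e <;> have e' := congrArg Subtype.val e <;> simp only [F] at e'
      · exact congrArg Sum.inl (Subtype.ext (side_el_inj false _ (oddList_lt _ (List.mem_toFinset.1 v.2)) _
          (oddList_lt _ (List.mem_toFinset.1 w.2)) (D.f_inj e')))
      · exfalso
        have h1 := (hodd v).2
        rw [e', (hsh j y.1 y.2).2] at h1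
        exact (plt j).2 (side_el_inj false _ (plt j).1 1 (by norm_num) (D.f_inj h1))
      · exfalso
        have h1 := (hodd w).2
        rw [← e', (hsh i x.1 x.2).2] at h1
        exact (plt i).2 (side_el_inj false _ (plt i).1 1 (by norm_num) (D.f_inj h1))
      · have h1 := (hsh i x.1 x.2).2
        rw [e', (hsh j y.1 y.2).2] at h1
        obtain rfl := pinj j i (side_el_inj false _ (plt j).1 _ (plt i).1 (D.f_inj h1))
        obtain rfl : x = y := Subtype.ext (by simpa using e')
        rfl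
    · rintro ⟨y, hy⟩
      obtain ⟨hyI, hyR⟩ := D.RO_sub hN hy
      obtain ⟨v, hv, hve⟩ := D.odd_image hN (D.R_norm hyR)
      have hv4 := hF v ((D.mem_fibs hN).2 ⟨oddList_lt v hv, y, ⟨hyI, hyR⟩, hve⟩)
      simp only [orbFour, List.mem_cons, List.not_mem_nil, or_false] at hv4
      have back : ∀ (i : Fin 3), v = pts i → ∃ x : Φ, sh i * x.1 * (sh i)⁻¹ = y := by
        intro i hi
        obtain ⟨k, hk, hke⟩ := hy
        refine ⟨⟨(sh i)⁻¹ * y * sh i, ⟨(sh i)⁻¹ * k,
          mul_mem (inv_mem (pow_mem (D.R_normal hN (D.uEl_norm false)) _)) hk, by rw [← hke]; group⟩, ?_⟩, by group⟩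
        have hst : ∀ i : Fin 3, sh i * D.elem false 5 * (sh i)⁻¹ = D.elem false (pts i) := by
          intro i
          fin_cases i
          · simp [sh, pts]
          · simpa [sh, pts] using D.uEl_conj false (v := 5) (by norm_num)
          · show D.uEl false ^ 2 * D.elem false 5 * (D.uEl false ^ 2)⁻¹ = _
            rw [pow_two]
            exact D.conj_comp (D.uEl_conj false (by norm_num)) (D.uEl_conj false (uLin_lt' false 5))
        have hct : sh i * D.t = D.t * sh i := ((show Commute (D.uEl false) D.t from D.uEl_comm false).pow_left i).eq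
        calc (sh i)⁻¹ * y * sh i * D.t * ((sh i)⁻¹ * y * sh i)⁻¹
            = (sh i)⁻¹ * (y * (sh i * D.t * (sh i)⁻¹) * y⁻¹) * sh i := by group
          _ = (sh i)⁻¹ * (sh i * D.elem false 5 * (sh i)⁻¹) * sh i := by
              rw [hct, mul_inv_cancel_right, hve, hi, hst]
          _ = _ := by group
      rcases hv4 with rfl | rfl | rfl | rfl
      · have h1 : y ∈ D.A false := by
          refine D.R_cen hyR (mul_inv_eq_iff_eq_mul.1 ?_)
          rw [hve, D.elem_one]
        obtain ⟨w, hw, hwe⟩ := D.exists_elem h1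
        have hwo : w ∈ oddList := (oddList_iff w hw).2 ((D.isConj_elem hN (b := false) hw).1 (hwe ▸ hyI))
        exact ⟨.inl ⟨w, List.mem_toFinset.2 hwo⟩, Subtype.ext hwe⟩
      · obtain ⟨x, hx⟩ := back 0 rfl
        exact ⟨.inr (0, x), Subtype.ext hx⟩
      · obtain ⟨x, hx⟩ := back 1 rfl
        exact ⟨.inr (1, x), Subtype.ext hx⟩
      · obtain ⟨x, hx⟩ := back 2 rfl
        exact ⟨.inr (2, x), Subtype.ext hx⟩
  have h8 : Nat.card oddList.toFinset = 8 := by rw [Nat.card_eq_finsetCard]; rfl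
  rw [← Nat.card_congr (Equiv.ofBijective F hbij), Nat.card_sum, Nat.card_prod, h8, Nat.card_fin]
  omega

/-- The case of a conjugate translating by the central double transposition is impossible. -/
theorem Rels.not_caseA (h : D.Rels p gA gB) (hN : D.types = nfTypes)
    (hsw : ∀ k ∈ normalizer (D.P : Set G), k ∈ normalizer (D.A false : Set G)) :
    caseA p (D.conjSet gA gB) ≠ true := by
  intro hA
  simp only [caseA, Bool.and_eq_true, Bool.not_eq_true', beq_iff_eq, bne_iff_ne, Bool.or_eq_true,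
    List.contains_iff_mem] at hA
  obtain ⟨⟨⟨⟨h1, h2⟩, hg⟩, h4⟩, h8⟩ := hA
  have hnot : ¬ 1024 ∣ Nat.card G := fun hd => h8 ((h.dvd_1024_iff hN hsw false).1 hd)
  -- the fibre over `t (12)(34)`
  have h5 : 5 ∈ D.fibs false := by
    have hm : gA * gB ∈ D.R false := mul_mem (h.pick_R hsw h1 h2 false false) (h.pick_R hsw h1 h2 true false)
    have hi : gA * gB * D.t * (gA * gB)⁻¹ = D.elem false 5 := by
      rw [← D.elem_one false]
      have e := D.conj_comp (h.pick_conj true false (v := 1) (by norm_num))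
        (h.pick_conj false false (v := kLin p.v₁ p.v₂ true false 1) (by rw [h1, h2]; decide))
      have key : ∀ v₁ v₂, kLin v₁ v₂ false false (kLin v₁ v₂ true false 1) = 5 := by decide +kernel
      rw [key] at e
      exact e
    have b24 : ∀ i < 5, Nat.testBit 24 i = decide (3 ≤ i) := by decide
    have b25 : ∀ i < 5, Nat.testBit 25 i = decide (i = 0 ∨ 3 ≤ i) := by decide
    rcases hg with hg | hg
    · refine (D.mem_fibs hN).2 ⟨by norm_num, gA * gB, ⟨?_, hm⟩, hi⟩
      simpa [W, pw, b24 0, b24 1, b24 2, b24 3, b24 4, -isConj_iff] using (mem_conjSet.1 hg).2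
    · refine (D.mem_fibs hN).2 ⟨by norm_num, D.t * (gA * gB),
        ⟨?_, mul_mem (D.A_le_R false (D.t_mem_A false)) hm⟩, ?_⟩
      · simpa [W, pw, b25 0, b25 1, b25 2, b25 3, b25 4, mul_assoc, -isConj_iff] using (mem_conjSet.1 hg).2
      · calc D.t * (gA * gB) * D.t * (D.t * (gA * gB))⁻¹ = D.t * (gA * gB * D.t * (gA * gB)⁻¹) * D.t⁻¹ := by group
          _ = _ := by rw [hi, D.A_comm (D.t_mem_A false) (D.elem_mem (by norm_num)), mul_inv_cancel_right]
  obtain ⟨m, hm, hc⟩ := D.card_cen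
  -- the number of fibres is even
  have heven : (D.fibs false).length % 2 = 0 := by
    have h512 : 512 ∣ Nat.card G := by
      have hT := sign_iff D.hno D.tt (normalizer (D.P : Set G))
      rw [D.card_norm_P hN, hc, h.cnt_TOne hN] at hT
      refine hT.2 ?_
      obtain ⟨r, hr⟩ := Nat.dvd_of_mod_eq_zero h4
      exact ⟨m * r, by rw [hr]; ring⟩
    have hs := (sign_iff D.hno D.tt (D.R false)).1 (by rw [h.card_R_sw hN hsw h1 h2]; exact h512)
    rw [h.card_R_sw hN hsw h1 h2, hc, D.cnt_R hN, show 32 * m * (8 * (D.fibs false).length) =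
      256 * (m * (D.fibs false).length) by ring, show 4 * 128 = 256 * 2 from rfl,
      Nat.mul_dvd_mul_iff_left (by norm_num : 0 < 256)] at hs
    exact Nat.mod_eq_zero_of_dvd ((Nat.prime_two.dvd_mul.1 hs).resolve_left fun h3 =>
      Nat.not_even_iff_odd.2 hm (even_iff_two_dvd.2 h3))
  have hdvd : 96 * Nat.card D.RO ∣ Nat.card G :=
    D.card_normR hN ▸ (normalizer (D.R false : Set G)).card_subgroup_dvd_card
  have hcard := D.card_RI hN false
  rcases cands_even_five false _ (D.fibs_cands hN false) h5 heven with ⟨hl, hF⟩ | hl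
  · rw [hl] at hcard
    rcases D.orbit_size hN (fun b => h.card_R_sw hN hsw h1 h2 b) with e | e
    · rw [← e, hcard] at hdvd
      exact hnot (dvd_trans ⟨3, by norm_num⟩ hdvd)
    · exact orbit_ne_sixteen hN hsw hF (by omega)
  · rw [hl] at hcard
    rcases D.orbit_size hN (fun b => h.card_R_sw hN hsw h1 h2 b) with e | e
    · rw [← e, hcard] at hdvd
      exact hnot (dvd_trans ⟨6, by norm_num⟩ hdvd)
    · rw [show Nat.card D.RO = 32 by omega] at hdvd
      exact hnot (dvd_trans ⟨3, by norm_num⟩ hdvd)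

end Cfg

end CfsgLib.TwoSymSix
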