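import Cfsg.Agent.Lib.Rec.TwoSymSix.Gens

/-!
# Actions on a side, in coordinates
-/

set_option autoImplicit false
set_option synthInstance.maxSize 4000
set_option linter.unusedSectionVars false

namespace CfsgLib.TwoSymSix

attribute [local instance 10000] List.decidableBAll List.decidableBEx Finset.decidableDforallFinset

open Equiv Subgroup

/-- The coordinate of the fixed vector. -/
def wv : Bool → ℕ
  | false => 12
  | true => 8

/-- The even coordinates. -/
def evenList : List ℕ := [0, 2, 4, 6, 8, 10, 12, 14]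

theorem uLin_lt' : ∀ b, ∀ v, uLin b v < 16 := by
  intro b v
  cases b <;> exact lin_lt (by norm_num) (by norm_num) (by norm_num) (by norm_num) v

theorem acts_fix : ∀ b, ∀ a ∈ sixActs b, a.getD 4 0 ∈ [4, 4 ^^^ wv b] →
    (∀ v < 16, a.getD v 0 = v) ∨ ∀ v < 16, a.getD v 0 = sLin v := by decide +kernel

theorem sLin_sq : ∀ v < 16, sLin (sLin v) = v := by decide +kernel

theorem side_s_mem : ∀ b, (side b).s ∈ dList := fun b => (side_good b).s_mem.1

namespace Cfg

variable {G : Type*} [Group G] [Finite G] {n : ℕ} (D : Cfg G n)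

/-- The action of the element of order three. -/
theorem uEl_conj (b : Bool) {v : ℕ} (hv : v < 16) :
    D.uEl b * D.elem b v * (D.uEl b)⁻¹ = D.elem b (uLin b v) := by
  rw [elem, elem, uEl, ← map_inv, ← map_mul, ← map_mul, (side_actions b v hv).1]

theorem uEl_inv (b : Bool) : (D.uEl b)⁻¹ = D.uEl b * D.uEl b := by
  refine inv_eq_of_mul_eq_one_right ?_
  rw [uEl, ← map_mul, ← map_mul, ← map_one D.f]
  congr 1
  exact Prod.ext rfl (by rw [← mul_assoc]; exact (side_good b).u_three.1)

/-- The involution of the other side. -/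
def sEl (b : Bool) : G := D.f (1, (side b).s)

theorem sEl_mem (b : Bool) : D.sEl b ∈ D.P := D.f_mem_P (p := (1, (side b).s)) (side_s_mem b)

theorem sEl_conj (b : Bool) {v : ℕ} (hv : v < 16) :
    D.sEl b * D.elem b v * (D.sEl b)⁻¹ = D.elem b (sLin v) := by
  rw [elem, elem, sEl, ← map_inv, ← map_mul, ← map_mul, (side_actions b v hv).2]

/-- An element fixing `t` and acting as the identity or as `s` lies in `P`. -/
theorem mem_P_of_act {b : Bool} {q : G} (ht : q * D.t = D.t * q)
    (h : (∀ v < 16, q * D.elem b v * q⁻¹ = D.elem b v) ∨ ∀ v < 16, q * D.elem b v * q⁻¹ = D.elem b (sLin v)) :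
    q ∈ D.P := by
  have base : ∀ {r : G}, r * D.t = D.t * r → (∀ v < 16, r * D.elem b v * r⁻¹ = D.elem b v) → r ∈ D.P := by
    intro r hrt hr
    refine D.A_le b (D.mem_A_of_comm hrt fun d hd => ?_)
    obtain ⟨v, hv, hve⟩ := D.exists_elem (D.f_mem_A (p := (1, d)) hd)
    rw [← hve]
    exact mul_inv_eq_iff_eq_mul.1 (hr v hv)
  rcases h with h | h
  · exact base ht h
  · have hs : D.sEl b * D.t = D.t * D.sEl b := mem_centralizer_singleton_iff.1 (D.P_le (D.sEl_mem b))
    have h1 : D.sEl b * q ∈ D.P := base ((Commute.mul_left hs ht).eq) fun v hv => by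
      rw [show D.sEl b * q * D.elem b v * (D.sEl b * q)⁻¹ = D.sEl b * (q * D.elem b v * q⁻¹) * (D.sEl b)⁻¹ by group,
        h v hv, D.sEl_conj b (uLin_lt b v hv).2, sLin_sq v hv]
    simpa using mul_mem (inv_mem (D.sEl_mem b)) h1

/-- An element of the normalizer of a side fixing `t` and the central double transposition modulo the fixed
vector lies in `P`. -/
theorem fix_side {b : Bool} {q : G} (hq : q ∈ normalizer (D.A b : Set G)) (ht : q * D.t = D.t * q)
    (hz : q * D.elem b 4 * q⁻¹ = D.elem b 4 ∨ q * D.elem b 4 * q⁻¹ = D.elem b (4 ^^^ wv b)) : q ∈ D.P := by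
  obtain ⟨a, ha, hact⟩ := D.norm_cen_act hq ht
  have hlt : ∀ b, ∀ a ∈ sixActs b, a.getD 4 0 < 16 ∧ 4 ^^^ wv b < 16 := by decide +kernel
  obtain ⟨l1, l2⟩ := hlt b a ha
  have h4 : a.getD 4 0 ∈ [4, 4 ^^^ wv b] := by
    rw [hact 4 (by norm_num)] at hz
    rcases hz with h | h
    · rw [side_el_inj b _ l1 4 (by norm_num) (D.f_inj h)]; exact List.mem_cons_self ..
    · rw [side_el_inj b _ l1 _ l2 (D.f_inj h)]; simp
  refine D.mem_P_of_act (b := b) ht ?_
  rcases acts_fix b a ha h4 with h | h
  · exact Or.inl fun v hv => by rw [hact v hv, h v hv]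
  · exact Or.inr fun v hv => by rw [hact v hv, h v hv]

/-- The non-conjugates of `t` on a side are the even coordinates. -/
theorem even_image (hN : D.types = nfTypes) {b : Bool} {k : G} (hk : k ∈ normalizer (D.A b : Set G))
    {v : ℕ} (hv : v ∈ evenList) : ∃ w ∈ evenList, k * D.elem b v * k⁻¹ = D.elem b w := by
  have hv16 : v < 16 ∧ v.testBit 0 = false := (by decide : ∀ v ∈ evenList, v < 16 ∧ v.testBit 0 = false) v hv
  obtain ⟨w, hw, hwe⟩ := D.exists_elem ((mem_normalizer_iff.1 hk _).1 (D.elem_mem (b := b) hv16.1))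
  have h0 : w.testBit 0 = false := by
    by_contra hc
    rw [Bool.not_eq_false, ← D.isConj_elem hN (b := b) hw, hwe, D.isConj_conj, D.isConj_elem hN hv16.1, hv16.2] at hc
    exact absurd hc (by decide)
  exact ⟨w, (by decide : ∀ w < 16, w.testBit 0 = false → w ∈ evenList) w hw h0, hwe.symm⟩

/-- The image of `t` under the normalizer of a side has odd coordinate. -/
theorem odd_image (hN : D.types = nfTypes) {b : Bool} {k : G} (hk : k ∈ normalizer (D.A b : Set G)) :
    ∃ v ∈ oddList, k * D.t * k⁻¹ = D.elem b v := by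
  obtain ⟨v, hv, hve⟩ := D.exists_elem ((mem_normalizer_iff.1 hk _).1 (D.t_mem_A b))
  refine ⟨v, (oddList_iff v hv).2 ((D.isConj_elem hN (b := b) hv).1 ?_), hve.symm⟩
  rw [hve, D.isConj_conj]

theorem elem_w_ne (b : Bool) : D.elem b (wv b) ≠ 1 := fun h => by
  rw [← D.elem_zero b] at h
  have key : ∀ b, wv b < 16 ∧ wv b ≠ 0 := by decide
  exact (key b).2 (side_el_inj b _ (key b).1 0 (by norm_num) (D.f_inj h))

theorem conj_comp {b : Bool} {x y : G} {v w r : ℕ} (hy : y * D.elem b v * y⁻¹ = D.elem b w)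
    (hx : x * D.elem b w * x⁻¹ = D.elem b r) : x * y * D.elem b v * (x * y)⁻¹ = D.elem b r := by
  rw [← hx, ← hy]; group

end Cfg

end CfsgLib.TwoSymSix
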