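import Cfsg.Agent.Lib.Rec.TwoSymSix.TOneSet
import Cfsg.Agent.Lib.Rec.TwoSymSix.HModel

/-!
# The subgroup of order `256` normalizing a side
-/

set_option autoImplicit false
set_option synthInstance.maxSize 4000
set_option linter.unusedSectionVars false

namespace CfsgLib.TwoSymSix

attribute [local instance 10000] List.decidableBAll List.decidableBEx Finset.decidableDforallFinset

open Equiv Subgroup

namespace Cfg

variable {G : Type*} [Group G] [Finite G] {n : ℕ} (D : Cfg G n)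

theorem fix_mem {b : Bool} {k : G} {v : ℕ} (h : k * D.elem b v * k⁻¹ = D.elem b v) :
    k⁻¹ * D.elem b v * (k⁻¹)⁻¹ = D.elem b v := by
  conv_lhs => rw [← h]
  group

/-- The stabiliser of the fixed vector and of the central double transposition modulo it. -/
def H (b : Bool) : Subgroup G where
  carrier := {k | k ∈ normalizer (D.A b : Set G) ∧ k * D.elem b (wv b) * k⁻¹ = D.elem b (wv b) ∧
    (k * D.elem b 4 * k⁻¹ = D.elem b 4 ∨ k * D.elem b 4 * k⁻¹ = D.elem b (4 ^^^ wv b))}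
  one_mem' := ⟨one_mem _, by group, Or.inl (by group)⟩
  mul_mem' := by
    rintro x y ⟨hx, xw, xz⟩ ⟨hy, yw, yz⟩
    have hw16 : wv b < 16 := (by decide : ∀ b, wv b < 16) b
    have xzw : x * D.elem b 4 * x⁻¹ = D.elem b 4 ∧ x * D.elem b (4 ^^^ wv b) * x⁻¹ = D.elem b (4 ^^^ wv b) ∨
        x * D.elem b 4 * x⁻¹ = D.elem b (4 ^^^ wv b) ∧ x * D.elem b (4 ^^^ wv b) * x⁻¹ = D.elem b 4 := by
      have e : x * D.elem b (4 ^^^ wv b) * x⁻¹ = x * D.elem b 4 * x⁻¹ * D.elem b (wv b) := by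
        rw [D.elem_xor (by norm_num) hw16, Cfg.adjust.conj_mul_split, xw]
      rcases xz with h | h
      · exact Or.inl ⟨h, by rw [e, h, ← D.elem_xor (by norm_num) hw16]⟩
      · refine Or.inr ⟨h, ?_⟩
        rw [e, h, D.elem_xor (by norm_num) hw16, mul_assoc, D.A_sq (D.elem_mem hw16), mul_one]
    refine ⟨mul_mem hx hy, D.conj_comp yw xw, ?_⟩
    rcases yz with h | h <;> rcases xzw with ⟨h1, h2⟩ | ⟨h1, h2⟩
    · exact Or.inl (D.conj_comp h h1)
    · exact Or.inr (D.conj_comp h h1)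
    · exact Or.inr (D.conj_comp h h2)
    · exact Or.inl (D.conj_comp h h2)
  inv_mem' := by
    rintro x ⟨hx, xw, xz⟩
    have hw16 : wv b < 16 := (by decide : ∀ b, wv b < 16) b
    refine ⟨inv_mem hx, D.fix_mem xw, ?_⟩
    rcases xz with h | h
    · exact Or.inl (D.fix_mem h)
    · refine Or.inr ?_
      have e : x * D.elem b (4 ^^^ wv b) * x⁻¹ = D.elem b 4 := by
        rw [D.elem_xor (by norm_num) hw16, Cfg.adjust.conj_mul_split, xw, h, D.elem_xor (by norm_num) hw16,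
          mul_assoc, D.A_sq (D.elem_mem hw16), mul_one]
      conv_lhs => rw [← e]
      group

/-- Acting trivially modulo the fixed vector. -/
def TrivMod (b : Bool) (k : G) : Prop :=
  ∀ v ∈ evenList, k * D.elem b v * k⁻¹ = D.elem b v ∨ k * D.elem b v * k⁻¹ = D.elem b (v ^^^ wv b)

theorem w_lt (b : Bool) : wv b < 16 ∧ wv b ∈ evenList := by cases b <;> decide

theorem mem_H_of_trivMod {b : Bool} {k : G} (hk : k ∈ normalizer (D.A b : Set G)) (h : D.TrivMod b k) :
    k ∈ D.H b := by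
  refine ⟨hk, ?_, h 4 (by decide)⟩
  refine (h _ (w_lt b).2).resolve_right fun e => ?_
  rw [Nat.xor_self, D.elem_zero, conj_eq_one_iff] at e
  exact D.elem_w_ne b e

theorem trivMod_u (hN : D.types = nfTypes) {b : Bool} {k : G}
    (h : D.TrivMod b k) : D.TrivMod b (D.uEl b * k * (D.uEl b)⁻¹) := by
  intro v hv
  obtain ⟨h1, h2⟩ := uLin_even b v hv
  obtain ⟨h1', -⟩ := uLin_even b _ h1
  have lt : ∀ v ∈ evenList, v < 16 := by decide
  have e1 : D.uEl b * D.elem b (uLin b (uLin b v)) * (D.uEl b)⁻¹ = D.elem b v := by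
    rw [D.uEl_conj b (lt _ h1'), h2]
  have e2 : D.uEl b * k * (D.uEl b)⁻¹ * D.elem b v * (D.uEl b * k * (D.uEl b)⁻¹)⁻¹ =
      D.uEl b * (k * D.elem b (uLin b (uLin b v)) * k⁻¹) * (D.uEl b)⁻¹ := by
    conv_lhs => rw [← e1]
    group
  rw [e2]
  rcases h _ h1' with h3 | h3
  · exact Or.inl (by rw [h3, e1])
  · refine Or.inr ?_
    rw [h3, D.uEl_conj b (Nat.xor_lt_two_pow (n := 4) (lt _ h1') (w_lt b).1), uLin_w b _ (lt _ h1'), h2]

/-- The action of an element of `H`. -/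
theorem H_params (hN : D.types = nfTypes) {b : Bool} {k : G} (hk : k ∈ D.H b) :
    ∃ it ∈ oddList, ∃ ie ∈ evenList, ∃ iz ∈ [4, 4 ^^^ wv b], k * D.t * k⁻¹ = D.elem b it ∧
      ∀ v < 16, k * D.elem b v * k⁻¹ = D.elem b (lin it ie iz (aImg b iz) v) := by
  obtain ⟨hA, hw, hz⟩ := hk
  obtain ⟨it, hit, hte⟩ := D.odd_image hN hA
  obtain ⟨ie, hie, hee⟩ := D.even_image hN (b := b) hA (v := 2) (by decide)
  obtain ⟨iz, hiz, hze⟩ : ∃ iz ∈ [4, 4 ^^^ wv b], k * D.elem b 4 * k⁻¹ = D.elem b iz := by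
    rcases hz with h | h
    exacts [⟨4, by simp, h⟩, ⟨4 ^^^ wv b, by simp, h⟩]
  have lz : ∀ b, ∀ iz ∈ [4, 4 ^^^ wv b], iz < 16 ∧ aImg b iz < 16 := by decide +kernel
  obtain ⟨l1, l2⟩ := lz b iz hiz
  have ha : k * D.elem b 8 * k⁻¹ = D.elem b (aImg b iz) := by
    cases b
    · rw [show D.elem false 8 = D.elem false 4 * D.elem false 12 by
        rw [← D.elem_xor (by norm_num) (by norm_num)]; rfl, Cfg.adjust.conj_mul_split, hze,
        show D.elem false 12 = D.elem false (wv false) from rfl, hw, ← D.elem_xor l1 (w_lt false).1]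
      rfl
    · exact hw
  have lt : ∀ v ∈ oddList ++ evenList, v < 16 := by decide
  refine ⟨it, hit, ie, hie, iz, hiz, hte, fun v hv => ?_⟩
  exact D.conj_lin (lt it (List.mem_append_left _ hit)) (lt ie (List.mem_append_right _ hie)) l1 l2
    (by rw [D.elem_one]; exact hte) hee hze ha hv

variable {D} {p : Par} {gA gB : G}

/-- The translations. -/
def pick (gA gB : G) : Bool → G
  | false => gA
  | true => gB

theorem Rels.pick_mem (h : D.Rels p gA gB) (i : Bool) :
    pick gA gB i ∈ normalizer (D.P : Set G) ∧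
      pick gA gB i * D.elem false 8 * (pick gA gB i)⁻¹ = D.elem false 8 := by
  cases i
  exacts [⟨h.gens.memA, h.gens.aA⟩, ⟨h.gens.memB, h.gens.aB⟩]

theorem Rels.pick_conj (h : D.Rels p gA gB) (i b : Bool) {v : ℕ} (hv : v < 16) :
    pick gA gB i * D.elem b v * (pick gA gB i)⁻¹ = D.elem b (kLin p.v₁ p.v₂ i b v) := by
  obtain ⟨hm, ha⟩ := h.pick_mem i
  have hz : pick gA gB i * D.elem b 4 * (pick gA gB i)⁻¹ = D.elem b 4 := by
    rw [D.elem_pz]; exact D.conj_pz hm
  have ha' : pick gA gB i * D.elem b 8 * (pick gA gB i)⁻¹ = D.elem b 8 := by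
    rw [D.elem_central b (v := 8) (by decide)]; exact ha
  have ht : ∀ {w : ℕ}, w ∈ zCoord → pick gA gB i * D.t * (pick gA gB i)⁻¹ = D.elem false w →
      pick gA gB i * D.elem b 1 * (pick gA gB i)⁻¹ = D.elem b w := by
    intro w hw e
    rw [D.elem_one, e, D.elem_central b hw]
  have l1 : ∀ v : Bool, 2 ^^^ sel v 12 < 16 ∧ 2 ^^^ sel v 8 < 16 := by decide
  cases i <;> cases b
  · exact D.conj_lin (by norm_num) (l1 p.v₁).1 (by norm_num) (by norm_num) (ht (by decide) h.gens.tA)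
      h.gens.eA₁ hz ha' hv
  · exact D.conj_lin (by norm_num) (by norm_num) (by norm_num) (by norm_num) (ht (by decide) h.gens.tA)
      h.gens.eA₂ hz ha' hv
  · exact D.conj_lin (by norm_num) (by norm_num) (by norm_num) (by norm_num) (ht (by decide) h.gens.tB)
      h.gens.eB₁ hz ha' hv
  · exact D.conj_lin (by norm_num) (l1 p.v₂).2 (by norm_num) (by norm_num) (ht (by decide) h.gens.tB)
      h.gens.eB₂ hz ha' hv

theorem mem_H_of_fix {b : Bool} {k : G} (hA : k ∈ normalizer (D.A b : Set G))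
    (hz : k * D.elem b 4 * k⁻¹ = D.elem b 4) (ha : k * D.elem b 8 * k⁻¹ = D.elem b 8) : k ∈ D.H b := by
  refine ⟨hA, ?_, Or.inl hz⟩
  cases b
  · rw [show D.elem false (wv false) = D.elem false 4 * D.elem false 8 by
      rw [← D.elem_xor (by norm_num) (by norm_num)]; rfl, Cfg.adjust.conj_mul_split, hz, ha]
  · exact ha

theorem TOne_le_H (hN : D.types = nfTypes)
    (hsw : ∀ k ∈ normalizer (D.P : Set G), k ∈ normalizer (D.A false : Set G)) (b : Bool) :
    normalizer (D.P : Set G) ≤ D.H b := by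
  intro k hk
  exact mem_H_of_fix (D.norm_all hk (hsw k hk) b) (by rw [D.elem_pz]; exact D.conj_pz hk)
    (by rw [D.elem_central b (v := 8) (by decide)]; exact D.sw_a hN hsw hk)

/-- The translation conjugated by the element of order three. -/
def tauEl (D : Cfg G n) (gA gB : G) (b : Bool) : G := D.uEl b * pick gA gB b * (D.uEl b)⁻¹

theorem Rels.tau_conj (h : D.Rels p gA gB) (b : Bool) {v : ℕ} (hv : v < 16) :
    D.tauEl gA gB b * D.elem b v * (D.tauEl gA gB b)⁻¹ = D.elem b (tauOf p.v₁ p.v₂ b v) := by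
  have klt : ∀ v₁ v₂ i b, ∀ v < 16, kLin v₁ v₂ i b v < 16 := by decide +kernel
  rw [tauEl, D.uEl_inv]
  refine D.conj_comp (D.conj_comp (D.uEl_conj b hv) (D.uEl_conj b (uLin_lt' b _))) ?_
  refine D.conj_comp (h.pick_conj b b (uLin_lt' b _)) ?_
  exact D.uEl_conj b (klt _ _ _ _ _ (uLin_lt' b _))

theorem Rels.tau_mem (h : D.Rels p gA gB)
    (hsw : ∀ k ∈ normalizer (D.P : Set G), k ∈ normalizer (D.A false : Set G)) (b : Bool) :
    D.tauEl gA gB b ∈ D.H b := by
  obtain ⟨t1, t2⟩ := tau_z p.v₁ p.v₂ b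
  refine ⟨mul_mem (mul_mem (D.uEl_norm b) (D.norm_all (h.pick_mem b).1 (hsw _ (h.pick_mem b).1) b))
    (inv_mem (D.uEl_norm b)), ?_, ?_⟩
  · rw [h.tau_conj b (w_lt b).1, t2]
  · rw [h.tau_conj b (by norm_num)]
    simp only [List.mem_cons, List.not_mem_nil, or_false] at t1
    rcases t1 with e | e <;> rw [e] <;> simp

/-- Any subgroup with the generators contains `H`. -/
theorem Rels.H_le (h : D.Rels p gA gB) (hN : D.types = nfTypes)
    (hsw : ∀ k ∈ normalizer (D.P : Set G), k ∈ normalizer (D.A false : Set G)) (b : Bool) {K : Subgroup G}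
    (hP : D.P ≤ K) (hA : gA ∈ K) (hB : gB ∈ K) (hτ : D.tauEl gA gB b ∈ K) : D.H b ≤ K := by
  intro q hq
  have hle := TOne_le_H hN hsw b
  have mA : gA ∈ D.H b := hle h.gens.memA
  have mB : gB ∈ D.H b := hle h.gens.memB
  have mτ := h.tau_mem hsw b
  have klt : ∀ v₁ v₂ i b, ∀ v < 16, kLin v₁ v₂ i b v < 16 := by decide +kernel
  have hstep : ∀ {k : G} {v w r : ℕ}, k ∈ K ⊓ D.H b → (∃ g ∈ K ⊓ D.H b, g * D.t * g⁻¹ = D.elem b v) →
      k * D.elem b v * k⁻¹ = D.elem b w → w = r → ∃ g ∈ K ⊓ D.H b, g * D.t * g⁻¹ = D.elem b r := by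
    rintro k v w _ hk ⟨g, hg, hge⟩ hkv rfl
    exact ⟨k * g, mul_mem hk hg, by rw [← hkv, ← hge]; group⟩
  have r1 : ∃ g ∈ K ⊓ D.H b, g * D.t * g⁻¹ = D.elem b 1 := ⟨1, one_mem _, by rw [D.elem_one]; group⟩
  have stepA : ∀ {v : ℕ}, v < 16 → (∃ g ∈ K ⊓ D.H b, g * D.t * g⁻¹ = D.elem b v) →
      ∃ g ∈ K ⊓ D.H b, g * D.t * g⁻¹ = D.elem b (kLin p.v₁ p.v₂ false b v) := fun hv hg =>
    hstep (mem_inf.2 ⟨hA, mA⟩) hg (h.pick_conj false b hv) rfl
  have stepB : ∀ {v : ℕ}, v < 16 → (∃ g ∈ K ⊓ D.H b, g * D.t * g⁻¹ = D.elem b v) →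
      ∃ g ∈ K ⊓ D.H b, g * D.t * g⁻¹ = D.elem b (kLin p.v₁ p.v₂ true b v) := fun hv hg =>
    hstep (mem_inf.2 ⟨hB, mB⟩) hg (h.pick_conj true b hv) rfl
  have r4 : ∃ g ∈ K ⊓ D.H b, g * D.t * g⁻¹ = D.elem b (tauOf p.v₁ p.v₂ b 1) :=
    hstep (mem_inf.2 ⟨hτ, mτ⟩) r1 (h.tau_conj b (by norm_num)) rfl
  have tlt : tauOf p.v₁ p.v₂ b 1 < 16 := uLin_lt' b _
  have hall : ∀ it ∈ oddList, ∃ g ∈ K ⊓ D.H b, g * D.t * g⁻¹ = D.elem b it := by
    intro it hit
    have := reach_all p.v₁ p.v₂ b it hit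
    simp only [List.mem_cons, List.not_mem_nil, or_false] at this
    rcases this with rfl | rfl | rfl | rfl | rfl | rfl | rfl | rfl
    exacts [r1, stepA (by norm_num) r1, stepB (by norm_num) r1,
      stepA (klt _ _ _ _ _ (by norm_num)) (stepB (by norm_num) r1), r4, stepA tlt r4, stepB tlt r4,
      stepA (klt _ _ _ _ _ tlt) (stepB tlt r4)]
  obtain ⟨it, hit, hte⟩ := D.odd_image hN hq.1
  obtain ⟨g, hg, hge⟩ := hall it hit
  obtain ⟨hgK, hgH⟩ := mem_inf.1 hg
  have hmem := mul_mem (inv_mem hgH) hq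
  have hfix : g⁻¹ * q * D.t = D.t * (g⁻¹ * q) := by
    calc g⁻¹ * q * D.t = g⁻¹ * (q * D.t * q⁻¹) * q := by group
      _ = g⁻¹ * (g * D.t * g⁻¹) * q := by rw [hte, hge]
      _ = D.t * (g⁻¹ * q) := by group
  have := mul_mem hgK (hP (D.fix_side hmem.1 hfix hmem.2.2))
  rwa [mul_inv_cancel_left] at this

theorem Rels.card_H (h : D.Rels p gA gB) (hN : D.types = nfTypes)
    (hsw : ∀ k ∈ normalizer (D.P : Set G), k ∈ normalizer (D.A false : Set G)) (b : Bool) :
    Nat.card (D.H b) = 256 := by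
  classical
  have hst : (D.H b ⊓ centralizer ({D.t} : Set G) : Subgroup G) = D.P := by
    refine le_antisymm (fun q hq => ?_) (le_inf (le_normalizer.trans (TOne_le_H hN hsw b)) D.P_le)
    obtain ⟨h1, h2⟩ := mem_inf.1 hq
    exact D.fix_side h1.1 (mem_centralizer_singleton_iff.1 h2) h1.2.2
  rw [D.card_orbit, hst, D.card_P]
  have e : Nat.card {y : G // ∃ k ∈ D.H b, k * D.t * k⁻¹ = y} = oddList.toFinset.card := by
    rw [← Nat.card_eq_finsetCard]
    have hall : ∀ it ∈ oddList, ∃ k ∈ D.H b, k * D.t * k⁻¹ = D.elem b it := by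
      intro it hit
      obtain ⟨-, k, hk, hke⟩ := (D.mem_orb hN).1 ((D.sw_orb hN hsw b).2 it hit)
      -- some element of the closure of the generators has the same image
      obtain ⟨g, hg, hge⟩ : ∃ g ∈ D.H b, g * D.t * g⁻¹ = D.elem b it := by
        have klt : ∀ v₁ v₂ i b, ∀ v < 16, kLin v₁ v₂ i b v < 16 := by decide +kernel
        have mA : gA ∈ D.H b := TOne_le_H hN hsw b h.gens.memA
        have mB : gB ∈ D.H b := TOne_le_H hN hsw b h.gens.memB
        have st : ∀ {g : G} {v w : ℕ}, g ∈ D.H b → (∃ k ∈ D.H b, k * D.t * k⁻¹ = D.elem b v) →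
            g * D.elem b v * g⁻¹ = D.elem b w → ∃ k ∈ D.H b, k * D.t * k⁻¹ = D.elem b w := by
          rintro g v w hg ⟨k, hk, hke⟩ e
          exact ⟨g * k, mul_mem hg hk, by rw [← e, ← hke]; group⟩
        have r1 : ∃ g ∈ D.H b, g * D.t * g⁻¹ = D.elem b 1 := ⟨1, one_mem _, by rw [D.elem_one]; group⟩
        have r4 := st (h.tau_mem hsw b) r1 (h.tau_conj b (by norm_num))
        have tlt : tauOf p.v₁ p.v₂ b 1 < 16 := uLin_lt' b _
        have := reach_all p.v₁ p.v₂ b it hit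
        simp only [List.mem_cons, List.not_mem_nil, or_false] at this
        rcases this with rfl | rfl | rfl | rfl | rfl | rfl | rfl | rfl
        exacts [r1, st mA r1 (h.pick_conj false b (by norm_num)), st mB r1 (h.pick_conj true b (by norm_num)),
          st mA (st mB r1 (h.pick_conj true b (by norm_num))) (h.pick_conj false b (klt _ _ _ _ _ (by norm_num))),
          r4, st mA r4 (h.pick_conj false b tlt), st mB r4 (h.pick_conj true b tlt),
          st mA (st mB r4 (h.pick_conj true b tlt)) (h.pick_conj false b (klt _ _ _ _ _ tlt))]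
      exact ⟨g, hg, hge⟩
    refine (Nat.card_congr (Equiv.ofBijective
      (fun v : oddList.toFinset => (⟨D.elem b v.1, hall v.1 (List.mem_toFinset.1 v.2)⟩ :
        {y : G // ∃ k ∈ D.H b, k * D.t * k⁻¹ = y})) ⟨fun x y e => ?_, ?_⟩)).symm
    · exact Subtype.ext (side_el_inj b _ (oddList_lt _ (List.mem_toFinset.1 x.2)) _
        (oddList_lt _ (List.mem_toFinset.1 y.2)) (D.f_inj (congrArg Subtype.val e)))
    · rintro ⟨y, k, hk, rfl⟩
      obtain ⟨it, hit, hte⟩ := D.odd_image hN hk.1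
      exact ⟨⟨it, List.mem_toFinset.2 hit⟩, Subtype.ext hte.symm⟩
  rw [e]; rfl

theorem mem_TOne_of_image (hN : D.types = nfTypes)
    (hsw : ∀ k ∈ normalizer (D.P : Set G), k ∈ normalizer (D.A false : Set G)) {b : Bool} {y : G}
    (hy : y ∈ D.H b) {it : ℕ} (hte : y * D.t * y⁻¹ = D.elem b it) (hit : it ∈ [1, 5, 9, 13]) :
    y ∈ normalizer (D.P : Set G) := by
  obtain ⟨k, hk, hke⟩ := D.exists_norm_coord hN hit
  have hz : it ∈ zCoord := (by decide : ∀ w ∈ [1, 5, 9, 13], w ∈ zCoord) it hit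
  have hmem := mul_mem (inv_mem (TOne_le_H hN hsw b hk)) hy
  have hfix : k⁻¹ * y * D.t = D.t * (k⁻¹ * y) := by
    calc k⁻¹ * y * D.t = k⁻¹ * (y * D.t * y⁻¹) * y := by group
      _ = k⁻¹ * (k * D.t * k⁻¹) * y := by rw [hte, D.elem_central b hz, hke]
      _ = D.t * (k⁻¹ * y) := by group
  have := mul_mem hk (le_normalizer (D.fix_side hmem.1 hfix hmem.2.2))
  rwa [mul_inv_cancel_left] at this

theorem TOne_image (hN : D.types = nfTypes) (b : Bool) {y : G} (hy : y ∈ normalizer (D.P : Set G)) :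
    ∃ it ∈ [1, 5, 9, 13], y * D.t * y⁻¹ = D.elem b it := by
  obtain ⟨w, hw, hwe⟩ := (D.norm_values hN hy).1
  exact ⟨w, hw, hwe.trans (D.elem_central b ((by decide : ∀ w ∈ [1, 5, 9, 13], w ∈ zCoord) w hw)).symm⟩

/-- The conjugates of `t` in the low part. -/
def Low (D : Cfg G n) (b : Bool) : Set G :=
  {y | IsConj D.t y ∧ y ∈ normalizer (D.A b : Set G) ∧ D.TrivMod b y ∧
    ∃ it ∈ lowClass b, y * D.t * y⁻¹ = D.elem b it}

/-- Shifting by the powers of the element of order three. -/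
def shiftU (D : Cfg G n) (b : Bool) : Bool → G
  | false => D.uEl b
  | true => D.uEl b * D.uEl b

theorem shift_spec (hN : D.types = nfTypes) {b : Bool} (j : Bool) {y : G} (hy : y ∈ normalizer (D.A b : Set G))
    (ht : D.TrivMod b y) {it : ℕ} (hit : it < 16) (hte : y * D.t * y⁻¹ = D.elem b it) :
    D.shiftU b j * y * (D.shiftU b j)⁻¹ ∈ normalizer (D.A b : Set G) ∧
      D.TrivMod b (D.shiftU b j * y * (D.shiftU b j)⁻¹) ∧
      D.shiftU b j * y * (D.shiftU b j)⁻¹ * D.t * (D.shiftU b j * y * (D.shiftU b j)⁻¹)⁻¹ =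
        D.elem b (if j then uLin b (uLin b it) else uLin b it) := by
  have one : ∀ {y : G} {it : ℕ}, y ∈ normalizer (D.A b : Set G) → D.TrivMod b y → it < 16 →
      y * D.t * y⁻¹ = D.elem b it →
      D.uEl b * y * (D.uEl b)⁻¹ ∈ normalizer (D.A b : Set G) ∧ D.TrivMod b (D.uEl b * y * (D.uEl b)⁻¹) ∧
        D.uEl b * y * (D.uEl b)⁻¹ * D.t * (D.uEl b * y * (D.uEl b)⁻¹)⁻¹ = D.elem b (uLin b it) := by
    intro y it hy ht hit hte
    refine ⟨mul_mem (mul_mem (D.uEl_norm b) hy) (inv_mem (D.uEl_norm b)), D.trivMod_u hN ht, ?_⟩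
    rw [← D.uEl_conj b hit, ← hte]
    have hu := D.uEl_comm b
    calc D.uEl b * y * (D.uEl b)⁻¹ * D.t * (D.uEl b * y * (D.uEl b)⁻¹)⁻¹
        = D.uEl b * (y * ((D.uEl b)⁻¹ * (D.t * D.uEl b)) * y⁻¹) * (D.uEl b)⁻¹ := by group
      _ = _ := by rw [← hu]; group
  obtain ⟨a1, a2, a3⟩ := one hy ht hit hte
  cases j
  · exact ⟨a1, a2, a3⟩
  · obtain ⟨b1, b2, b3⟩ := one a1 a2 (uLin_lt' b it) a3
    have e : D.shiftU b true * y * (D.shiftU b true)⁻¹ =
        D.uEl b * (D.uEl b * y * (D.uEl b)⁻¹) * (D.uEl b)⁻¹ := by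
      show D.uEl b * D.uEl b * y * (D.uEl b * D.uEl b)⁻¹ = _
      group
    rw [e]
    exact ⟨b1, b2, b3⟩

/-- The count of the conjugates of `t` in `H`. -/
theorem cnt_H (hN : D.types = nfTypes)
    (hsw : ∀ k ∈ normalizer (D.P : Set G), k ∈ normalizer (D.A false : Set G)) (b : Bool) :
    cnt D.t (D.H b : Set G) = cnt D.t (normalizer (D.P : Set G) : Set G) + 2 * Nat.card (D.Low b) := by
  classical
  let T : Set G := {y | IsConj D.t y ∧ y ∈ normalizer (D.P : Set G)}
  let U : Set G := {y | IsConj D.t y ∧ y ∈ D.H b}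
  have hT : cnt D.t (normalizer (D.P : Set G) : Set G) = Nat.card T :=
    Nat.card_congr (Equiv.subtypeEquivRight fun y => by simp [T, and_comm])
  have hU : cnt D.t (D.H b : Set G) = Nat.card U :=
    Nat.card_congr (Equiv.subtypeEquivRight fun y => by simp [U, and_comm])
  have lt4 : ∀ b, ∀ it ∈ lowClass b, it < 16 := by decide
  let F : T ⊕ (Bool × D.Low b) → U := fun x => match x with
    | .inl y => ⟨y.1, y.2.1, TOne_le_H hN hsw b y.2.2⟩
    | .inr (j, y) => ⟨D.shiftU b j * y.1 * (D.shiftU b j)⁻¹, by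
        obtain ⟨hc, hA, ht, it, hit, hte⟩ := y.2
        obtain ⟨a1, a2, -⟩ := shift_spec hN j hA ht (lt4 b it hit) hte
        exact ⟨(D.isConj_conj _ _).2 hc, mem_H_of_trivMod D a1 a2⟩⟩
  have himg : ∀ (j : Bool) (y : D.Low b), ∃ it ∈ lowClass b,
      D.shiftU b j * y.1 * (D.shiftU b j)⁻¹ * D.t * (D.shiftU b j * y.1 * (D.shiftU b j)⁻¹)⁻¹ =
        D.elem b (if j then uLin b (uLin b it) else uLin b it) := by
    intro j y
    obtain ⟨hc, hA, ht, it, hit, hte⟩ := y.2
    exact ⟨it, hit, (shift_spec hN j hA ht (lt4 b it hit) hte).2.2⟩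
  have hne : ∀ (j : Bool) (y : D.Low b), D.shiftU b j * y.1 * (D.shiftU b j)⁻¹ ∉ normalizer (D.P : Set G) := by
    intro j y hm
    obtain ⟨it, hit, e⟩ := himg j y
    obtain ⟨w, hw, hwe⟩ := TOne_image hN b hm
    rw [e] at hwe
    have hw16 : w < 16 := (by decide : ∀ w ∈ [1, 5, 9, 13], w < 16) w hw
    obtain ⟨l1, l2, l3, l4, -⟩ := low_shift b it hit
    cases j
    · exact l2 (side_el_inj b _ (uLin_lt' b _) w hw16 (D.f_inj hwe) ▸ hw)
    · exact l4 (side_el_inj b _ (uLin_lt' b _) w hw16 (D.f_inj hwe) ▸ hw)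
  have hbij : Function.Bijective F := by
    constructor
    · rintro (x | ⟨i, x⟩) (y | ⟨j, y⟩) h <;> have e := congrArg Subtype.val h
      · exact congrArg Sum.inl (Subtype.ext e)
      · simp only [F] at e; exact (hne j y (e ▸ x.2.2)).elim
      · simp only [F] at e; exact (hne i x (e.symm ▸ y.2.2)).elim
      · simp only [F] at e
        obtain ⟨a, ha, ea⟩ := himg i x
        obtain ⟨c, hc, ec⟩ := himg j y
        rw [e, ec] at ea
        obtain ⟨-, -, -, -, ha'⟩ := low_shift b a ha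
        obtain ⟨-, -, -, -, hc'⟩ := low_shift b c hc
        cases i <;> cases j
        · obtain rfl : x = y := Subtype.ext (by simpa using e)
          rfl
        · exact absurd (side_el_inj b _ (uLin_lt' b _) _ (uLin_lt' b _) (D.f_inj ea)).symm (ha' c hc)
        · exact absurd (side_el_inj b _ (uLin_lt' b _) _ (uLin_lt' b _) (D.f_inj ea)) (hc' a ha)
        · obtain rfl : x = y := Subtype.ext (by simpa using e)
          rfl
    · rintro ⟨y, hc, hy⟩
      obtain ⟨it, hit, ie, hie, iz, hiz, hte, hact⟩ := D.H_params hN hy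
      by_cases hz : it ∈ [1, 5, 9, 13]
      · exact ⟨.inl ⟨y, hc, mem_TOne_of_image hN hsw hy hte hz⟩, rfl⟩
      · have hit16 := oddList_lt it hit
        have h1 : lin it ie iz (aImg b iz) it = 1 := by
          refine side_el_inj b _ (lin_lt hit16 ((by decide : ∀ v ∈ evenList, v < 16) ie hie)
            ((by decide : ∀ b, ∀ v ∈ [4, 4 ^^^ wv b], v < 16) b iz hiz)
            ((by decide : ∀ b, ∀ v ∈ [4, 4 ^^^ wv b], aImg b v < 16) b iz hiz) _) 1 (by norm_num) (D.f_inj ?_)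
          show D.elem b _ = D.elem b 1
          rw [← hact it hit16, ← hte, D.elem_one]
          calc y * (y * D.t * y⁻¹) * y⁻¹ = (y * y) * D.t * (y * y)⁻¹ := by group
            _ = D.t := by rw [(D.invol_of_isConj hc).1]; group
        have htm : D.TrivMod b y := by
          intro v hv
          have h2 := ((hParam b it hit ie hie iz hiz h1).resolve_left hz) v hv
          rw [hact v ((by decide : ∀ v ∈ evenList, v < 16) v hv)]
          simp only [List.mem_cons, List.not_mem_nil, or_false] at h2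
          rcases h2 with e | e <;> rw [e] <;> simp
        have key : ∀ i : Bool, (if i then uLin b (uLin b it) else uLin b it) ∈ lowClass b →
            D.shiftU b i * y * (D.shiftU b i)⁻¹ ∈ D.Low b := by
          intro i hi
          obtain ⟨a1, a2, a3⟩ := shift_spec hN i hy.1 htm hit16 hte
          exact ⟨(D.isConj_conj _ _).2 hc, a1, a2, _, hi, a3⟩
        have u3 : D.uEl b * (D.uEl b * D.uEl b) = 1 := by
          rw [← D.uEl_inv, mul_inv_cancel]
        rcases (high_split b it hit).resolve_left hz with h | h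
        · refine ⟨.inr (true, ⟨_, key false h⟩), Subtype.ext ?_⟩
          show D.uEl b * D.uEl b * (D.uEl b * y * (D.uEl b)⁻¹) * (D.uEl b * D.uEl b)⁻¹ = y
          rw [← D.uEl_inv]; group
        · refine ⟨.inr (false, ⟨_, key true h⟩), Subtype.ext ?_⟩
          show D.uEl b * (D.uEl b * D.uEl b * y * (D.uEl b * D.uEl b)⁻¹) * (D.uEl b)⁻¹ = y
          rw [← D.uEl_inv]; group
  rw [hU, ← Nat.card_congr (Equiv.ofBijective F hbij), Nat.card_sum, Nat.card_prod, hT]
  simp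

/-- Conjugating a coordinate by an element of the model. -/
theorem Rels.W_conj (h : D.Rels p gA gB) (x y : ℕ) :
    D.W gA gB x * D.W gA gB y * (D.W gA gB x)⁻¹ = D.W gA gB y * D.zc (p.br x y) := by
  have hlt := p.beta_lt h.c_lt h.qa_lt h.qb_lt
  rw [mul_inv_eq_iff_eq_mul, h.W_mul, mul_assoc, ← D.zc_commute (h.W_zcent x), ← mul_assoc, h.W_mul,
    mul_assoc, Par.br, ← D.zc_mul (hlt y x) (xor_lt_four (hlt x y) (hlt y x)), Nat.xor_comm y x]
  congr 2
  rw [Nat.xor_comm (p.beta x y), ← Nat.xor_assoc, Nat.xor_self, Nat.zero_xor]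

theorem br_gens (p : Par) (x : ℕ) :
    p.br x 1 = sel (x.testBit 3) 1 ^^^ sel (x.testBit 4) 3 ∧
      p.br x 2 = sel (x.testBit 2) 2 ^^^ sel (x.testBit 3) (sel p.v₁ 3) ∧
      p.br x 4 = sel (x.testBit 4) (sel p.v₂ 1) ^^^ sel (x.testBit 1) 2 := by
  have b1 : ∀ i < 5, Nat.testBit 1 i = decide (i = 0) := by decide
  have b2 : ∀ i < 5, Nat.testBit 2 i = decide (i = 1) := by decide
  have b4 : ∀ i < 5, Nat.testBit 4 i = decide (i = 2) := by decide
  refine ⟨?_, ?_, ?_⟩
  · simp [Par.br, Par.beta, Par.cr, sel, b1 0, b1 1, b1 2, b1 3, b1 4]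
  · simp [Par.br, Par.beta, Par.cr, sel, b2 0, b2 1, b2 2, b2 3, b2 4]
  · simp [Par.br, Par.beta, Par.cr, sel, b4 0, b4 1, b4 2, b4 3, b4 4]

theorem zc_coord : ∀ b, ∀ a c : Bool, ∀ d : Bool,
    (side b).el 1 * zcM (sel a 1 ^^^ sel c 3) = (side b).el (1 ^^^ sel a 8 ^^^ sel c 12) ∧
    (side b).el 2 * zcM (sel a 2 ^^^ sel c (sel d 3)) = (side b).el (2 ^^^ (sel a 4 ^^^ sel c (sel d 12))) ∧
    (side b).el 2 * zcM (sel c (sel d 1) ^^^ sel a 2) = (side b).el (2 ^^^ (sel a 4 ^^^ sel c (sel d 8))) := by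
  decide +kernel

theorem Rels.W_images (h : D.Rels p gA gB) (b : Bool) (x : ℕ) :
    D.W gA gB x * D.t * (D.W gA gB x)⁻¹ = D.elem b (1 ^^^ sel (x.testBit 3) 8 ^^^ sel (x.testBit 4) 12) ∧
      D.W gA gB x * D.elem b 2 * (D.W gA gB x)⁻¹ = D.elem b (2 ^^^ (match b with
        | false => sel (x.testBit 2) 4 ^^^ sel (x.testBit 3) (sel p.v₁ 12)
        | true => sel (x.testBit 1) 4 ^^^ sel (x.testBit 4) (sel p.v₂ 8))) := by
  obtain ⟨e1, e2, e4⟩ := br_gens p x
  have w1 : D.W gA gB 1 = D.elem b 1 := by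
    rw [D.elem_one]
    have b1 : ∀ i < 5, Nat.testBit 1 i = decide (i = 0) := by decide
    simp [W, pw, b1 0, b1 1, b1 2, b1 3, b1 4]
  constructor
  · rw [← D.elem_one b, ← w1, h.W_conj, e1, w1, elem, elem, zc, ← map_mul,
      (zc_coord b _ _ false).1]
  · cases b
    · rw [← W_two.1, h.W_conj, e2, W_two.1, elem, elem, zc, ← map_mul, (zc_coord false _ _ _).2.1]
    · rw [← W_two.2, h.W_conj, e4, W_two.2, elem, elem, zc, ← map_mul, (zc_coord true _ _ _).2.2]

theorem Rels.Low_eq (h : D.Rels p gA gB) (hN : D.types = nfTypes)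
    (hsw : ∀ k ∈ normalizer (D.P : Set G), k ∈ normalizer (D.A false : Set G)) (b : Bool) :
    Nat.card (D.Low b) = 4 * num (D.conjSet gA gB) (lowOf b) := by
  rw [← h.cnt_img hN, cnt]
  refine Nat.card_congr (Equiv.subtypeEquivRight fun y => ?_)
  have hzc : ∀ (c : ℕ) {v : ℕ}, v < 16 → ∀ x, D.W gA gB x * D.zc c * D.elem b v * (D.W gA gB x * D.zc c)⁻¹ =
      D.W gA gB x * D.elem b v * (D.W gA gB x)⁻¹ := by
    intro c v hv x
    have e := D.zc_comm c (D.A_le b (D.elem_mem hv))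
    calc D.W gA gB x * D.zc c * D.elem b v * (D.W gA gB x * D.zc c)⁻¹
        = D.W gA gB x * (D.zc c * D.elem b v) * ((D.zc c)⁻¹ * (D.W gA gB x)⁻¹) := by group
      _ = _ := by rw [← e]; group
  have hval : ∀ (c : ℕ) x, D.W gA gB x * D.zc c * D.t * (D.W gA gB x * D.zc c)⁻¹ =
      D.elem b (1 ^^^ sel (x.testBit 3) 8 ^^^ sel (x.testBit 4) 12) := by
    intro c x
    rw [← (h.W_images b x).1, ← D.elem_one b]
    exact hzc c (by norm_num) x
  have l1 : ∀ a c : Bool, 1 ^^^ sel a 8 ^^^ sel c 12 < 16 := by decide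
  constructor
  · rintro ⟨hc, hA, htm, it, hit, hte⟩
    refine ⟨?_, hc⟩
    have hz : ∀ b, ∀ it ∈ lowClass b, it ∈ [1, 5, 9, 13] ∧ it < 16 := by decide
    obtain ⟨hz1, hz2⟩ := hz b it hit
    obtain ⟨x, hx, c, hc4, rfl⟩ := h.W_exists hN (mem_TOne_of_image hN hsw (mem_H_of_trivMod D hA htm) hte hz1)
    refine ⟨x, hx, c, hc4, (lowOf_iff b p.v₁ p.v₂ x hx).2 ⟨?_, ?_⟩, rfl⟩
    · rw [hval] at hte
      rwa [side_el_inj b _ (l1 _ _) it hz2 (D.f_inj hte)]
    · have h2 := htm 2 (by decide)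
      rw [hzc c (by norm_num) x, (h.W_images b x).2] at h2
      have l2 : ∀ a c d : Bool, 2 ^^^ (sel a 4 ^^^ sel c (sel d 12)) < 16 ∧ 2 ^^^ (sel a 4 ^^^ sel c (sel d 8)) < 16 := by
        decide
      have lw : ∀ b, 2 ^^^ wv b < 16 := by decide
      rcases h2 with e | e
      · cases b <;>
          · rw [side_el_inj _ _ (by first | exact (l2 _ _ _).1 | exact (l2 _ _ _).2) 2 (by norm_num) (D.f_inj e)]
            simp
      · cases b <;>
          · rw [side_el_inj _ _ (by first | exact (l2 _ _ _).1 | exact (l2 _ _ _).2) _ (lw _) (D.f_inj e)]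
            simp
  · rintro ⟨⟨x, hx, c, hc4, hf, rfl⟩, hc⟩
    obtain ⟨h1, h2⟩ := (lowOf_iff b p.v₁ p.v₂ x hx).1 hf
    have hm : D.W gA gB x * D.zc c ∈ normalizer (D.P : Set G) :=
      mul_mem (h.W_mem x) (le_normalizer (D.zc_mem_P c))
    have hA := D.norm_all hm (hsw _ hm) b
    refine ⟨hc, hA, fun v hv => ?_, _, h1, hval c x⟩
    have hv16 : v < 16 := (by decide : ∀ v ∈ evenList, v < 16) v hv
    generalize hie : (2 ^^^ (match b with
      | false => sel (x.testBit 2) 4 ^^^ sel (x.testBit 3) (sel p.v₁ 12)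
      | true => sel (x.testBit 1) 4 ^^^ sel (x.testBit 4) (sel p.v₂ 8))) = ie at h2
    have hie16 : ie < 16 := (by decide : ∀ b, ∀ v ∈ [2, 2 ^^^ wv b], v < 16) b ie h2
    have hit16 := l1 (x.testBit 3) (x.testBit 4)
    have e := D.conj_lin (b := b) (k := D.W gA gB x * D.zc c) hit16 hie16 (a₃ := 4) (by norm_num) (a₄ := 8)
      (by norm_num) (by rw [D.elem_one]; exact hval c x)
      (by rw [hzc c (by norm_num) x, (h.W_images b x).2, hie])
      (by rw [D.elem_pz]; exact D.conj_pz hm)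
      (by rw [D.elem_central b (v := 8) (by decide)]; exact D.sw_a hN hsw hm) hv16
    have e' : ∀ b, ∀ it < 16, ∀ ie ∈ [2, 2 ^^^ wv b], ∀ v ∈ evenList, lin it ie 4 8 v ∈ [v, v ^^^ wv b] := by
      decide +kernel
    rw [e]
    have := e' b _ hit16 ie h2 v hv
    simp only [List.mem_cons, List.not_mem_nil, or_false] at this
    rcases this with q | q <;> rw [q] <;> simp

/-- The number of conjugates of `t` in `H`. -/
theorem Rels.cnt_H_val (h : D.Rels p gA gB) (hN : D.types = nfTypes)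
    (hsw : ∀ k ∈ normalizer (D.P : Set G), k ∈ normalizer (D.A false : Set G)) (b : Bool) :
    cnt D.t (D.H b : Set G) =
      4 * ((D.conjSet gA gB).length + 2 * num (D.conjSet gA gB) (lowOf b)) := by
  rw [cnt_H hN hsw b, h.cnt_TOne hN, h.Low_eq hN hsw b]
  ring

/-- Divisibility by `1024` read off in `H`. -/
theorem Rels.dvd_1024_iff (h : D.Rels p gA gB) (hN : D.types = nfTypes)
    (hsw : ∀ k ∈ normalizer (D.P : Set G), k ∈ normalizer (D.A false : Set G)) (b : Bool) :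
    1024 ∣ Nat.card G ↔ ((D.conjSet gA gB).length + 2 * num (D.conjSet gA gB) (lowOf b)) % 8 = 0 := by
  obtain ⟨m, hm, hc⟩ := D.card_cen
  have hs := sign_iff D.hno D.tt (D.H b)
  rw [h.card_H hN hsw b, hc, h.cnt_H_val hN hsw b,
    show (4 : ℕ) * 256 = 128 * 8 from rfl] at hs
  rw [show (1024 : ℕ) = 128 * 8 from rfl, hs]
  generalize (D.conjSet gA gB).length + 2 * num (D.conjSet gA gB) (lowOf b) = k
  rw [show 32 * m * (4 * k) = 128 * (m * k) by ring, Nat.mul_dvd_mul_iff_left (by norm_num : 0 < 128),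
    ← Nat.dvd_iff_mod_eq_zero]
  have hco : Nat.Coprime 8 m := by
    rw [show (8 : ℕ) = 2 ^ 3 from rfl]
    exact Nat.Coprime.pow_left 3 (Nat.prime_two.coprime_iff_not_dvd.2 fun h2 =>
      Nat.not_even_iff_odd.2 hm (even_iff_two_dvd.2 h2))
  exact hco.dvd_mul_left

/-- The unbalanced case is impossible. -/
theorem Rels.not_caseB (h : D.Rels p gA gB) (hN : D.types = nfTypes)
    (hsw : ∀ k ∈ normalizer (D.P : Set G), k ∈ normalizer (D.A false : Set G)) :
    caseB (D.conjSet gA gB) ≠ true := by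
  intro hB
  have h0 := h.dvd_1024_iff hN hsw false
  have h1 := h.dvd_1024_iff hN hsw true
  have h2 := h0.symm.trans h1
  simp only [caseB, bne_iff_ne, ne_eq] at hB
  apply hB
  rw [Bool.eq_iff_iff]
  simpa [lowOf] using h2

/-- The blocks of the action on the conjugates of `t` of the first side. -/
def inBlock (v : ℕ) : Bool := [1, 3, 7, 9].contains v

/-- Preserving the two blocks. -/
def Blocks (D : Cfg G n) (k : G) : Prop :=
  ∀ x ∈ oddList, ∀ y ∈ oddList, ∀ x' ∈ oddList, ∀ y' ∈ oddList,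
    k * D.elem false x * k⁻¹ = D.elem false x' → k * D.elem false y * k⁻¹ = D.elem false y' →
      ((inBlock x' == inBlock y') = (inBlock x == inBlock y))

theorem blocks_lin {k : G} {φ : ℕ → ℕ} (hφ : ∀ v < 16, k * D.elem false v * k⁻¹ = D.elem false (φ v))
    (hk : ∀ x ∈ oddList, ∀ y ∈ oddList, φ x < 16 ∧ (inBlock (φ x) == inBlock (φ y)) = (inBlock x == inBlock y)) :
    D.Blocks k := by
  intro x hx y hy x' hx' y' hy' ex ey
  rw [hφ x (oddList_lt x hx)] at ex
  rw [hφ y (oddList_lt y hy)] at ey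
  rw [← side_el_inj false _ (hk x hx y hy).1 x' (oddList_lt x' hx') (D.f_inj ex),
    ← side_el_inj false _ (hk y hy x hx).1 y' (oddList_lt y' hy') (D.f_inj ey)]
  exact (hk x hx y hy).2

theorem odd_coord (hN : D.types = nfTypes) {k : G} (hk : k ∈ normalizer (D.A false : Set G)) {x : ℕ}
    (hx : x ∈ oddList) : ∃ x' ∈ oddList, k * D.elem false x * k⁻¹ = D.elem false x' := by
  obtain ⟨w, hw, hwe⟩ := D.exists_elem
    ((mem_normalizer_iff.1 hk _).1 (D.elem_mem (b := false) (oddList_lt x hx)))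
  refine ⟨w, (oddList_iff w hw).2 ?_, hwe.symm⟩
  rw [← D.isConj_elem hN (b := false) hw, hwe, D.isConj_conj, D.isConj_elem hN (oddList_lt x hx)]
  exact (oddList_iff x (oddList_lt x hx)).1 hx

/-- The block-preserving part of `H`. -/
def blockSub (D : Cfg G n) (hN : D.types = nfTypes) : Subgroup G where
  carrier := {k | k ∈ D.H false ∧ D.Blocks k}
  one_mem' := ⟨one_mem _, blocks_lin (D := D) (φ := id) (fun v _ => by simp)
    fun x hx y _ => ⟨oddList_lt x hx, rfl⟩⟩
  mul_mem' := by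
    rintro k l ⟨hk, bk⟩ ⟨hl, bl⟩
    refine ⟨mul_mem hk hl, fun x hx y hy x' hx' y' hy' ex ey => ?_⟩
    obtain ⟨a, ha, ea⟩ := odd_coord hN hl.1 hx
    obtain ⟨c, hc, ec⟩ := odd_coord hN hl.1 hy
    rw [← bl x hx y hy a ha c hc ea ec]
    refine bk a ha c hc x' hx' y' hy' ?_ ?_
    · rw [← ex, ← ea]; group
    · rw [← ey, ← ec]; group
  inv_mem' := by
    rintro k ⟨hk, bk⟩
    refine ⟨inv_mem hk, fun x hx y hy x' hx' y' hy' ex ey => ?_⟩
    symm
    refine bk x' hx' y' hy' x hx y hy ?_ ?_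
    · rw [← ex]; group
    · rw [← ey]; group

theorem block_gens : ∀ v₂ : Bool, ∀ x ∈ oddList, ∀ y ∈ oddList,
    ((inBlock (kLin true v₂ false false x) == inBlock (kLin true v₂ false false y)) = (inBlock x == inBlock y)) ∧
    ((inBlock (kLin true v₂ true false x) == inBlock (kLin true v₂ true false y)) = (inBlock x == inBlock y)) ∧
    ((inBlock (tauOf true v₂ false x) == inBlock (tauOf true v₂ false y)) = (inBlock x == inBlock y)) ∧
    ((inBlock (sLin x) == inBlock (sLin y)) = (inBlock x == inBlock y)) := by decide +kernel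

theorem Rels.H_blocks (h : D.Rels p gA gB) (hN : D.types = nfTypes)
    (hsw : ∀ k ∈ normalizer (D.P : Set G), k ∈ normalizer (D.A false : Set G)) (hv : p.v₁ = true) :
    D.H false ≤ D.blockSub hN := by
  have klt : ∀ v₁ v₂ i b, ∀ v < 16, kLin v₁ v₂ i b v < 16 := by decide +kernel
  have hg : ∀ i, pick gA gB i ∈ D.blockSub hN := fun i =>
    ⟨TOne_le_H hN hsw false (h.pick_mem i).1, blocks_lin (fun v hv' => h.pick_conj i false hv') fun x hx y hy => by
      refine ⟨klt _ _ _ _ x (oddList_lt x hx), ?_⟩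
      rw [hv]
      cases i
      exacts [(block_gens _ x hx y hy).1, (block_gens _ x hx y hy).2.1]⟩
  refine h.H_le hN hsw false ?_ (hg false) (hg true) ⟨h.tau_mem hsw false, blocks_lin
    (fun v hv' => h.tau_conj false hv') fun x hx y hy => ⟨uLin_lt' _ _, by rw [hv]; exact (block_gens _ x hx y hy).2.2.1⟩⟩
  intro k hk
  refine ⟨TOne_le_H hN hsw false (le_normalizer hk), ?_⟩
  obtain ⟨⟨i, d⟩, hd, rfl⟩ := hk
  have hact : ∀ v < 16, D.f (i, d) * D.elem false v * (D.f (i, d))⁻¹ =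
      D.elem false (if d ∈ (side false).eList then v else sLin v) := by
    intro v hv'
    rw [elem, elem, ← map_inv, ← map_mul, ← map_mul, ← dList_act false d hd v hv']
    congr 1
    exact Prod.ext (by simp [mul_inv_cancel_comm]) (by simp)
  refine blocks_lin hact fun x hx y hy => ?_
  split
  · exact ⟨oddList_lt x hx, rfl⟩
  · exact ⟨(uLin_lt false x (oddList_lt x hx)).2, (block_gens p.v₂ x hx y hy).2.2.2⟩

/-- The case of two shears is impossible. -/
theorem Rels.not_caseC (h : D.Rels p gA gB) (hN : D.types = nfTypes)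
    (hsw : ∀ k ∈ normalizer (D.P : Set G), k ∈ normalizer (D.A false : Set G)) :
    caseC p (D.conjSet gA gB) ≠ true := by
  classical
  intro hC
  simp only [caseC, Bool.and_eq_true, beq_iff_eq] at hC
  obtain ⟨⟨⟨hv₁, -⟩, hlow⟩, hbit⟩ := hC
  have hle := h.H_blocks hN hsw hv₁
  choose cf hcf hce using fun k : D.H false => D.odd_image hN k.2.1
  have h1 : 1 ∈ oddList := by decide
  let χ : D.H false →* ℤˣ := MonoidHom.mk' (fun k => if inBlock (cf k) then 1 else -1) fun k l => by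
    have e : k.1 * D.elem false (cf l) * k.1⁻¹ = D.elem false (cf (k * l)) := by
      rw [← hce, ← hce]
      show _ = k.1 * l.1 * D.t * (k.1 * l.1)⁻¹
      group
    have e' : k.1 * D.elem false 1 * k.1⁻¹ = D.elem false (cf k) := by rw [D.elem_one]; exact hce k
    have := (hle k.2).2 (cf l) (hcf l) 1 h1 (cf (k * l)) (hcf _) (cf k) (hcf k) e e'
    rw [show inBlock 1 = true from rfl] at this
    cases hk : inBlock (cf k) <;> cases hl : inBlock (cf l) <;> cases hkl : inBlock (cf (k * l)) <;>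
      simp [hk, hl, hkl] at this ⊢
  have hT : cnt D.t (D.H false : Set G) = cnt D.t (normalizer (D.P : Set G) : Set G) := by
    rw [h.cnt_H_val hN hsw false, h.cnt_TOne hN, show lowOf false = lowA from rfl, hlow, Nat.mul_zero, Nat.add_zero]
  have hsub : ∀ y, y ∈ D.H false → IsConj D.t y → y ∈ normalizer (D.P : Set G) := by
    intro y hy hI
    let f : {y : G // y ∈ (normalizer (D.P : Set G) : Set G) ∧ IsConj D.t y} →
        {y : G // y ∈ (D.H false : Set G) ∧ IsConj D.t y} :=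
      fun z => ⟨z.1, TOne_le_H hN hsw false z.2.1, z.2.2⟩
    obtain ⟨z, hz⟩ := ((Nat.bijective_iff_injective_and_card f).2
      ⟨fun a b e => Subtype.ext (congrArg Subtype.val e :), hT.symm⟩).2 ⟨y, hy, hI⟩
    have e : z.1 = y := congrArg Subtype.val hz
    exact e ▸ z.2.1
  have hval : ∀ x c, D.W gA gB x * D.zc c * D.t * (D.W gA gB x * D.zc c)⁻¹ =
      D.elem false (1 ^^^ sel (x.testBit 3) 8 ^^^ sel (x.testBit 4) 12) := by
    intro x c
    rw [← (h.W_images false x).1]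
    calc D.W gA gB x * D.zc c * D.t * (D.W gA gB x * D.zc c)⁻¹
        = D.W gA gB x * (D.zc c * D.t) * ((D.zc c)⁻¹ * (D.W gA gB x)⁻¹) := by group
      _ = _ := by rw [← D.zc_comm c D.t_mem_P]; group
  have key : ∀ a c : Bool, inBlock (1 ^^^ sel a 8 ^^^ sel c 12) = !c ∧ 1 ^^^ sel a 8 ^^^ sel c 12 < 16 := by decide
  have hfib : cnt D.t {y | ∃ hy : y ∈ D.H false, χ ⟨y, hy⟩ = -1} = cnt D.t (D.img gA gB (·.testBit 4)) := by
    refine Nat.card_congr (Equiv.subtypeEquivRight fun y => ?_)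
    constructor
    · rintro ⟨⟨hy, hv⟩, hI⟩
      obtain ⟨x, hx, c, hc, rfl⟩ := h.W_exists hN (hsub y hy hI)
      refine ⟨⟨x, hx, c, hc, ?_, rfl⟩, hI⟩
      have e := hce ⟨_, hy⟩
      rw [hval] at e
      have e2 := side_el_inj false _ (key _ _).2 _ (oddList_lt _ (hcf _)) (D.f_inj e)
      by_contra hb
      simp only [χ, MonoidHom.mk'_apply, ← e2, (key _ _).1, Bool.eq_false_iff.2 hb, Bool.not_false, if_true] at hv
      exact absurd hv (by decide)
    · rintro ⟨⟨x, hx, c, hc, hf, rfl⟩, hI⟩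
      have hy : D.W gA gB x * D.zc c ∈ D.H false :=
        TOne_le_H hN hsw false (mul_mem (h.W_mem x) (le_normalizer (D.zc_mem_P c)))
      refine ⟨⟨hy, ?_⟩, hI⟩
      have e := hce ⟨_, hy⟩
      rw [hval] at e
      have e2 := side_el_inj false _ (key _ _).2 _ (oddList_lt _ (hcf _)) (D.f_inj e)
      simp [χ, ← e2, (key _ _).1, hf]
  have ht := transfer_dvd D.hno D.orderOf_t (D.H false) χ
  obtain ⟨m, hm, hc⟩ := D.card_cen
  rw [hfib, h.cnt_img hN, hbit, h.card_H hN hsw false, hc, show 32 * m * (4 * 2) = 256 * m by ring,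
    mul_comm 2 256, Nat.mul_dvd_mul_iff_left (by norm_num : 0 < 256)] at ht
  exact Nat.not_even_iff_odd.2 hm (even_iff_two_dvd.2 ht)

end Cfg

end CfsgLib.TwoSymSix
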