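import Cfsg.Agent.Lib.Rec.TwoSymSix.Local
import Cfsg.Agent.Lib.Rec.TwoSymSix.ModelLin

/-!
# The two elementary subgroups of order sixteen of the Sylow subgroup of the centralizer
-/

set_option autoImplicit false
set_option linter.unusedSectionVars false

namespace CfsgLib.TwoSymSix

attribute [local instance 10000] List.decidableBAll List.decidableBEx Finset.decidableDforallFinset

open Equiv

/-- The two sides. -/
def side : Bool → Side
  | false => sideA
  | true => sideB

theorem side_good : ∀ b, (side b).Good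
  | false => sideA_good
  | true => sideB_good

/-- The elementary subgroup of order sixteen of a side in the model. -/
def aSub (b : Bool) : Subgroup M6 where
  carrier := {p | p.2 ∈ (side b).eList}
  one_mem' := List.mem_cons_self ..
  mul_mem' hp hq := ((side_good b).mul _ hp _ hq).1
  inv_mem' {p} hp := by
    show p.2⁻¹ ∈ (side b).eList
    rwa [inv_eq_of_mul_eq_one_right ((side_good b).mul _ hp _ hp).2.2]

theorem aSub_le (b : Bool) : aSub b ≤ pSub := fun p hp => (side_good b).sub p.2 hp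

theorem card_aSub (b : Bool) : Nat.card (aSub b) = 16 := by
  have e : aSub b = Subgroup.comap (MonoidHom.snd (Multiplicative (ZMod 2)) _) (aSub b |>.map (MonoidHom.snd _ _)) := by
    ext p
    constructor
    · exact fun h => ⟨p, h, rfl⟩
    · rintro ⟨q, hq, hqe⟩
      show p.2 ∈ (side b).eList
      rw [show p.2 = q.2 from hqe.symm]
      exact hq
  have h1 : Nat.card (aSub b) =
      (Finset.univ.product (side b).eList.toFinset : Finset M6).card := by
    rw [← Nat.card_eq_finsetCard]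
    exact Nat.card_congr (Equiv.subtypeEquivRight fun p => by
      simp only [Finset.product_eq_sprod, Finset.mem_product, Finset.mem_univ, true_and, List.mem_toFinset]
      exact Iff.rfl)
  rw [h1, Finset.product_eq_sprod, Finset.card_product, List.toFinset_card_of_nodup (side_good b).nodup]
  rfl

theorem side_of_commute' : ∀ p ∈ pFin, ∀ q ∈ pFin, p * p = 1 → q * q = 1 → p * q = q * p →
    p.2 ∈ sideA.eList ∧ q.2 ∈ sideA.eList ∨ p.2 ∈ sideB.eList ∧ q.2 ∈ sideB.eList := by
  intro p hp q hq h1 h2 h3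
  exact side_of_commute _ (mem_pFin.1 hp) _ (mem_pFin.1 hq) (congrArg Prod.snd h1)
    (congrArg Prod.snd h2) (congrArg Prod.snd h3)

namespace Cfg

variable {G : Type*} [Group G] [Finite G] {n : ℕ} (D : Cfg G n)

open Subgroup

/-- An elementary subgroup of order sixteen of `P`. -/
def A (b : Bool) : Subgroup G := (aSub b).map D.f

theorem A_le (b : Bool) : D.A b ≤ D.P := map_mono (aSub_le b)

theorem f_mem_A {b : Bool} {p : M6} (hp : p.2 ∈ (side b).eList) : D.f p ∈ D.A b :=
  mem_map_of_mem _ hp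

theorem card_A (b : Bool) : Nat.card (D.A b) = 16 := by
  rw [A, Nat.card_congr (equivMapOfInjective (aSub b) D.f D.f_inj).toEquiv.symm, card_aSub]

theorem t_mem_A (b : Bool) : D.t ∈ D.A b := D.f_tau ▸ D.f_mem_A (List.mem_cons_self ..)

theorem A_sq {b : Bool} {g : G} (hg : g ∈ D.A b) : g * g = 1 := by
  obtain ⟨p, hp, rfl⟩ := hg
  rw [← map_mul, ← map_one D.f]
  exact congrArg D.f (Prod.ext (mult_self _) ((side_good b).mul _ hp _ hp).2.2)

theorem A_comm {b : Bool} {g h : G} (hg : g ∈ D.A b) (hh : h ∈ D.A b) : g * h = h * g := by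
  obtain ⟨p, hp, rfl⟩ := hg
  obtain ⟨q, hq, rfl⟩ := hh
  rw [← map_mul, ← map_mul]
  exact congrArg D.f (Prod.ext (mul_comm _ _) ((side_good b).mul _ hp _ hq).2.1)

theorem mem_A_iff {b : Bool} {p : M6} : D.f p ∈ D.A b ↔ p.2 ∈ (side b).eList :=
  ⟨fun ⟨_, hq, e⟩ => D.f_inj e ▸ hq, fun h => D.f_mem_A h⟩

/-- An element centralizing the elementary subgroup of order eight lies in the big one. -/
theorem mem_A_of_comm {b : Bool} {g : G} (hC : g * D.t = D.t * g)
    (h : ∀ q ∈ (side b).eList, g * D.f (1, q) = D.f (1, q) * g) : g ∈ D.A b := by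
  obtain ⟨⟨i, π⟩, hx⟩ := (D.mem_cen).1 (mem_centralizer_singleton_iff.2 hC)
  have key : ∀ q ∈ (side b).eList, π * D.j q = D.j q * π := by
    intro q hq
    have h1 := h q hq
    rw [← hx, f_apply, ← map_mul, ← map_mul] at h1
    exact congrArg Prod.snd (D.el_inj h1)
  have hπ : π ∈ (side b).eList.map D.j := by
    cases b
    · exact D.facts.cenA π (key _ (by decide +kernel)) (key _ (by decide +kernel)) (key _ (by decide +kernel))
    · exact D.facts.cenB π (key _ (by decide +kernel)) (key _ (by decide +kernel)) (key _ (by decide +kernel))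
  obtain ⟨d, hd, hde⟩ := List.mem_map.1 hπ
  rw [← hx, ← hde]
  exact D.f_mem_A (p := (i, d)) hd

/-- The only elementary subgroups of order sixteen of `P`. -/
theorem image_cases {b : Bool} {k : G} (hk : ∀ g ∈ D.A b, k * g * k⁻¹ ∈ D.P) :
    ∃ c : Bool, (D.A b).map (MulAut.conj k).toMonoidHom = D.A c := by
  set B := (D.A b).map (MulAut.conj k).toMonoidHom with hB
  have hBP : B ≤ D.P := by
    rintro _ ⟨g, hg, rfl⟩
    exact hk g hg
  have hmem : ∀ x ∈ B, ∃ p ∈ pFin, D.f p = x ∧ p * p = 1 ∧ ∀ y ∈ B, ∀ q ∈ pFin, D.f q = y → p * q = q * p := by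
    intro x hx
    obtain ⟨g, hg, hgx⟩ := hx
    obtain ⟨p, hp, hpe⟩ := hBP ⟨g, hg, hgx⟩
    refine ⟨p, mem_pFin.2 hp, hpe, D.f_inj ?_, ?_⟩
    · rw [map_mul, hpe, ← hgx, ← map_mul, D.A_sq hg, map_one, map_one]
    · rintro y ⟨g', hg', hgy⟩ q _ hq
      apply D.f_inj
      rw [map_mul, map_mul, hpe, hq, ← hgx, ← hgy, ← map_mul, ← map_mul, D.A_comm hg hg']
  have hone : B ≤ D.A false ∨ B ≤ D.A true := by
    by_contra hno
    rw [not_or] at hno
    obtain ⟨h1, h2⟩ := hno
    obtain ⟨x, hx, hx'⟩ := SetLike.not_le_iff_exists.1 h1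
    obtain ⟨y, hy, hy'⟩ := SetLike.not_le_iff_exists.1 h2
    obtain ⟨p, hp, rfl, hp2, hpc⟩ := hmem x hx
    obtain ⟨q, hq, rfl, hq2, -⟩ := hmem y hy
    rcases side_of_commute' p hp q hq hp2 hq2 (hpc _ hy q hq rfl) with h | h
    · exact hx' (D.f_mem_A h.1)
    · exact hy' (D.f_mem_A h.2)
  have hc : Nat.card B = 16 := by
    rw [hB, Nat.card_congr (equivMapOfInjective (D.A b) _ (MulAut.conj k).injective).toEquiv.symm, D.card_A]
  rcases hone with h | h
  · exact ⟨false, eq_of_le_of_card_ge h (by rw [hc, D.card_A])⟩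
  · exact ⟨true, eq_of_le_of_card_ge h (by rw [hc, D.card_A])⟩

/-- The two sides are not conjugate in the centralizer. -/
theorem not_conj_sides {b : Bool} {k : G} (hC : k * D.t = D.t * k)
    (h : ∀ g ∈ D.A b, k * g * k⁻¹ ∈ D.A (!b)) : False := by
  wlog hb : b = false generalizing b k
  · obtain rfl : b = true := by simpa using hb
    have hinj : Function.Injective (fun g : D.A true => (⟨_, h g g.2⟩ : D.A false)) := fun x y e => by
      simpa using congrArg Subtype.val e
    refine this (b := false) (k := k⁻¹) (Commute.inv_left hC).eq (fun g hg => ?_) rfl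
    rw [inv_inv]
    obtain ⟨⟨x, hx⟩, hxe⟩ := ((Nat.bijective_iff_injective_and_card _).2
      ⟨hinj, by rw [D.card_A, D.card_A]⟩).2 ⟨g, hg⟩
    have : k * x * k⁻¹ = g := congrArg Subtype.val hxe
    rw [← this]
    show k⁻¹ * (k * x * k⁻¹) * k ∈ D.A true
    rw [show k⁻¹ * (k * x * k⁻¹) * k = x by group]
    exact hx
  subst hb
  obtain ⟨⟨i, π⟩, hx⟩ := (D.mem_cen).1 (mem_centralizer_singleton_iff.2 hC)
  have key : ∀ q ∈ sideA.eList, π * D.j q * π⁻¹ ∈ sideB.eList.map D.j := by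
    intro q hq
    obtain ⟨p, hp, hpe⟩ := h _ (D.f_mem_A (b := false) (p := (1, q)) hq)
    rw [← hx, f_apply, f_apply, ← map_inv, ← map_mul, ← map_mul] at hpe
    have h2 := congrArg Prod.snd (D.el_inj hpe)
    simp only [Prod.snd_mul, Prod.snd_inv] at h2
    exact List.mem_map.2 ⟨p.2, hp, h2⟩
  exact D.facts.nonconj π (key _ (by decide +kernel)) (key _ (by decide +kernel)) (key _ (by decide +kernel))

/-- The element of order three of a side. -/
def uEl (b : Bool) : G := D.f (1, (side b).u)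

theorem uEl_comm (b : Bool) : D.uEl b * D.t = D.t * D.uEl b := D.el_comm _

theorem normalizer_of_forall {H : Subgroup G} {k : G} (h : ∀ g ∈ H, k * g * k⁻¹ ∈ H) :
    k ∈ normalizer (H : Set G) := by
  have hinj : Function.Injective (fun g : H => (⟨_, h g g.2⟩ : H)) := fun x y e => by
    simpa using congrArg Subtype.val e
  rw [mem_normalizer_iff]
  refine fun g => ⟨fun hg => h g hg, fun hg => ?_⟩
  obtain ⟨⟨x, hx⟩, hxe⟩ := (Finite.injective_iff_surjective.1 hinj) ⟨_, hg⟩
  have : x = g := by simpa using congrArg Subtype.val hxe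
  exact this ▸ hx

theorem uEl_norm (b : Bool) : D.uEl b ∈ normalizer (D.A b : Set G) := by
  refine normalizer_of_forall fun g hg => ?_
  obtain ⟨p, hp, rfl⟩ := hg
  rw [uEl, ← map_inv, ← map_mul, ← map_mul]
  exact D.f_mem_A ((side_good b).u_nor _ hp)

theorem P_norm (b : Bool) : D.P ≤ normalizer (D.A b : Set G) := by
  rintro _ ⟨d, hd, rfl⟩
  refine normalizer_of_forall fun g hg => ?_
  obtain ⟨p, hp, rfl⟩ := hg
  rw [← map_inv, ← map_mul, ← map_mul]
  exact D.f_mem_A (p_norm_side b d hd p.2 hp)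
where
  p_norm_side : ∀ b, ∀ d : M6, d ∈ pSub → ∀ q ∈ (side b).eList, d.2 * q * d.2⁻¹ ∈ (side b).eList := by
    intro b d hd q hq
    exact norm_dList b d.2 hd q hq
  norm_dList : ∀ b, ∀ d ∈ dList, ∀ q ∈ (side b).eList, d * q * d⁻¹ ∈ (side b).eList := by
    decide +kernel

/-- The order of the normalizer of a side in the centralizer. -/
theorem card_norm_cen (b : Bool) :
    Nat.card (normalizer (D.A b : Set G) ⊓ centralizer ({D.t} : Set G) : Subgroup G) = 96 := by
  obtain ⟨x₁, x₂, x₃, h1, h2, h3, hgen, hcard⟩ : ∃ x₁ x₂ x₃ : Perm (Fin 6), x₁ ∈ (side b).eList ∧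
      x₂ ∈ (side b).eList ∧ x₃ ∈ (side b).eList ∧
      (∀ p ∈ (side b).eList, ∃ i j k : Bool, p = (bif i then x₁ else 1) * (bif j then x₂ else 1) * (bif k then x₃ else 1)) ∧
      Nat.card {π : Perm (Fin n) // π * D.j x₁ * π⁻¹ ∈ (side b).eList.map D.j ∧
        π * D.j x₂ * π⁻¹ ∈ (side b).eList.map D.j ∧ π * D.j x₃ * π⁻¹ ∈ (side b).eList.map D.j} = 48 := by
    cases b
    · exact ⟨pe, pa, pz, by decide +kernel, by decide +kernel, by decide +kernel, by decide +kernel, D.facts.norCardA⟩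
    · exact ⟨pf, pa, pz, by decide +kernel, by decide +kernel, by decide +kernel, by decide +kernel, D.facts.norCardB⟩
  rw [show (96 : ℕ) = Nat.card (Multiplicative (ZMod 2)) * 48 by
    rw [Nat.card_eq_fintype_card, Fintype.card_multiplicative, ZMod.card], ← hcard, ← Nat.card_prod]
  refine (Nat.card_congr (Equiv.ofBijective (fun x : Multiplicative (ZMod 2) × _ =>
    (⟨D.el (x.1, x.2.1), ?_⟩ : (normalizer (D.A b : Set G) ⊓ centralizer ({D.t} : Set G) : Subgroup G)))
    ⟨fun x y e => ?_, fun g => ?_⟩)).symm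
  · refine mem_inf.2 ⟨normalizer_of_forall fun g hg => ?_, D.mem_cen.2 ⟨_, rfl⟩⟩
    obtain ⟨p, hp, rfl⟩ := hg
    obtain ⟨i, j, k, hpq⟩ := hgen p.2 hp
    have hm : x.2.1 * D.j p.2 * x.2.1⁻¹ ∈ (side b).eList.map D.j := by
      have hmul : ∀ {u v : Perm (Fin n)}, u ∈ (side b).eList.map D.j → v ∈ (side b).eList.map D.j →
          u * v ∈ (side b).eList.map D.j := by
        intro u v hu hv
        obtain ⟨u', hu', rfl⟩ := List.mem_map.1 hu
        obtain ⟨v', hv', rfl⟩ := List.mem_map.1 hv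
        exact List.mem_map.2 ⟨_, ((side_good b).mul _ hu' _ hv').1, map_mul ..⟩
      have hb : ∀ (c : Bool) (q : Perm (Fin 6)), x.2.1 * D.j q * x.2.1⁻¹ ∈ (side b).eList.map D.j →
          x.2.1 * D.j (bif c then q else 1) * x.2.1⁻¹ ∈ (side b).eList.map D.j := by
        intro c q hq
        cases c
        · rw [cond_false, map_one, mul_one, mul_inv_cancel]
          exact List.mem_map.2 ⟨1, List.mem_cons_self .., map_one _⟩
        · exact hq
      have h' := hmul (hmul (hb i _ x.2.2.1) (hb j _ x.2.2.2.1)) (hb k _ x.2.2.2.2)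
      rw [hpq, map_mul, map_mul]
      convert h' using 1
      group
    obtain ⟨q, hq, hqe⟩ := List.mem_map.1 hm
    have e : D.el (x.1, x.2.1) * D.f p * (D.el (x.1, x.2.1))⁻¹ = D.f (p.1, q) := by
      rw [f_apply, f_apply, ← map_inv, ← map_mul, ← map_mul]
      congr 1
      exact Prod.ext (mul_inv_cancel_comm _ _) hqe.symm
    rw [e]
    exact D.f_mem_A hq
  · have := D.el_inj (congrArg Subtype.val e)
    exact Prod.ext (congrArg Prod.fst this :) (Subtype.ext (congrArg Prod.snd this :))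
  · obtain ⟨hgN, hgC⟩ := mem_inf.1 g.2
    obtain ⟨⟨i, π⟩, hx⟩ := D.mem_cen.1 hgC
    have key : ∀ q ∈ (side b).eList, π * D.j q * π⁻¹ ∈ (side b).eList.map D.j := by
      intro q hq
      obtain ⟨p, hp, hpe⟩ := (mem_normalizer_iff.1 hgN _).1 (D.f_mem_A (p := (1, q)) hq)
      rw [← hx, f_apply, f_apply, ← map_inv, ← map_mul, ← map_mul] at hpe
      have h2 := congrArg Prod.snd (D.el_inj hpe)
      simp only [Prod.snd_mul, Prod.snd_inv] at h2
      exact List.mem_map.2 ⟨p.2, hp, h2⟩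
    exact ⟨⟨i, π, key _ h1, key _ h2, key _ h3⟩, Subtype.ext hx⟩

/-- Orbit and stabiliser for the conjugation action on `t`. -/
theorem card_orbit (K : Subgroup G) :
    Nat.card K = Nat.card (K ⊓ centralizer ({D.t} : Set G) : Subgroup G) *
      Nat.card {y : G // ∃ k ∈ K, k * D.t * k⁻¹ = y} := by
  classical
  let p : K → {y : G // ∃ k ∈ K, k * D.t * k⁻¹ = y} := fun k => ⟨k.1 * D.t * k.1⁻¹, k.1, k.2, rfl⟩
  have := Fintype.ofFinite {y : G // ∃ k ∈ K, k * D.t * k⁻¹ = y}
  rw [← Nat.card_congr (Equiv.sigmaFiberEquiv p), Nat.card_sigma,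
    Nat.card_eq_fintype_card (α := {y : G // ∃ k ∈ K, k * D.t * k⁻¹ = y}),
    Finset.sum_congr rfl (g := fun _ => Nat.card (K ⊓ centralizer ({D.t} : Set G) : Subgroup G)) fun y _ => ?_,
    Finset.sum_const, Finset.card_univ, smul_eq_mul, mul_comm]
  obtain ⟨k₀, hk₀, hy⟩ := y.2
  refine Nat.card_congr ⟨fun k => ⟨k₀⁻¹ * k.1.1, mem_inf.2 ⟨mul_mem (inv_mem hk₀) k.1.2, ?_⟩⟩,
    fun c => ⟨⟨k₀ * c.1, mul_mem hk₀ (mem_inf.1 c.2).1⟩, ?_⟩, fun k => ?_, fun c => ?_⟩
  · have hk : k.1.1 * D.t * k.1.1⁻¹ = y.1 := congrArg Subtype.val k.2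
    rw [mem_centralizer_singleton_iff]
    calc k₀⁻¹ * k.1.1 * D.t = k₀⁻¹ * (k.1.1 * D.t * k.1.1⁻¹) * k.1.1 := by group
      _ = k₀⁻¹ * (k₀ * D.t * k₀⁻¹) * k.1.1 := by rw [hk, hy]
      _ = D.t * (k₀⁻¹ * k.1.1) := by group
  · refine Subtype.ext ?_
    have hc := mem_centralizer_singleton_iff.1 (mem_inf.1 c.2).2
    show k₀ * c.1 * D.t * (k₀ * c.1)⁻¹ = y.1
    rw [← hy, mul_assoc k₀ c.1, hc]
    group
  · exact Subtype.ext (Subtype.ext (by simp))
  · exact Subtype.ext (by simp)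

end Cfg

end CfsgLib.TwoSymSix
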