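import Cfsg.Agent.Lib.Rec.TwoSymSix.ModelCoord

/-!
# The conjugates of the involution in the centre of the Sylow subgroup of its centralizer
-/

set_option autoImplicit false
set_option linter.unusedSectionVars false

namespace CfsgLib.TwoSymSix

attribute [local instance 10000] List.decidableBAll List.decidableBEx Finset.decidableDforallFinset

open Equiv Subgroup

namespace Cfg

variable {G : Type*} [Group G] [Finite G] {n : ℕ} (D : Cfg G n)

/-- The element of a side with given coordinates. -/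
def elem (b : Bool) (v : ℕ) : G := D.f ((side b).el v)

theorem elem_mem {b : Bool} {v : ℕ} (hv : v < 16) : D.elem b v ∈ D.A b := D.f_mem_A (side_el_mem b v hv)

theorem exists_elem {b : Bool} {g : G} (hg : g ∈ D.A b) : ∃ v < 16, D.elem b v = g := by
  obtain ⟨⟨i, p⟩, hp, rfl⟩ := hg
  obtain ⟨v, hv, he⟩ := side_el_surj b p hp i
  exact ⟨v, List.mem_range.1 hv, congrArg D.f he⟩

theorem elem_zero (b : Bool) : D.elem b 0 = 1 := by
  rw [elem, ← map_one D.f]
  congr 1

theorem elem_one (b : Bool) : D.elem b 1 = D.t := by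
  rw [elem, ← D.f_tau]; congr 1 <;> (revert b; decide +kernel)

/-- A linear map in coordinates, as a product. -/
theorem elem_lin {b : Bool} {a₁ a₂ a₃ a₄ : ℕ} (h₁ : a₁ < 16) (h₂ : a₂ < 16) (h₃ : a₃ < 16) (h₄ : a₄ < 16)
    (v : ℕ) : D.elem b (lin a₁ a₂ a₃ a₄ v) =
      (if v.testBit 0 then D.elem b a₁ else 1) * (if v.testBit 1 then D.elem b a₂ else 1) *
        ((if v.testBit 2 then D.elem b a₃ else 1) * (if v.testBit 3 then D.elem b a₄ else 1)) := by
  have hmul : ∀ x < 16, ∀ y < 16, D.elem b (x ^^^ y) = D.elem b x * D.elem b y := fun x hx y hy => by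
    rw [elem, elem, elem, ← map_mul, side_el_mul b x hx y hy]
  have hx : ∀ (c : Bool) (a : ℕ), a < 16 → (if c then a else 0) < 16 ∧
      D.elem b (if c then a else 0) = if c then D.elem b a else 1 := by
    intro c a ha
    cases c
    · exact ⟨by norm_num, by simpa using D.elem_zero b⟩
    · exact ⟨by simpa using ha, by simp⟩
  obtain ⟨l1, e1⟩ := hx (v.testBit 0) a₁ h₁
  obtain ⟨l2, e2⟩ := hx (v.testBit 1) a₂ h₂
  obtain ⟨l3, e3⟩ := hx (v.testBit 2) a₃ h₃
  obtain ⟨l4, e4⟩ := hx (v.testBit 3) a₄ h₄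
  unfold lin
  rw [hmul _ (Nat.xor_lt_two_pow (n := 4) l1 l2) _ (Nat.xor_lt_two_pow (n := 4) l3 l4), hmul _ l1 _ l2,
    hmul _ l3 _ l4, e1, e2, e3, e4]

/-- Conjugation acts on a side by the linear map of the images of the basis. -/
theorem conj_lin {b : Bool} {k : G} {a₁ a₂ a₃ a₄ : ℕ} (h₁ : a₁ < 16) (h₂ : a₂ < 16) (h₃ : a₃ < 16)
    (h₄ : a₄ < 16) (e₁ : k * D.elem b 1 * k⁻¹ = D.elem b a₁) (e₂ : k * D.elem b 2 * k⁻¹ = D.elem b a₂)
    (e₃ : k * D.elem b 4 * k⁻¹ = D.elem b a₃) (e₄ : k * D.elem b 8 * k⁻¹ = D.elem b a₄) {v : ℕ} (hv : v < 16) :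
    k * D.elem b v * k⁻¹ = D.elem b (lin a₁ a₂ a₃ a₄ v) := by
  have hb : ∀ (c : Bool) (x y : G), k * x * k⁻¹ = y → k * (if c then x else 1) * k⁻¹ = if c then y else 1 := by
    intro c x y h; cases c <;> simp [h]
  rw [D.elem_lin h₁ h₂ h₃ h₄, ← hb _ _ _ e₁, ← hb _ _ _ e₂, ← hb _ _ _ e₃, ← hb _ _ _ e₄]
  conv_lhs => rw [← lin_id v hv, D.elem_lin (by norm_num) (by norm_num) (by norm_num) (by norm_num)]
  group

theorem isConj_conj (k y : G) : IsConj D.t (k * y * k⁻¹) ↔ IsConj D.t y := by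
  have h : IsConj y (k * y * k⁻¹) := isConj_iff.2 ⟨k, rfl⟩
  exact ⟨fun e => e.trans h.symm, fun e => e.trans h⟩

theorem ind_elem {b : Bool} {v : ℕ} (hv : v < 16) :
    IsConj D.t (D.elem b v) ↔ indOn b D.types v = true :=
  D.ind_spec (aSub_le b (side_el_mem b v hv))

set_option maxHeartbeats 2000000 in
/-- Three central conjugates cannot be permuted on a suitable side. -/
theorem not_threeCases {b : Bool} (hx : (b, D.types) ∈ threeCases) : False := by
  obtain ⟨v₁, hv₁, hne, hI⟩ : ∃ v₁ ∈ zCoord, v₁ ≠ 1 ∧ indOn b D.types v₁ = true := by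
    have key : ∀ c ∈ threeCases, ∃ v₁ ∈ zCoord, v₁ ≠ 1 ∧ indOn c.1 c.2 v₁ = true := by decide +kernel
    exact key _ hx
  have hy := (D.ind_elem (zCoord_mem b v₁ hv₁).2).2 hI
  obtain ⟨k, hk, hkt⟩ := D.exists_norm_f (zCoord_mem b v₁ hv₁).1 hy
  have hmov : k * D.t * k⁻¹ ≠ D.t := by
    rw [hkt, ← D.elem_one b]
    exact fun h => hne (side_el_inj b _ (zCoord_mem b v₁ hv₁).2 _ (by norm_num) (D.f_inj h))
  -- the values of central conjugates
  have hcen : ∀ g ∈ normalizer (D.P : Set G), ∀ v ∈ zCoord,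
      ∃ w ∈ zCoord, g * D.elem b v * g⁻¹ = D.elem b w := by
    intro g hg v hv
    obtain ⟨q, hq, hqe⟩ := D.conj_zList hg (zCoord_mem b v hv).1
    obtain ⟨w, hw, rfl⟩ := zList_coord b q hq
    exact ⟨w, hw, hqe⟩
  have hthree : ∀ u ∈ zCoord, ∀ v ∈ zCoord, ∀ w ∈ zCoord, ∀ r ∈ zCoord,
      indOn b D.types u = true → indOn b D.types v = true → indOn b D.types w = true →
        indOn b D.types r = true → u ≠ v → u ≠ w → v ≠ w → r = u ∨ r = v ∨ r = w := by
    have key : ∀ c ∈ threeCases, ∀ u ∈ zCoord, ∀ v ∈ zCoord, ∀ w ∈ zCoord, ∀ r ∈ zCoord,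
        indOn c.1 c.2 u = true → indOn c.1 c.2 v = true → indOn c.1 c.2 w = true →
          indOn c.1 c.2 r = true → u ≠ v → u ≠ w → v ≠ w → r = u ∨ r = v ∨ r = w := by decide +kernel
    exact key _ hx
  have h1lt : (1 : ℕ) ∈ zCoord := by decide
  have hI1 : indOn b D.types 1 = true :=
    (D.ind_elem (by norm_num)).1 (by rw [D.elem_one])
  -- the orbit of `t` under such an element
  have horb : ∀ g ∈ normalizer (D.P : Set G), g * D.t * g⁻¹ ≠ D.t →
      g * (g * D.t * g⁻¹) * g⁻¹ ≠ D.t ∧ g * (g * (g * D.t * g⁻¹) * g⁻¹) * g⁻¹ = D.t := by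
    intro g hg hgt
    obtain ⟨p, hp, hpe⟩ := hcen g hg 1 h1lt
    rw [D.elem_one] at hpe
    obtain ⟨q, hq, hqe⟩ := hcen g hg p hp
    obtain ⟨r, hr, hre⟩ := hcen g hg q hq
    have hIp : indOn b D.types p = true := (D.ind_elem (zCoord_mem b p hp).2).1
      (by rw [← hpe, D.isConj_conj])
    have hIq : indOn b D.types q = true := (D.ind_elem (zCoord_mem b q hq).2).1
      (by rw [← hqe, D.isConj_conj, D.ind_elem (zCoord_mem b p hp).2]; exact hIp)
    have hIr : indOn b D.types r = true := (D.ind_elem (zCoord_mem b r hr).2).1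
      (by rw [← hre, D.isConj_conj, D.ind_elem (zCoord_mem b q hq).2]; exact hIq)
    have hinj : ∀ x y : G, g * x * g⁻¹ = g * y * g⁻¹ → x = y := fun x y h =>
      (MulAut.conj g).injective (by simpa using h)
    have hp1 : (1 : ℕ) ≠ p := fun h => hgt (by rw [hpe, ← h, D.elem_one])
    have hpq : p ≠ q := fun h => hgt (hinj _ _ (by
      rw [hpe, hqe, h]))
    -- no swap
    have hns : g * (g * D.t * g⁻¹) * g⁻¹ ≠ D.t := by
      intro hsw
      have h2 : g * g ∈ D.P := D.mem_P_of_fix (mul_mem hg hg) (by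
        calc g * g * D.t * (g * g)⁻¹ = g * (g * D.t * g⁻¹) * g⁻¹ := by group
          _ = D.t := hsw)
      obtain ⟨w, hw, hwI, hw1, hw2⟩ : ∃ w ∈ zCoord, indOn b D.types w = true ∧ w ≠ 1 ∧ w ≠ p := by
        have key : ∀ c ∈ threeCases, ∀ p ∈ zCoord, ∃ w ∈ zCoord, indOn c.1 c.2 w = true ∧ w ≠ 1 ∧ w ≠ p := by
          decide +kernel
        exact key _ hx p hp
      obtain ⟨w', hw', hwe⟩ := hcen g hg w hw
      have hIw' : indOn b D.types w' = true := (D.ind_elem (zCoord_mem b w' hw').2).1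
        (by rw [← hwe, D.isConj_conj, D.ind_elem (zCoord_mem b w hw).2]; exact hwI)
      rcases hthree 1 h1lt p hp w hw w' hw' hI1 hIp hwI hIw' hp1 (Ne.symm hw1) (Ne.symm hw2) with
        h | h | h
      · rw [h, D.elem_one, ← hsw, hpe] at hwe
        exact hw2 (side_el_inj b _ (zCoord_mem b w hw).2 _ (zCoord_mem b p hp).2
          (D.f_inj (hinj _ _ hwe)))
      · rw [h, ← hpe] at hwe
        exact hw1 (side_el_inj b _ (zCoord_mem b w hw).2 _ (by norm_num)
          (D.f_inj ((hinj _ _ hwe).trans (D.elem_one b).symm)))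
      · rw [h] at hwe
        have h3 := D.act_trivial hg (zCoord_mem b w hw).1 ((D.ind_elem (zCoord_mem b w hw).2).2 hwI) hwe
          (q := tau) (by decide)
        rw [D.f_tau] at h3
        exact hgt h3
    refine ⟨hns, ?_⟩
    rw [hpe, hqe] at hns
    have hq1 : (1 : ℕ) ≠ q := fun h => hns (by rw [← h, D.elem_one])
    rw [hpe, hqe, hre]
    rcases hthree 1 h1lt p hp q hq r hr hI1 hIp hIq hIr hp1 hq1 hpq with h | h | h
    · rw [h, D.elem_one]
    · rw [h, ← hpe] at hre
      have h1 := hinj _ _ hre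
      exact absurd h1 hns
    · rw [h, ← hqe] at hre
      exact absurd (hinj _ _ hre) fun e => hpq (side_el_inj b _ (zCoord_mem b p hp).2 _ (zCoord_mem b q hq).2
        (D.f_inj ((hqe.symm.trans e).symm)))
  -- an element fixing the side
  obtain ⟨g, hgP, hgA, hgt⟩ : ∃ g : G, g ∈ normalizer (D.P : Set G) ∧ g ∈ normalizer (D.A b : Set G) ∧
      g * D.t * g⁻¹ ≠ D.t := by
    obtain ⟨c, hc⟩ := D.image_cases (b := b) (k := k) fun g hg => (mem_normalizer_iff.1 hk g).1 (D.A_le b hg)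
    by_cases hcb : c = b
    · refine ⟨k, hk, normalizer_of_forall fun g hg => ?_, hmov⟩
      rw [← hcb, ← hc]
      exact ⟨g, hcb ▸ hg, rfl⟩
    · refine ⟨k * k, mul_mem hk hk, normalizer_of_forall fun g hg => ?_, ?_⟩
      · obtain ⟨c', hc'⟩ := D.image_cases (b := c) (k := k)
          fun g hg => (mem_normalizer_iff.1 hk g).1 (D.A_le c hg)
        have hcc : c' ≠ c := by
          intro h
          rw [h] at hc'
          have e := Subgroup.map_injective (MulAut.conj k).injective (hc'.trans hc.symm)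
          have h2 : D.t ∈ D.A b := D.t_mem_A b
          apply hcb
          cases b <;> cases c
          · rfl
          · exfalso
            have h4 : D.f (1, pf) ∈ D.A true := D.f_mem_A (by decide +kernel)
            have h3 : D.f (1, pf) ∈ D.A false := e ▸ h4
            exact absurd (D.mem_A_iff.1 h3) (by decide +kernel)
          · exfalso
            have h4 : D.f (1, pe) ∈ D.A false := D.f_mem_A (by decide +kernel)
            have h3 : D.f (1, pe) ∈ D.A true := e ▸ h4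
            exact absurd (D.mem_A_iff.1 h3) (by decide +kernel)
          · rfl
        have hcb' : c' = b := by cases b <;> cases c <;> cases c' <;> simp_all
        rw [← hcb', ← hc']
        refine ⟨k * g * k⁻¹, hc ▸ ⟨g, hg, rfl⟩, ?_⟩
        simp only [MulEquiv.coe_toMonoidHom, MulAut.conj_apply]
        group
      · have := (horb k hk hmov).1
        rwa [show k * k * D.t * (k * k)⁻¹ = k * (k * D.t * k⁻¹) * k⁻¹ by group]
  -- the linear map
  obtain ⟨it, hit, ite⟩ := hcen g hgP 1 h1lt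
  obtain ⟨ia, hia, iae⟩ := hcen g hgP 8 (by decide)
  obtain ⟨ie, hie, iee⟩ := D.exists_elem ((mem_normalizer_iff.1 hgA _).1 (D.elem_mem (b := b) (v := 2) (by norm_num)))
  have ize : g * D.elem b 4 * g⁻¹ = D.elem b 4 := by
    have e : D.elem b 4 = D.f (1, pz) := by rw [elem]; congr 1 <;> (revert b; decide +kernel)
    rw [e]; exact D.conj_pz hgP
  have hit16 := (zCoord_mem b it hit).2
  have hia16 := (zCoord_mem b ia hia).2
  have hconj : ∀ {v : ℕ}, v < 16 → g * D.elem b v * g⁻¹ = D.elem b (lin it ie 4 ia v) := fun {v} hv =>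
    D.conj_lin hit16 hie (by norm_num) hia16 ite iee.symm ize iae hv
  have hinj : ∀ v < 16, ∀ w < 16, lin it ie 4 ia v = lin it ie 4 ia w → v = w := by
    intro v hv w hw e
    have h1 : g * D.elem b v * g⁻¹ = g * D.elem b w * g⁻¹ := by rw [hconj hv, hconj hw, e]
    exact side_el_inj b v hv w hw (D.f_inj
      (show D.elem b v = D.elem b w from (MulAut.conj g).injective (by simpa using h1)))
  have hgood : goodMap b D.types (lin it ie 4 ia) = true := by
    have hl : ∀ v, lin it ie 4 ia v < 16 := lin_lt hit16 hie (by norm_num) hia16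
    simp only [goodMap, Bool.and_eq_true, List.all_eq_true, List.mem_range, beq_iff_eq, bne_iff_ne,
      decide_eq_true_eq]
    refine ⟨⟨⟨fun v hv => ?_, ?_⟩, ?_⟩, ?_⟩
    · rw [Bool.eq_iff_iff, ← D.ind_elem (hl v), ← D.ind_elem hv, ← hconj hv, D.isConj_conj]
    · exact (List.nodup_range).map_on fun v hv w hw e =>
        hinj v (List.mem_range.1 hv) w (List.mem_range.1 hw) e
    · apply side_el_inj b _ (hl _) 1 (by norm_num)
      apply D.f_inj
      show D.elem b _ = D.elem b 1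
      rw [← hconj (hl _), ← hconj (hl _), ← hconj (by norm_num : (1 : ℕ) < 16), D.elem_one]
      exact (horb g hgP hgt).2
    · intro e
      apply hgt
      rw [← D.elem_one b, hconj (by norm_num : (1 : ℕ) < 16), e]
  have hcheck := three_check _ hx it ?_ ia ?_ ie ?_ hgood
  rotate_left
  · have key : ∀ c ∈ threeCases, ∀ v ∈ zCoord, v ≠ 1 → indOn c.1 c.2 v = true → v ∈ [4, 5, 8, 9, 12, 13] := by
      decide +kernel
    refine key _ hx it hit (fun h => hgt ?_) ((D.ind_elem hit16).1 ?_)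
    · rw [← D.elem_one b, ite, h]
    · rw [← ite, D.isConj_conj, D.elem_one]
  · have h0 : ia ≠ 0 := fun h => by
      have := hinj 8 (by norm_num) 0 (by norm_num) (by subst h; simp [lin, show Nat.testBit 8 1 = false by decide,
        show Nat.testBit 8 2 = false by decide, show Nat.testBit 8 0 = false by decide])
      omega
    revert h0 hia
    revert ia
    intro ia
    simp only [zCoord, List.mem_cons, List.not_mem_nil, or_false]
    omega
  · have h2 : ie ∉ zCoord := by
      intro h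
      obtain ⟨w, hw, hwe⟩ := hcen g⁻¹ (inv_mem hgP) ie h
      rw [inv_inv, iee] at hwe
      have h3 : D.elem b 2 = D.elem b w := by rw [← hwe]; group
      have h4 := side_el_inj b 2 (by norm_num) w (zCoord_mem b w hw).2 (D.f_inj h3)
      exact absurd (h4 ▸ hw) (by decide)
    revert h2 hie
    revert ie
    intro ie
    simp only [zCoord, List.mem_cons, List.not_mem_nil, or_false]
    omega
  -- an element acting as the word
  have hu : ∀ v < 16, D.uEl b * D.elem b v * (D.uEl b)⁻¹ = D.elem b (uLin b v) := fun v hv => by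
    rw [elem, elem, uEl, ← map_inv, ← map_mul, ← map_mul, (side_actions b v hv).1]
  set s := D.f (1, (side b).s) with hs
  have hsact : ∀ v < 16, s * D.elem b v * s⁻¹ = D.elem b (sLin v) := fun v hv => by
    rw [elem, elem, hs, ← map_inv, ← map_mul, ← map_mul, (side_actions b v hv).2]
  have hcomp : ∀ {x y : G} {φ ψ : ℕ → ℕ}, (∀ v < 16, x * D.elem b v * x⁻¹ = D.elem b (φ v)) →
      (∀ v < 16, y * D.elem b v * y⁻¹ = D.elem b (ψ v) ∧ ψ v < 16) →
        ∀ v < 16, x * y * D.elem b v * (x * y)⁻¹ = D.elem b (φ (ψ v)) := by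
    intro x y φ ψ hx hy v hv
    rw [← hx _ (hy v hv).2, ← (hy v hv).1]
    group
  obtain ⟨w, hwmem, φ, hφ, hφl, hgw⟩ : ∃ w : G, w ∈ normalizer (D.A b : Set G) ∧ ∃ φ : ℕ → ℕ,
      (∀ v < 16, w * D.elem b v * w⁻¹ = D.elem b (φ v)) ∧ (∀ v < 16, φ v < 16) ∧ goodWord φ = true := by
    have hout : ∀ x, uLin b x < 16 := by
      cases b <;> exact lin_lt (by norm_num) (by norm_num) (by norm_num) (by norm_num)
    have hl : ∀ v, lin it ie 4 ia v < 16 := lin_lt hit16 hie (by norm_num) hia16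
    have hul : ∀ v < 16, uLin b v < 16 := fun v hv => (uLin_lt b v hv).1
    have uu := hcomp hu fun v hv => ⟨hu v hv, hul v hv⟩
    rcases hcheck with h | h
    · refine ⟨D.uEl b * g * g * D.uEl b * D.uEl b * g * D.uEl b, ?_, _, ?_, fun v _ => hout _, h⟩
      · repeat (first | exact D.uEl_norm b | exact hgA | refine mul_mem ?_ ?_)
      · intro v hv
        have c1 := hcomp hu fun v hv => ⟨hconj (v := v) hv, hl v⟩
        have c2 := hcomp c1 fun v hv => ⟨hconj (v := v) hv, hl v⟩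
        have c3 := hcomp c2 fun v hv => ⟨hu v hv, hul v hv⟩
        have c4 := hcomp c3 fun v hv => ⟨hu v hv, hul v hv⟩
        have c5 := hcomp c4 fun v hv => ⟨hconj (v := v) hv, hl v⟩
        have c6 := hcomp c5 fun v hv => ⟨hu v hv, hul v hv⟩
        exact c6 v hv
    · refine ⟨D.uEl b * g * D.uEl b * g * g * D.uEl b * D.uEl b, ?_, _, ?_, fun v _ => hout _, h⟩
      · repeat (first | exact D.uEl_norm b | exact hgA | refine mul_mem ?_ ?_)
      · intro v hv
        have c1 := hcomp hu fun v hv => ⟨hconj (v := v) hv, hl v⟩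
        have c2 := hcomp c1 fun v hv => ⟨hu v hv, hul v hv⟩
        have c3 := hcomp c2 fun v hv => ⟨hconj (v := v) hv, hl v⟩
        have c4 := hcomp c3 fun v hv => ⟨hconj (v := v) hv, hl v⟩
        have c5 := hcomp c4 fun v hv => ⟨hu v hv, hul v hv⟩
        have c6 := hcomp c5 fun v hv => ⟨hu v hv, hul v hv⟩
        exact c6 v hv
  -- the four-group of automorphisms
  simp only [goodWord, Bool.and_eq_true, List.all_eq_true, List.any_eq_true, List.mem_range, beq_iff_eq,
    bne_iff_ne] at hgw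
  obtain ⟨⟨hinv, v₂, hv₂, hne₂⟩, v₃, hv₃, hne₃⟩ := hgw
  set N := normalizer (D.A b : Set G) with hN
  have hsN : s ∈ N := D.P_norm b (D.f_mem_P (side_good b).s_mem.1)
  let Φ : N →* MulAut (D.A b) := normalizerMonoidHom (D.A b)
  have hΦ : ∀ (x : N) (v : ℕ) (hv : v < 16), ((Φ x ⟨D.elem b v, D.elem_mem hv⟩ : D.A b) : G) =
      x.1 * D.elem b v * x.1⁻¹ := fun x v hv => rfl
  have hext : ∀ x y : N, (∀ v < 16, x.1 * D.elem b v * x.1⁻¹ = y.1 * D.elem b v * y.1⁻¹) → Φ x = Φ y := by
    intro x y h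
    refine MulEquiv.ext fun a => ?_
    obtain ⟨v, hv, he⟩ := D.exists_elem a.2
    obtain rfl : (⟨D.elem b v, D.elem_mem hv⟩ : D.A b) = a := Subtype.ext he
    exact Subtype.ext (by rw [hΦ x v hv, hΦ y v hv, h v hv])
  set σ := Φ ⟨s, hsN⟩ with hσ
  set ω := Φ ⟨w, hwmem⟩ with hω
  have hsl : ∀ v < 16, sLin v < 16 := fun v hv => (uLin_lt b v hv).2
  have hσ2 : σ * σ = 1 := by
    rw [hσ, ← map_mul, ← map_one Φ]
    refine hext _ _ fun v hv => ?_
    show s * s * D.elem b v * (s * s)⁻¹ = 1 * D.elem b v * (1 : G)⁻¹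
    rw [show s * s = 1 by rw [hs, ← map_mul, ← map_one D.f]; congr 1; exact Prod.ext rfl (side_good b).s_mem.2.1]
  have hω2 : ω * ω = 1 := by
    rw [hω, ← map_mul, ← map_one Φ]
    refine hext _ _ fun v hv => ?_
    show w * w * D.elem b v * (w * w)⁻¹ = 1 * D.elem b v * (1 : G)⁻¹
    rw [hcomp hφ (fun v hv => ⟨hφ v hv, hφl v hv⟩) v hv, (hinv v hv).1]
    group
  have hcm : ω * σ = σ * ω := by
    rw [hσ, hω, ← map_mul, ← map_mul]
    refine hext _ _ fun v hv => ?_
    show w * s * D.elem b v * (w * s)⁻¹ = s * w * D.elem b v * (s * w)⁻¹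
    rw [hcomp hφ (fun v hv => ⟨hsact v hv, hsl v hv⟩) v hv, hcomp hsact (fun v hv => ⟨hφ v hv, hφl v hv⟩) v hv,
      (hinv v hv).2]
  have hωne : ω ≠ 1 := fun h => by
    have h1 : D.elem b (φ v₂) = D.elem b v₂ := by
      rw [← hφ v₂ hv₂, ← hΦ ⟨w, hwmem⟩ v₂ hv₂, ← hω, h]; rfl
    exact hne₂ (side_el_inj b _ (hφl _ hv₂) _ hv₂ (D.f_inj h1))
  have hωσ : ω ≠ σ := fun h => by
    have h1 : D.elem b (φ v₃) = D.elem b (sLin v₃) := by
      rw [← hφ v₃ hv₃, ← hsact v₃ hv₃, ← hΦ ⟨w, hwmem⟩ v₃ hv₃, ← hΦ ⟨s, hsN⟩ v₃ hv₃, ← hω, ← hσ, h]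
    exact hne₃ (side_el_inj b _ (hφl _ hv₃) _ (hsl _ hv₃) (D.f_inj h1))
  have hσne : σ ≠ 1 := fun h => by
    obtain ⟨v, hv, hsv⟩ : ∃ v < 16, sLin v ≠ v := by decide +kernel
    have h1 : D.elem b (sLin v) = D.elem b v := by
      rw [← hsact v hv, ← hΦ ⟨s, hsN⟩ v hv, ← hσ, h]; rfl
    exact hsv (side_el_inj b _ (hsl _ hv) _ hv (D.f_inj h1))
  let four : Subgroup (MulAut (D.A b)) :=
    { carrier := {1, σ, ω, σ * ω}
      one_mem' := by simp
      mul_mem' := by
        intro x y hx hy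
        simp only [Set.mem_insert_iff, Set.mem_singleton_iff] at hx hy ⊢
        have i1 : σ * (σ * ω) = ω := by rw [← mul_assoc, hσ2, one_mul]
        have i2 : ω * (σ * ω) = σ := by rw [← mul_assoc, hcm, mul_assoc, hω2, mul_one]
        have i3 : (σ * ω) * σ = ω := by rw [mul_assoc, hcm, i1]
        have i4 : (σ * ω) * ω = σ := by rw [mul_assoc, hω2, mul_one]
        have i5 : (σ * ω) * (σ * ω) = 1 := by rw [mul_assoc, i2, hσ2]
        rcases hx with rfl | rfl | rfl | rfl <;> rcases hy with rfl | rfl | rfl | rfl <;>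
          simp [hσ2, hω2, hcm, i1, i2, i3, i4, i5]
      inv_mem' := by
        intro x hx
        simp only [Set.mem_insert_iff, Set.mem_singleton_iff] at hx ⊢
        have i5 : (σ * ω) * (σ * ω) = 1 := by
          rw [mul_assoc, ← mul_assoc ω σ ω, hcm, mul_assoc σ ω ω, hω2, mul_one, hσ2]
        rcases hx with rfl | rfl | rfl | rfl
        · simp
        · simp [inv_eq_of_mul_eq_one_right hσ2]
        · simp [inv_eq_of_mul_eq_one_right hω2]
        · simp [inv_eq_of_mul_eq_one_right i5] }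
  have hfour : Nat.card four = 4 := by
    classical
    have e : (four : Set (MulAut (D.A b))) = ↑({1, σ, ω, σ * ω} : Finset (MulAut (D.A b))) := by
      simp [four]
    rw [← SetLike.coe_sort_coe, e, Nat.card_coe_set_eq, Set.ncard_coe_finset]
    have n1 : σ * ω ≠ 1 := fun h => hωσ (by
      rw [← inv_eq_of_mul_eq_one_right h, inv_eq_of_mul_eq_one_right hσ2])
    have n2 : σ * ω ≠ σ := fun h => hωne (mul_eq_left.1 h)
    have n3 : σ * ω ≠ ω := fun h => hσne (mul_eq_right.1 h)
    rw [Finset.card_insert_of_notMem, Finset.card_insert_of_notMem, Finset.card_insert_of_notMem,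
      Finset.card_singleton] <;> simp [hσne.symm, hωne.symm, hωσ.symm, n1.symm, n2.symm, n3.symm]
  have hrange : four ≤ Φ.range := by
    intro x hx
    have hx' : x ∈ ({1, σ, ω, σ * ω} : Set (MulAut (D.A b))) := hx
    simp only [Set.mem_insert_iff, Set.mem_singleton_iff] at hx'
    rcases hx' with rfl | rfl | rfl | rfl
    · exact one_mem _
    · exact ⟨_, rfl⟩
    · exact ⟨_, rfl⟩
    · exact mul_mem ⟨_, rfl⟩ ⟨_, rfl⟩
  have hAker : (D.A b).subgroupOf N ≤ Φ.ker := by
    intro x hx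
    rw [MonoidHom.mem_ker, ← map_one Φ]
    refine hext _ _ fun v hv => ?_
    have hx' : (x : G) ∈ D.A b := hx
    rw [D.A_comm hx' (D.elem_mem hv)]
    simp
  have h64 : 64 ∣ Nat.card G := by
    refine dvd_trans ?_ N.card_subgroup_dvd_card
    rw [← Φ.ker.card_mul_index, index_ker, show (64 : ℕ) = 16 * 4 from rfl]
    refine Nat.mul_dvd_mul ?_ (hfour ▸ card_dvd_of_le hrange)
    have := card_dvd_of_le hAker
    rwa [Nat.card_congr (subgroupOfEquivOfLe le_normalizer).toEquiv, D.card_A] at this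
  -- but the Sylow subgroup has order thirty-two
  obtain ⟨m, hm, hc⟩ := D.card_cen
  have hcnt : Odd (cnt D.t (D.P : Set G)) := by
    have e : (D.P : Set G) = D.f '' {p | p ∈ pSub ∧ True} := by
      ext g; simp [D.mem_P]
    rw [e, D.cnt_P]
    have key : ∀ c ∈ threeCases, Odd (pFin.filter fun p => True ∧ c.2.ind p = true).card := by
      decide +kernel
    exact key _ hx
  have h := (parity_iff D.tt D.P).1 (by rw [D.card_P]; exact h64)
  rw [D.card_P, hc, mul_assoc, mul_comm 2 32] at h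
  exact Nat.not_even_iff_odd.2 (hm.mul hcnt)
    (even_iff_two_dvd.2 (Nat.dvd_of_mul_dvd_mul_left (by norm_num) h))

end Cfg

end CfsgLib.TwoSymSix
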