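import Cfsg.Agent.Lib.Rec.TwoSymSix.StageA

/-!
# The two possible patterns of central conjugates
-/

set_option autoImplicit false
set_option synthInstance.maxSize 4000
set_option linter.unusedSectionVars false

namespace CfsgLib.TwoSymSix

attribute [local instance 10000] List.decidableBAll List.decidableBEx Finset.decidableDforallFinset

open Equiv Subgroup

namespace Cfg

variable {G : Type*} [Group G] [Finite G] {n : ℕ} (D : Cfg G n)

theorem elem_pz (b : Bool) : D.elem b 4 = D.f (1, pz) := by
  rw [elem]; congr 1 <;> (revert b; decide +kernel)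

theorem elem_xor {b : Bool} {v w : ℕ} (hv : v < 16) (hw : w < 16) :
    D.elem b (v ^^^ w) = D.elem b v * D.elem b w := by
  rw [elem, elem, elem, ← map_mul, side_el_mul b v hv w hw]

/-- Not all five types are fused. -/
theorem not_five (hx : D.types = ⟨true, true, true, true, true⟩) : False := by
  have hI : ∀ v ∈ zCoord, v ≠ 0 → v ≠ 4 → IsConj D.t (D.elem false v) := fun v hv h0 h4 => by
    rw [D.ind_elem (zCoord_mem false v hv).2, hx]
    have key : ∀ v ∈ zCoord, v ≠ 0 → v ≠ 4 → indOn false ⟨true, true, true, true, true⟩ v = true := by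
      decide +kernel
    exact key v hv h0 h4
  obtain ⟨k, hk, hkt⟩ := D.exists_norm_f (zCoord_mem false 5 (by decide)).1 (hI 5 (by decide) (by decide) (by decide))
  change k * D.t * k⁻¹ = D.elem false 5 at hkt
  rw [← D.elem_one false] at hkt
  have kz : k * D.elem false 4 * k⁻¹ = D.elem false 4 := by rw [D.elem_pz]; exact D.conj_pz hk
  obtain ⟨q, hq, hqe⟩ := D.conj_zList hk (zCoord_mem false 8 (by decide)).1
  obtain ⟨w, hw, rfl⟩ := zList_coord false q hq
  change k * D.elem false 8 * k⁻¹ = D.elem false w at hqe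
  have hinj : ∀ x y : G, k * x * k⁻¹ = k * y * k⁻¹ → x = y := fun x y h =>
    (MulAut.conj k).injective (by simpa using h)
  have hne : ∀ v < 16, ∀ u < 16, v ≠ u → D.elem false v ≠ D.elem false u := fun v hv u hu h e =>
    h (side_el_inj false v hv u hu (D.f_inj e))
  have hmul : ∀ {v u v' u' : ℕ}, v < 16 → u < 16 → v' < 16 → u' < 16 →
      k * D.elem false v * k⁻¹ = D.elem false v' → k * D.elem false u * k⁻¹ = D.elem false u' →
        k * D.elem false (v ^^^ u) * k⁻¹ = D.elem false (v' ^^^ u') := by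
    intro v u v' u' hv hu hv' hu' e1 e2
    rw [D.elem_xor hv hu, D.elem_xor hv' hu', ← e1, ← e2]
    group
  have hw16 := (zCoord_mem false w hw).2
  have k9 : k * D.elem false 9 * k⁻¹ = D.elem false (5 ^^^ w) :=
    hmul (v := 1) (u := 8) (by norm_num) (by norm_num) (by norm_num) hw16 hkt hqe
  have k5 : k * D.elem false 5 * k⁻¹ = D.elem false 1 :=
    hmul (v := 1) (u := 4) (v' := 5) (u' := 4) (by norm_num) (by norm_num) (by norm_num) (by norm_num) hkt kz
  have fix : ∀ {g : G} {v : ℕ}, g ∈ normalizer (D.P : Set G) → v ∈ zCoord → v ≠ 0 → v ≠ 4 →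
      g * D.elem false v * g⁻¹ = D.elem false v → ∀ u ∈ zCoord, g * D.elem false u * g⁻¹ = D.elem false u :=
    fun hg hv h0 h4 e u hu =>
      D.act_trivial hg (zCoord_mem false _ hv).1 (hI _ hv h0 h4) e (zCoord_mem false u hu).1
  have h15 := hne 5 (by norm_num) 1 (by norm_num) (by decide)
  simp only [zCoord, List.mem_cons, List.not_mem_nil, or_false] at hw
  rcases hw with rfl | rfl | rfl | rfl | rfl | rfl | rfl | rfl
  · rw [D.elem_zero] at hqe
    have : D.elem false 8 = D.elem false 0 := by rw [D.elem_zero]; exact conj_eq_one_iff.1 hqe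
    exact hne 8 (by norm_num) 0 (by norm_num) (by decide) this
  · have h1 : D.elem false 9 = D.elem false 4 := hinj _ _ (k9.trans kz.symm)
    exact hne 9 (by norm_num) 4 (by norm_num) (by decide) h1
  · exact hne 8 (by norm_num) 4 (by norm_num) (by decide) (hinj _ _ (hqe.trans kz.symm))
  · exact hne 8 (by norm_num) 1 (by norm_num) (by decide) (hinj _ _ (hqe.trans hkt.symm))
  · exact h15 (hkt.symm.trans (fix hk (v := 8) (by decide) (by decide) (by decide) hqe 1 (by decide)))
  · have h1 : k * k * D.elem false 1 * (k * k)⁻¹ = D.elem false 1 := by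
      rw [show k * k * D.elem false 1 * (k * k)⁻¹ = k * (k * D.elem false 1 * k⁻¹) * k⁻¹ by group, hkt, k5]
    have h2 := fix (mul_mem hk hk) (v := 1) (by decide) (by decide) (by decide) h1 8 (by decide)
    rw [show k * k * D.elem false 8 * (k * k)⁻¹ = k * (k * D.elem false 8 * k⁻¹) * k⁻¹ by group, hqe, k9] at h2
    exact hne (5 ^^^ 9) (by decide) 8 (by norm_num) (by decide) h2
  · exact h15 (hkt.symm.trans (fix hk (v := 9) (by decide) (by decide) (by decide)
      (by rw [k9]; rfl) 1 (by decide)))
  · have h1 : k * k * D.elem false 1 * (k * k)⁻¹ = D.elem false 1 := by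
      rw [show k * k * D.elem false 1 * (k * k)⁻¹ = k * (k * D.elem false 1 * k⁻¹) * k⁻¹ by group, hkt, k5]
    have h2 := fix (mul_mem hk hk) (v := 1) (by decide) (by decide) (by decide) h1 8 (by decide)
    have k13 : k * D.elem false 13 * k⁻¹ = D.elem false ((5 ^^^ 4) ^^^ 13) :=
      hmul (v := 5) (u := 8) (v' := 1) (u' := 13) (by norm_num) (by norm_num) (by norm_num) (by norm_num) k5 hqe
    rw [show k * k * D.elem false 8 * (k * k)⁻¹ = k * (k * D.elem false 8 * k⁻¹) * k⁻¹ by group, hqe, k13] at h2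
    exact hne ((5 ^^^ 4) ^^^ 13) (by decide) 8 (by norm_num) (by decide) h2

/-- Some type besides `t` times a double transposition is fused. -/
theorem not_single (hx : D.types = ⟨false, true, false, false, false⟩) : False := by
  obtain ⟨k, hk, hkt⟩ := D.exists_norm_f (zCoord_mem false 5 (by decide)).1 (by
    show IsConj D.t (D.elem false 5)
    rw [D.ind_elem (by norm_num), hx]; decide +kernel)
  change k * D.t * k⁻¹ = D.elem false 5 at hkt
  -- an element of the normalizer of the side moving `t`
  obtain ⟨g, hgA, hgt⟩ : ∃ g : G, g ∈ normalizer (D.A false : Set G) ∧ g * D.t * g⁻¹ ≠ D.t := by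
    obtain ⟨c, hc⟩ := D.image_cases (b := false) (k := k) fun g hg => (mem_normalizer_iff.1 hk g).1 (D.A_le _ hg)
    cases c
    · refine ⟨k, normalizer_of_forall fun g hg => hc ▸ ⟨g, hg, rfl⟩, ?_⟩
      rw [hkt, ← D.elem_one false]
      exact fun h => absurd (side_el_inj false 5 (by norm_num) 1 (by norm_num) (D.f_inj h)) (by decide)
    · have hku : k⁻¹ * D.uEl true * k ∈ normalizer (D.A false : Set G) := by
        refine normalizer_of_forall fun g hg => ?_
        have h1 : k * g * k⁻¹ ∈ D.A true := hc ▸ ⟨g, hg, rfl⟩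
        have h2 := (mem_normalizer_iff.1 (D.uEl_norm true) _).1 h1
        rw [← hc] at h2
        obtain ⟨g', hg', hge⟩ := h2
        have e : g' = k⁻¹ * D.uEl true * k * g * (k⁻¹ * D.uEl true * k)⁻¹ := by
          simp only [MulEquiv.coe_toMonoidHom, MulAut.conj_apply] at hge
          calc g' = k⁻¹ * (k * g' * k⁻¹) * k := by group
            _ = _ := by rw [hge]; group
        exact e ▸ hg'
      refine ⟨_, hku, fun h => ?_⟩
      have h1 : D.uEl true * (k * D.t * k⁻¹) * (D.uEl true)⁻¹ = k * D.t * k⁻¹ := by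
        calc D.uEl true * (k * D.t * k⁻¹) * (D.uEl true)⁻¹
            = k * (k⁻¹ * D.uEl true * k * D.t * (k⁻¹ * D.uEl true * k)⁻¹) * k⁻¹ := by group
          _ = k * D.t * k⁻¹ := by rw [h]
      rw [hkt, show D.elem false 5 = D.elem true 5 from congrArg D.f (by decide +kernel), uEl, elem, ← map_inv,
        ← map_mul, ← map_mul] at h1
      exact absurd (D.f_inj h1) (by decide +kernel)
  -- the orbit of `t`
  set K := normalizer (D.A false : Set G) with hK
  obtain ⟨v, hv, hve⟩ := D.exists_elem ((mem_normalizer_iff.1 hgA _).1 (D.t_mem_A false))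
  have hvI : indOn false D.types v = true :=
    (D.ind_elem hv).1 (by rw [hve, D.isConj_conj])
  have key : ∀ v < 16, v ≠ 1 → indOn false ⟨false, true, false, false, false⟩ v = true →
      ([1, v, uLin false v, uLin false (uLin false v)] : List ℕ).Nodup ∧
        ∀ w < 16, indOn false ⟨false, true, false, false, false⟩ w = true →
          w ∈ [1, v, uLin false v, uLin false (uLin false v)] := by decide +kernel
  have hv1 : v ≠ 1 := fun h => hgt (by rw [← hve, h, D.elem_one])
  obtain ⟨hnd, hall⟩ := key v hv hv1 (hx ▸ hvI)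
  have hu : ∀ {w : ℕ} {y : G}, w < 16 → (∃ k ∈ K, k * D.t * k⁻¹ = D.elem false w) →
      ∃ k ∈ K, k * D.t * k⁻¹ = D.elem false (uLin false w) := by
    rintro w y hw ⟨k', hk', he⟩
    refine ⟨D.uEl false * k', mul_mem (D.uEl_norm false) hk', ?_⟩
    rw [show D.uEl false * k' * D.t * (D.uEl false * k')⁻¹ =
      D.uEl false * (k' * D.t * k'⁻¹) * (D.uEl false)⁻¹ by group, he, elem, elem, uEl, ← map_inv, ← map_mul,
      ← map_mul, (side_actions false w hw).1]
  have h1 : ∃ k ∈ K, k * D.t * k⁻¹ = D.elem false v := ⟨g, hgA, hve.symm⟩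
  have h2 := hu (y := 1) hv h1
  have h3 := hu (y := 1) (uLin_lt false v hv).1 h2
  have hmem : ∀ w ∈ [1, v, uLin false v, uLin false (uLin false v)],
      ∃ k ∈ K, k * D.t * k⁻¹ = D.elem false w := by
    intro w hw
    simp only [List.mem_cons, List.not_mem_nil, or_false] at hw
    rcases hw with rfl | rfl | rfl | rfl
    · exact ⟨1, one_mem _, by rw [D.elem_one]; group⟩
    · exact h1
    · exact h2
    · exact h3
  have hcard : Nat.card {y : G // ∃ k ∈ K, k * D.t * k⁻¹ = y} = 4 := by
    let L := [1, v, uLin false v, uLin false (uLin false v)]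
    rw [show 4 = L.toFinset.card by rw [List.toFinset_card_of_nodup hnd]; rfl, ← Nat.card_eq_finsetCard]
    have hlt : ∀ w ∈ L, w < 16 := by
      intro w hw
      simp only [L, List.mem_cons, List.not_mem_nil, or_false] at hw
      rcases hw with rfl | rfl | rfl | rfl
      exacts [by norm_num, hv, (uLin_lt false v hv).1, (uLin_lt false _ (uLin_lt false v hv).1).1]
    refine (Nat.card_congr (Equiv.ofBijective
      (fun w => ⟨D.elem false w.1, hmem w.1 (List.mem_toFinset.1 w.2)⟩) ⟨?_, ?_⟩)).symm
    · intro x y h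
      exact Subtype.ext (side_el_inj false _ (hlt _ (List.mem_toFinset.1 x.2)) _
        (hlt _ (List.mem_toFinset.1 y.2)) (D.f_inj (congrArg Subtype.val h)))
    · rintro ⟨y, k', hk', rfl⟩
      obtain ⟨w, hw, hwe⟩ := D.exists_elem ((mem_normalizer_iff.1 hk' _).1 (D.t_mem_A false))
      refine ⟨⟨w, List.mem_toFinset.2 (hall w hw (hx ▸ (D.ind_elem hw).1 (by rw [hwe, D.isConj_conj])))⟩, ?_⟩
      exact Subtype.ext hwe
  have h128 : 128 ∣ Nat.card G := by
    refine dvd_trans ?_ K.card_subgroup_dvd_card
    rw [D.card_orbit K, D.card_norm_cen, hcard]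
    norm_num
  obtain ⟨m, hm, hc⟩ := D.card_cen
  have hcnt : cnt D.t (D.P : Set G) = 6 := by
    have e : (D.P : Set G) = D.f '' {p | p ∈ pSub ∧ True} := by
      ext g; simp [D.mem_P]
    rw [e, D.cnt_P, hx]
    decide +kernel
  have h := (sign_iff D.hno D.tt D.P).1 (by rw [D.card_P]; exact h128)
  rw [D.card_P, hc, hcnt] at h
  obtain ⟨r, rfl⟩ := hm
  omega

/-- The two possible patterns. -/
theorem types_cases : D.types = ⟨true, true, true, false, false⟩ ∨ D.types = ⟨false, true, false, true, true⟩ := by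
  obtain ⟨h1, h2⟩ := D.parities
  have key : ∀ tT tD tU T U : Bool, (xor (xor tT tD) tU) = true → (xor (xor tT tU) (xor T U)) = false →
      (⟨tT, tD, tU, T, U⟩ : Types) = ⟨true, true, true, false, false⟩ ∨
        (⟨tT, tD, tU, T, U⟩ : Types) = ⟨false, true, false, true, true⟩ ∨
        (⟨tT, tD, tU, T, U⟩ : Types) = ⟨true, true, true, true, true⟩ ∨
        (⟨tT, tD, tU, T, U⟩ : Types) = ⟨false, true, false, false, false⟩ ∨
        ((false, (⟨tT, tD, tU, T, U⟩ : Types)) ∈ threeCases ∨ (true, (⟨tT, tD, tU, T, U⟩ : Types)) ∈ threeCases) := by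
    decide +kernel
  rcases key _ _ _ _ _ h1 h2 with h | h | h | h | h | h
  · exact Or.inl h
  · exact Or.inr h
  · exact (D.not_five h).elim
  · exact (D.not_single h).elim
  · exact (D.not_threeCases h).elim
  · exact (D.not_threeCases h).elim

end Cfg

end CfsgLib.TwoSymSix
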