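import Cfsg.Agent.Lib.Rec.TwoSymSix.Gens

/-!
# The normalizer of `P` without interchanges, in coordinates
-/

set_option autoImplicit false
set_option synthInstance.maxSize 4000
set_option linter.unusedSectionVars false

namespace CfsgLib.TwoSymSix

attribute [local instance 10000] List.decidableBAll List.decidableBEx Finset.decidableDforallFinset

open Equiv Subgroup

/-- A factor switched by a bit. -/
def pw {H : Type*} [One H] (b : Bool) (g : H) : H := if b then g else 1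

theorem sel_lt {b : Bool} {v : ℕ} (h : v < 4) : sel b v < 4 := by
  cases b <;> simp [sel, h]

theorem xor_lt_four {a b : ℕ} (ha : a < 4) (hb : b < 4) : a ^^^ b < 4 := Nat.xor_lt_two_pow (n := 2) ha hb

theorem Par.cr_lt (p : Par) (hc : p.c < 4) (ha : p.qa < 4) (hb : p.qb < 4) (x : ℕ) : ∀ j, p.cr x j < 4 := by
  intro j
  match j with
  | 0 => exact xor_lt_four (sel_lt (by norm_num)) (sel_lt (by norm_num))
  | 1 => exact xor_lt_four (sel_lt (by norm_num)) (sel_lt (sel_lt (by norm_num)))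
  | 2 => exact sel_lt (sel_lt (by norm_num))
  | 3 => exact xor_lt_four (sel_lt ha) (sel_lt hc)
  | _ + 4 => exact sel_lt hb

theorem Par.beta_lt (p : Par) (hc : p.c < 4) (ha : p.qa < 4) (hb : p.qb < 4) (x y : ℕ) : p.beta x y < 4 := by
  have h : ∀ j, sel (y.testBit j) (p.cr x j) < 4 := fun j => sel_lt (p.cr_lt hc ha hb x j)
  exact xor_lt_four (xor_lt_four (xor_lt_four (h 0) (h 1)) (xor_lt_four (h 2) (h 3))) (h 4)

theorem Par.cr_sel (p : Par) (x : ℕ) (b : Bool) {i j : ℕ} (hij : i < j) (hj : j < 5) :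
    p.cr (x ^^^ sel b (2 ^ i)) j = p.cr x j := by
  refine p.cr_xor x _ j hj fun k hk => ?_
  cases b
  · simp [sel]
  · simp only [sel, if_true, Nat.testBit_two_pow, decide_eq_false_iff_not]
    omega

namespace Cfg

variable {G : Type*} [Group G] [Finite G] {n : ℕ} (D : Cfg G n)

/-- The elements commuting with the four values. -/
def zcent : Subgroup G := centralizer ({D.zc 1, D.zc 2} : Set G)

theorem zc_one_eq : D.zc 1 = D.elem false 8 := by rw [zc, elem]; exact congrArg D.f (by decide +kernel)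

theorem zc_two_eq : D.zc 2 = D.elem false 4 := by rw [zc, elem]; exact congrArg D.f (by decide +kernel)

theorem mem_zcent {g : G} (hg : g ∈ normalizer (D.P : Set G))
    (ha : g * D.elem false 8 * g⁻¹ = D.elem false 8) : g ∈ D.zcent := by
  rw [zcent, mem_centralizer_iff]
  intro y hy
  rcases hy with rfl | rfl
  · rw [D.zc_one_eq]
    exact (mul_inv_eq_iff_eq_mul.1 ha).symm
  · rw [D.zc_two_eq, D.elem_pz]
    exact (mul_inv_eq_iff_eq_mul.1 (D.conj_pz hg)).symm

theorem P_le_zcent : D.P ≤ D.zcent := by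
  intro g hg
  refine D.mem_zcent (le_normalizer hg) ?_
  exact mul_inv_eq_iff_eq_mul.2 (D.f_central (zCoord_mem false 8 (by decide)).1 hg)

theorem zc_commute {g : G} (hg : g ∈ D.zcent) (c : ℕ) : g * D.zc c = D.zc c * g := by
  have h := mem_centralizer_iff.1 hg
  have h1 : Commute g (D.zc 1) := (h _ (Or.inl rfl)).symm
  have h2 : Commute g (D.zc 2) := (h _ (Or.inr rfl)).symm
  have e : D.zc c = pw (c.testBit 0) (D.zc 1) * pw (c.testBit 1) (D.zc 2) := by
    simp only [zc, zcM, pw]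
    cases c.testBit 0 <;> cases c.testBit 1 <;>
      simp only [if_true, if_false, Bool.false_eq_true, one_mul, mul_one, ← map_mul] <;>
      first
        | exact congrArg D.f (by decide +kernel)
        | (rw [← map_one D.f]; exact congrArg D.f (by decide +kernel))
  rw [e]
  refine (Commute.mul_right ?_ ?_).eq
  · cases c.testBit 0
    · exact Commute.one_right g
    · exact h1
  · cases c.testBit 1
    · exact Commute.one_right g
    · exact h2

/-- Moving `g` past `x` costs a value. -/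
def Mv (x g : G) (c : ℕ) : Prop := x * g = g * x * D.zc c ∧ x ∈ D.zcent ∧ c < 4

theorem mv_pw {x g : G} {c : ℕ} (h : D.Mv x g c) (b : Bool) : D.Mv (pw b x) g (sel b c) := by
  cases b
  · exact ⟨by simp [pw, sel, D.zc_zero], one_mem _, by norm_num [sel]⟩
  · exact h

theorem mv_mul {x y g : G} {c d : ℕ} (hx : D.Mv x g c) (hy : D.Mv y g d) : D.Mv (x * y) g (c ^^^ d) := by
  refine ⟨?_, mul_mem hx.2.1 hy.2.1, xor_lt_four hx.2.2 hy.2.2⟩
  calc x * y * g = x * (y * g) := by group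
    _ = x * g * (y * D.zc d) := by rw [hy.1]; group
    _ = g * x * (D.zc c * y) * D.zc d := by rw [hx.1]; group
    _ = g * (x * y) * (D.zc c * D.zc d) := by rw [← D.zc_commute hy.2.1 c]; group
    _ = _ := by rw [D.zc_mul hx.2.2 hy.2.2]

theorem mv_one (g : G) : D.Mv 1 g 0 := ⟨by simp [D.zc_zero], one_mem _, by norm_num⟩

theorem mv_of_conj {x g : G} {c : ℕ} (hx : x ∈ D.zcent) (hc : c < 4) (h : x * g * x⁻¹ = g * D.zc c) :
    D.Mv x g c := by
  refine ⟨?_, hx, hc⟩
  rw [mul_inv_eq_iff_eq_mul.1 h, mul_assoc, ← D.zc_commute hx, ← mul_assoc]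

/-- Inserting a generator into a product. -/
theorem insert_gen (A : G) {B g : G} {b : Bool} {q d : ℕ} (hq : g * g = D.zc q) (hq4 : q < 4)
    (hB : D.Mv B g d) :
    A * pw b g * B * g = A * pw (!b) g * B * D.zc (sel b q ^^^ d) := by
  rw [mul_assoc (A * pw b g), hB.1]
  cases b
  · simp only [pw, sel, Bool.not_false, if_true, Bool.false_eq_true, if_false, Nat.zero_xor, mul_one]
    group
  · simp only [pw, sel, Bool.not_true, if_true, Bool.false_eq_true, if_false, mul_one,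
      D.zc_mul hq4 hB.2.2]
    calc A * g * (g * B * D.zc d) = A * (g * g * B) * D.zc d := by group
      _ = A * (B * D.zc q) * D.zc d := by rw [hq, ← D.zc_commute hB.2.1 q]
      _ = A * B * (D.zc q * D.zc d) := by group

/-- The relations of the generators. -/
structure Rels (p : Par) (gA gB : G) : Prop where
  gens : D.Gens gA gB p.v₁ p.v₂
  c_lt : p.c < 4
  qa_lt : p.qa < 4
  qb_lt : p.qb < 4
  sqA : gA * gA = D.zc p.qa
  sqB : gB * gB = D.zc p.qb
  comm : gB * gA = gA * gB * D.zc p.c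

theorem Gens.zA {gA gB : G} {v₁ v₂ : Bool} (h : D.Gens gA gB v₁ v₂) : gA ∈ D.zcent := D.mem_zcent h.memA h.aA

theorem Gens.zB {gA gB : G} {v₁ v₂ : Bool} (h : D.Gens gA gB v₁ v₂) : gB ∈ D.zcent := D.mem_zcent h.memB h.aB

theorem e_coord : ∀ v : Bool,
    (side false).el 9 = tau * zcM 1 ∧ (side false).el 13 = tau * zcM 3 ∧
      (side false).el (2 ^^^ sel v 12) = (side false).el 2 * zcM (sel v 3) ∧
      (side true).el (2 ^^^ sel v 8) = (side true).el 2 * zcM (sel v 1) ∧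
      (side true).el 2 * (side false).el 2 = (side false).el 2 * (side true).el 2 * zcM 2 := by
  decide +kernel

theorem conj_t_zc {gA : G} {w c : ℕ} (hA : gA * D.t * gA⁻¹ = D.elem false w)
    (hw : (side false).el w = tau * zcM c) : gA * D.t * gA⁻¹ = D.t * D.zc c := by
  rw [hA, elem, hw, map_mul, D.f_tau, zc]

theorem conj_e_zc {b : Bool} {g : G} {w c : ℕ} (hg : g * D.elem b 2 * g⁻¹ = D.elem b w)
    (hw : (side b).el w = (side b).el 2 * zcM c) : g * D.elem b 2 * g⁻¹ = D.elem b 2 * D.zc c := by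
  rw [hg, elem, hw, map_mul, zc, elem]

theorem exists_rels (hN : D.types = nfTypes) {gA gB : G} {v₁ v₂ : Bool} (h : D.Gens gA gB v₁ v₂) :
    ∃ p : Par, p.v₁ = v₁ ∧ p.v₂ = v₂ ∧ D.Rels p gA gB := by
  have za := h.zA D
  have zb := h.zB D
  obtain ⟨a9, a13, ae, -, -⟩ := e_coord v₁
  obtain ⟨-, -, -, be, -⟩ := e_coord v₂
  -- a square fixes `t` and the generators
  have key : ∀ {r : G}, r ∈ normalizer (D.P : Set G) → r ∈ D.zcent → ∀ {a b c : ℕ}, a < 4 → b < 4 → c < 4 →
      r * D.t * r⁻¹ = D.t * D.zc a → r * D.elem false 2 * r⁻¹ = D.elem false 2 * D.zc b →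
      r * D.elem true 2 * r⁻¹ = D.elem true 2 * D.zc c → ∃ d < 4, r * r = D.zc d := by
    intro r hr hz a b c ha hb hc h1 h2 h3
    have sq : ∀ {y : G} {a : ℕ}, a < 4 → r * y * r⁻¹ = y * D.zc a → r * r * y * (r * r)⁻¹ = y := by
      intro y a ha hy
      calc r * r * y * (r * r)⁻¹ = r * (r * y * r⁻¹) * r⁻¹ := by group
        _ = r * y * (D.zc a * r⁻¹) := by rw [hy]; group
        _ = r * y * r⁻¹ * D.zc a := by rw [← D.zc_commute (inv_mem hz) a]; group
        _ = y * (D.zc a * D.zc a) := by rw [hy]; group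
        _ = y := by rw [← D.zc_mul ha ha, Nat.xor_self, D.zc_zero, mul_one]
    exact D.sq_value hN hr (sq ha h1) (sq hb h2) (sq hc h3)
  have A1 := D.conj_t_zc h.tA a9
  have B1 := D.conj_t_zc h.tB a13
  have A2 := D.conj_e_zc h.eA₁ ae
  have B3 := D.conj_e_zc h.eB₂ be
  have A3 : gA * D.elem true 2 * gA⁻¹ = D.elem true 2 * D.zc 0 := by rw [D.zc_zero, mul_one]; exact h.eA₂
  have B2 : gB * D.elem false 2 * gB⁻¹ = D.elem false 2 * D.zc 0 := by rw [D.zc_zero, mul_one]; exact h.eB₁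
  have lt1 : ∀ v : Bool, sel v 1 < 4 ∧ sel v 3 < 4 := by decide
  obtain ⟨qa, hqa, ea⟩ := key h.memA za (by norm_num) (lt1 v₁).2 (by norm_num) A1 A2 A3
  obtain ⟨qb, hqb, eb⟩ := key h.memB zb (by norm_num) (by norm_num) (lt1 v₂).1 B1 B2 B3
  have comb : ∀ {y : G} {a b : ℕ}, a < 4 → b < 4 → gA * y * gA⁻¹ = y * D.zc a → gB * y * gB⁻¹ = y * D.zc b →
      gA * gB * y * (gA * gB)⁻¹ = y * D.zc (a ^^^ b) := by
    intro y a b ha hb h1 h2
    calc gA * gB * y * (gA * gB)⁻¹ = gA * (gB * y * gB⁻¹) * gA⁻¹ := by group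
      _ = gA * y * (D.zc b * gA⁻¹) := by rw [h2]; group
      _ = gA * y * gA⁻¹ * D.zc b := by rw [← D.zc_commute (inv_mem za) b]; group
      _ = _ := by rw [h1, D.zc_mul ha hb]; group
  obtain ⟨qs, hqs, es⟩ := key (mul_mem h.memA h.memB) (mul_mem za zb) (xor_lt_four (by norm_num) (by norm_num))
    (xor_lt_four (lt1 v₁).2 (by norm_num)) (xor_lt_four (by norm_num) (lt1 v₂).1)
    (comb (by norm_num) (by norm_num) A1 B1) (comb (lt1 v₁).2 (by norm_num) A2 B2)
    (comb (by norm_num) (lt1 v₂).1 A3 B3)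
  refine ⟨⟨v₁, v₂, qa ^^^ qs ^^^ qb, qa, qb⟩, rfl, rfl, h, xor_lt_four (xor_lt_four hqa hqs) hqb, hqa, hqb,
    ea, eb, ?_⟩
  have inv : ∀ {g : G} {q : ℕ}, q < 4 → g ∈ D.zcent → g * g = D.zc q → g⁻¹ = g * D.zc q := by
    intro g q hq hg hgq
    refine inv_eq_of_mul_eq_one_right ?_
    rw [← mul_assoc, hgq, ← D.zc_mul hq hq, Nat.xor_self, D.zc_zero]
  rw [D.zc_mul (xor_lt_four hqa hqs) hqb, D.zc_mul hqa hqs]
  calc gB * gA = gA⁻¹ * (gA * gB * (gA * gB)) * gB⁻¹ := by group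
    _ = gA * D.zc qa * D.zc qs * (gB * D.zc qb) := by rw [es, inv hqa za ea, inv hqb zb eb]
    _ = gA * (D.zc qa * (D.zc qs * gB)) * D.zc qb := by group
    _ = gA * (D.zc qa * gB) * D.zc qs * D.zc qb := by rw [← D.zc_commute zb qs]; group
    _ = _ := by rw [← D.zc_commute zb qa]; group

/-- The product of generators with given coordinates. -/
def W (gA gB : G) (x : ℕ) : G :=
  pw (x.testBit 0) D.t * pw (x.testBit 1) (D.elem false 2) * pw (x.testBit 2) (D.elem true 2) *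
    pw (x.testBit 3) gA * pw (x.testBit 4) gB

/-- The generators by index. -/
def gen (gA gB : G) : ℕ → G
  | 0 => D.t
  | 1 => D.elem false 2
  | 2 => D.elem true 2
  | 3 => gA
  | _ => gB

variable {D} {p : Par} {gA gB : G}

theorem Rels.mv_table (h : D.Rels p gA gB) :
    D.Mv (D.elem false 2) D.t 0 ∧ D.Mv (D.elem true 2) D.t 0 ∧ D.Mv gA D.t 1 ∧ D.Mv gB D.t 3 ∧
      D.Mv (D.elem true 2) (D.elem false 2) 2 ∧ D.Mv gA (D.elem false 2) (sel p.v₁ 3) ∧
      D.Mv gB (D.elem false 2) 0 ∧ D.Mv gA (D.elem true 2) 0 ∧ D.Mv gB (D.elem true 2) (sel p.v₂ 1) ∧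
      D.Mv gB gA p.c := by
  obtain ⟨a9, a13, ae, -, ee⟩ := e_coord p.v₁
  obtain ⟨-, -, -, be, -⟩ := e_coord p.v₂
  have za := h.gens.zA D
  have zb := h.gens.zB D
  have ez : ∀ b, D.elem b 2 ∈ D.zcent := fun b => D.P_le_zcent (D.A_le b (D.elem_mem (by norm_num)))
  have et : ∀ b, D.elem b 2 * D.t = D.t * D.elem b 2 * D.zc 0 := fun b => by
    rw [D.zc_zero, mul_one]; exact D.A_comm (D.elem_mem (by norm_num)) (D.t_mem_A b)
  refine ⟨⟨et false, ez _, by norm_num⟩, ⟨et true, ez _, by norm_num⟩,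
    D.mv_of_conj za (by norm_num) (D.conj_t_zc h.gens.tA a9),
    D.mv_of_conj zb (by norm_num) (D.conj_t_zc h.gens.tB a13), ⟨?_, ez _, by norm_num⟩,
    D.mv_of_conj za (sel_lt (by norm_num)) (D.conj_e_zc h.gens.eA₁ ae),
    D.mv_of_conj zb (by norm_num) (by rw [D.zc_zero, mul_one]; exact h.gens.eB₁),
    D.mv_of_conj za (by norm_num) (by rw [D.zc_zero, mul_one]; exact h.gens.eA₂),
    D.mv_of_conj zb (sel_lt (by norm_num)) (D.conj_e_zc h.gens.eB₂ be), ⟨h.comm, zb, h.c_lt⟩⟩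
  rw [elem, elem, zc, ← map_mul, ← map_mul, ← map_mul, ee]

theorem W_congr {x y : ℕ} (h : ∀ i < 5, x.testBit i = y.testBit i) : D.W gA gB x = D.W gA gB y := by
  unfold W
  rw [h 0 (by norm_num), h 1 (by norm_num), h 2 (by norm_num), h 3 (by norm_num), h 4 (by norm_num)]

/-- Multiplying by a generator. -/
theorem Rels.W_mul_gen (h : D.Rels p gA gB) (x : ℕ) {j : ℕ} (hj : j < 5) :
    D.W gA gB x * D.gen gA gB j = D.W gA gB (x ^^^ 2 ^ j) * D.zc (p.cr x j) := by
  obtain ⟨m10, m20, m30, m40, m21, m31, m41, m32, m42, m43⟩ := h.mv_table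
  have sqe : ∀ b, D.elem b 2 * D.elem b 2 = D.zc 0 := fun b => by
    rw [D.zc_zero]; exact D.A_sq (D.elem_mem (by norm_num))
  have sqt : D.t * D.t = D.zc 0 := by rw [D.zc_zero, D.tt]
  have hb : ∀ i k, (x ^^^ 2 ^ i).testBit k = (if i = k then !x.testBit k else x.testBit k) := by
    intro i k
    rw [Nat.testBit_xor, Nat.testBit_two_pow]
    split <;> rename_i e <;> simp [e]
  unfold W gen
  interval_cases j <;> simp only [hb] <;> norm_num
  · have e := D.insert_gen (b := x.testBit 0) 1 sqt (by norm_num)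
      (D.mv_mul (D.mv_mul (D.mv_mul (D.mv_pw m10 (x.testBit 1)) (D.mv_pw m20 (x.testBit 2)))
        (D.mv_pw m30 (x.testBit 3))) (D.mv_pw m40 (x.testBit 4)))
    simpa [mul_assoc, Par.cr, sel] using e
  · have e := D.insert_gen (b := x.testBit 1) (pw (x.testBit 0) D.t) (sqe false) (by norm_num)
      (D.mv_mul (D.mv_mul (D.mv_pw m21 (x.testBit 2)) (D.mv_pw m31 (x.testBit 3))) (D.mv_pw m41 (x.testBit 4)))
    simpa [mul_assoc, Par.cr, sel] using e
  · have e := D.insert_gen (b := x.testBit 2) (pw (x.testBit 0) D.t * pw (x.testBit 1) (D.elem false 2))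
      (sqe true) (by norm_num) (D.mv_mul (D.mv_pw m32 (x.testBit 3)) (D.mv_pw m42 (x.testBit 4)))
    simpa [mul_assoc, Par.cr, sel] using e
  · have e := D.insert_gen (b := x.testBit 3)
      (pw (x.testBit 0) D.t * pw (x.testBit 1) (D.elem false 2) * pw (x.testBit 2) (D.elem true 2))
      h.sqA h.qa_lt (D.mv_pw m43 (x.testBit 4))
    simpa [mul_assoc, Par.cr, sel] using e
  · have e := D.insert_gen (b := x.testBit 4)
      (pw (x.testBit 0) D.t * pw (x.testBit 1) (D.elem false 2) * pw (x.testBit 2) (D.elem true 2) *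
        pw (x.testBit 3) gA)
      h.sqB h.qb_lt (D.mv_one gB)
    simpa [mul_assoc, Par.cr, sel] using e

theorem Rels.W_zcent (h : D.Rels p gA gB) (x : ℕ) : D.W gA gB x ∈ D.zcent := by
  have ez : ∀ b, D.elem b 2 ∈ D.zcent := fun b => D.P_le_zcent (D.A_le b (D.elem_mem (by norm_num)))
  have hp : ∀ (b : Bool) {g : G}, g ∈ D.zcent → pw b g ∈ D.zcent := fun b {g} hg => by
    cases b
    · exact one_mem _
    · exact hg
  exact mul_mem (mul_mem (mul_mem (mul_mem (hp _ (D.P_le_zcent D.t_mem_P)) (hp _ (ez _))) (hp _ (ez _)))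
    (hp _ (h.gens.zA D))) (hp _ (h.gens.zB D))

theorem Rels.W_mem (h : D.Rels p gA gB) (x : ℕ) : D.W gA gB x ∈ normalizer (D.P : Set G) := by
  have ez : ∀ b, D.elem b 2 ∈ normalizer (D.P : Set G) := fun b =>
    le_normalizer (D.A_le b (D.elem_mem (by norm_num)))
  have hp : ∀ (b : Bool) {g : G}, g ∈ normalizer (D.P : Set G) → pw b g ∈ normalizer (D.P : Set G) :=
    fun b {g} hg => by
      cases b
      · exact one_mem _
      · exact hg
  exact mul_mem (mul_mem (mul_mem (mul_mem (hp _ (le_normalizer D.t_mem_P)) (hp _ (ez _))) (hp _ (ez _)))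
    (hp _ h.gens.memA)) (hp _ h.gens.memB)

theorem Rels.W_mul_pw (h : D.Rels p gA gB) (x : ℕ) (b : Bool) {j : ℕ} (hj : j < 5) :
    D.W gA gB x * pw b (D.gen gA gB j) = D.W gA gB (x ^^^ sel b (2 ^ j)) * D.zc (sel b (p.cr x j)) := by
  cases b
  · simp [pw, sel, D.zc_zero]
  · exact h.W_mul_gen x hj

/-- The multiplication rule. -/
theorem Rels.W_mul (h : D.Rels p gA gB) (x y : ℕ) :
    D.W gA gB x * D.W gA gB y = D.W gA gB (x ^^^ y) * D.zc (p.beta x y) := by
  have step : ∀ (z d : ℕ) (b : Bool) {j : ℕ}, j < 5 → d < 4 →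
      D.W gA gB z * D.zc d * pw b (D.gen gA gB j) =
        D.W gA gB (z ^^^ sel b (2 ^ j)) * D.zc (sel b (p.cr z j) ^^^ d) := by
    intro z d b j hj hd
    have hg : pw b (D.gen gA gB j) ∈ D.zcent := by
      cases b
      · exact one_mem _
      · show D.gen gA gB j ∈ D.zcent
        unfold gen
        interval_cases j
        exacts [D.P_le_zcent D.t_mem_P, D.P_le_zcent (D.A_le _ (D.elem_mem (by norm_num))),
          D.P_le_zcent (D.A_le _ (D.elem_mem (by norm_num))), h.gens.zA D, h.gens.zB D]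
    rw [mul_assoc, ← D.zc_commute hg d, ← mul_assoc, h.W_mul_pw z b hj, mul_assoc,
      ← D.zc_mul (sel_lt (p.cr_lt h.c_lt h.qa_lt h.qb_lt z j)) hd]
  have hlt : ∀ z j, sel (y.testBit j) (p.cr z j) < 4 := fun z j => sel_lt (p.cr_lt h.c_lt h.qa_lt h.qb_lt z j)
  have e : D.W gA gB y = pw (y.testBit 0) (D.gen gA gB 0) * pw (y.testBit 1) (D.gen gA gB 1) *
      pw (y.testBit 2) (D.gen gA gB 2) * pw (y.testBit 3) (D.gen gA gB 3) * pw (y.testBit 4) (D.gen gA gB 4) := rfl
  set r0 := sel (y.testBit 0) (p.cr x 0) with hr0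
  rw [e, ← mul_assoc, ← mul_assoc, ← mul_assoc, ← mul_assoc, h.W_mul_pw x _ (by norm_num),
    step _ _ _ (by norm_num) (hlt x 0)]
  rw [step _ _ _ (by norm_num) (xor_lt_four (hlt _ _) (hlt _ _)),
    step _ _ _ (by norm_num) (xor_lt_four (hlt _ _) (xor_lt_four (hlt _ _) (hlt _ _))),
    step _ _ _ (by norm_num) (xor_lt_four (hlt _ _) (xor_lt_four (hlt _ _) (xor_lt_four (hlt _ _) (hlt _ _))))]
  congr 1
  · refine W_congr fun i hi => ?_
    simp only [Nat.testBit_xor]
    have hs : ∀ (b : Bool) (k : ℕ), (sel b (2 ^ k)).testBit i = (b && decide (k = i)) := by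
      intro b k
      cases b <;> simp [sel, Nat.testBit_two_pow]
    rw [hs, hs, hs, hs, hs]
    interval_cases i <;> simp
  · congr 1
    simp only [Par.beta, p.cr_sel _ _ (by norm_num : 0 < 1) (by norm_num),
      p.cr_sel _ _ (by norm_num : 0 < 2) (by norm_num), p.cr_sel _ _ (by norm_num : 1 < 2) (by norm_num),
      p.cr_sel _ _ (by norm_num : 0 < 3) (by norm_num), p.cr_sel _ _ (by norm_num : 1 < 3) (by norm_num),
      p.cr_sel _ _ (by norm_num : 2 < 3) (by norm_num), p.cr_sel _ _ (by norm_num : 0 < 4) (by norm_num),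
      p.cr_sel _ _ (by norm_num : 1 < 4) (by norm_num), p.cr_sel _ _ (by norm_num : 2 < 4) (by norm_num),
      p.cr_sel _ _ (by norm_num : 3 < 4) (by norm_num)]
    simp only [hr0, Nat.xor_comm, Nat.xor_left_comm, Nat.xor_assoc]

theorem Rels.wz_mul (h : D.Rels p gA gB) (x y : ℕ) {c d : ℕ} (hc : c < 4) (hd : d < 4) :
    D.W gA gB x * D.zc c * (D.W gA gB y * D.zc d) =
      D.W gA gB (x ^^^ y) * D.zc (p.beta x y ^^^ (c ^^^ d)) := by
  rw [D.zc_mul (p.beta_lt h.c_lt h.qa_lt h.qb_lt x y) (xor_lt_four hc hd), D.zc_mul hc hd, ← mul_assoc _ (D.zc _),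
    ← h.W_mul, mul_assoc (D.W gA gB x), ← mul_assoc (D.zc c), ← D.zc_commute (h.W_zcent y) c]
  group

theorem zc_inj {c d : ℕ} (hc : c < 4) (hd : d < 4) (h : D.zc c = D.zc d) : c = d :=
  zcM_inj c hc d hd (D.f_inj h)

theorem Rels.W_trivial (h : D.Rels p gA gB) {x c : ℕ} (hx : x < 32) (hc : c < 4)
    (he : D.W gA gB x * D.zc c = 1) : x = 0 ∧ c = 0 := by
  have hW : D.W gA gB x = (D.zc c)⁻¹ := eq_inv_of_mul_eq_one_left he
  have e1 : D.W gA gB x * D.t = D.t * D.W gA gB x := by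
    rw [hW]
    exact (Commute.inv_left (D.zc_commute (D.P_le_zcent D.t_mem_P) c).symm).eq
  have b0 : Nat.testBit 1 0 = true := by decide
  have bs : ∀ i < 5, i ≠ 0 → Nat.testBit 1 i = false := by decide
  have e2 : D.W gA gB 1 = D.t := by
    simp [W, pw, bs 1, bs 2, bs 3, bs 4]
  have e3 : D.W gA gB x * D.t = D.W gA gB (x ^^^ 1) * D.zc (p.cr x 0) := h.W_mul_gen x (j := 0) (by norm_num)
  have e4 : D.t * D.W gA gB x = D.W gA gB (x ^^^ 1) * D.zc 0 := by
    conv_lhs => rw [← e2, h.W_mul 1 x, Nat.xor_comm 1 x]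
    congr 2
    simp [Par.beta, Par.cr, sel, bs 1, bs 2, bs 3, bs 4]
  rw [e3, e4] at e1
  have h0 : p.cr x 0 = 0 := zc_inj (p.cr_lt h.c_lt h.qa_lt h.qb_lt x 0) (by norm_num) (mul_left_cancel e1)
  have key : ∀ x < 32, sel (x.testBit 3) 1 ^^^ sel (x.testBit 4) 3 = 0 → x < 8 := by decide +kernel
  have hx8 := key x hx h0
  have hmodel : D.W gA gB x * D.zc c = D.f ((if x.testBit 0 then tau else 1) *
      (if x.testBit 1 then (side false).el 2 else 1) * (if x.testBit 2 then (side true).el 2 else 1) * zcM c) := by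
    have b3 : x.testBit 3 = false := Nat.testBit_lt_two_pow (by omega)
    have b4 : x.testBit 4 = false := Nat.testBit_lt_two_pow (by omega)
    unfold W
    rw [b3, b4, map_mul, map_mul, map_mul, zc, elem, elem]
    cases x.testBit 0 <;> cases x.testBit 1 <;> cases x.testBit 2 <;> simp [pw, D.f_tau]
  have key2 : ∀ x < 8, ∀ c < 4, ((if x.testBit 0 then tau else 1) *
      (if x.testBit 1 then (side false).el 2 else 1) * (if x.testBit 2 then (side true).el 2 else 1) * zcM c : M6) = 1 →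
        x = 0 ∧ c = 0 := by decide +kernel
  refine key2 x hx8 c hc (D.f_inj ?_)
  rw [← hmodel, he, map_one]

end Cfg

end CfsgLib.TwoSymSix
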