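import Cfsg.Agent.Lib.Rec.TwoSymSix.TOneGroup

/-!
# The conjugates of `t` in the normalizer of `P` without interchanges
-/

set_option autoImplicit false
set_option synthInstance.maxSize 4000
set_option linter.unusedSectionVars false

namespace CfsgLib.TwoSymSix

attribute [local instance 10000] List.decidableBAll List.decidableBEx Finset.decidableDforallFinset

open Equiv Subgroup

theorem twoValues_of {l : List ℕ} (h : ∀ a ∈ l, ∀ b ∈ l, a ≠ 0 → b ≠ 0 → a = b) : twoValues l = true := by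
  unfold twoValues
  cases e : l.filter (· != 0) with
  | nil => rfl
  | cons a r =>
    have hm : ∀ y ∈ a :: r, y ∈ l ∧ y ≠ 0 := fun y hy => by
      rw [← e] at hy
      simpa using hy
    simp only [List.all_eq_true, beq_iff_eq]
    intro y hy
    exact h y (hm y (List.mem_cons_of_mem _ hy)).1 a (hm a (List.mem_cons_self ..)).1
      (hm y (List.mem_cons_of_mem _ hy)).2 (hm a (List.mem_cons_self ..)).2

theorem range32_split : List.range 32 = (((List.range 8).map (8 * 0 + ·)) ++ ((List.range 8).map (8 * 1 + ·)) ++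
    ((List.range 8).map (8 * 2 + ·)) ++ ((List.range 8).map (8 * 3 + ·))) := by decide

/-- The coordinate of an element of `P` in the model. -/
def lowModel (x : ℕ) : M6 :=
  (if x.testBit 0 then tau else 1) * (if x.testBit 1 then (side false).el 2 else 1) *
    (if x.testBit 2 then (side true).el 2 else 1)

theorem lowModel_spec : ∀ x < 8, lowModel x ∈ pFin ∧ nfTypes.ind (lowModel x) = decide (x ∈ [1, 3, 5]) := by
  decide +kernel

theorem zcM_nfTypes : ∀ c < 4, nfTypes.ind (zcM c) = false ∧ zcM c * zcM c = 1 := by decide +kernel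

namespace Cfg

variable {G : Type*} [Group G] [Finite G] {n : ℕ} (D : Cfg G n)

/-- The elements whose coordinate has a property. -/
def img (gA gB : G) (f : ℕ → Bool) : Set G :=
  {y | ∃ x < 32, ∃ c < 4, f x = true ∧ D.W gA gB x * D.zc c = y}

open Classical in
/-- The coordinates of conjugates of `t`. -/
noncomputable def conjSet (gA gB : G) : List ℕ :=
  (List.range 32).filter fun x => decide (IsConj D.t (D.W gA gB x))

variable {D} {p : Par} {gA gB : G}

theorem mem_conjSet {x : ℕ} : x ∈ D.conjSet gA gB ↔ x < 32 ∧ IsConj D.t (D.W gA gB x) := by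
  classical
  unfold conjSet
  rw [List.mem_filter, List.mem_range, decide_eq_true_eq]

theorem zc_not_conj (hN : D.types = nfTypes) {c : ℕ} (hc : c < 4) : ¬ IsConj D.t (D.zc c) := by
  rw [zc, D.ind_spec (zList_central _ (zcM_mem c)).1, hN, (zcM_nfTypes c hc).1]
  simp

theorem Rels.inj (h : D.Rels p gA gB) {x y c d : ℕ} (hx : x < 32) (hy : y < 32) (hc : c < 4) (hd : d < 4)
    (e : D.W gA gB x * D.zc c = D.W gA gB y * D.zc d) : x = y ∧ c = d := by
  have hyy := h.wz_mul y y hd hd
  rw [Nat.xor_self, Nat.xor_self, Nat.xor_zero] at hyy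
  have hmix := h.wz_mul x y hc hd
  rw [e, hyy] at hmix
  have hlt := p.beta_lt h.c_lt h.qa_lt h.qb_lt
  have hinv : D.zc (p.beta y y) * D.zc (p.beta y y) = 1 := by
    rw [← D.zc_mul (hlt y y) (hlt y y), Nat.xor_self, D.zc_zero]
  have hW0 : D.W gA gB 0 = 1 := by simp [W, pw]
  rw [hW0, one_mul] at hmix
  have h1 : D.W gA gB (x ^^^ y) * D.zc ((p.beta x y ^^^ (c ^^^ d)) ^^^ p.beta y y) = 1 := by
    rw [D.zc_mul (xor_lt_four (hlt x y) (xor_lt_four hc hd)) (hlt y y), ← mul_assoc, ← hmix, hinv]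
  obtain ⟨e1, e2⟩ := h.W_trivial (Nat.xor_lt_two_pow (n := 5) hx hy)
    (xor_lt_four (xor_lt_four (hlt x y) (xor_lt_four hc hd)) (hlt y y)) h1
  obtain rfl : x = y := by
    have := congrArg (· ^^^ y) e1
    simpa [Nat.xor_assoc] using this
  refine ⟨rfl, ?_⟩
  rw [Nat.xor_comm (p.beta x x), Nat.xor_assoc, Nat.xor_self, Nat.xor_zero] at e2
  have := congrArg (· ^^^ d) e2
  simpa [Nat.xor_assoc] using this

theorem Rels.img_all (h : D.Rels p gA gB) (hN : D.types = nfTypes) :
    D.img gA gB (fun _ => true) = (normalizer (D.P : Set G) : Set G) := by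
  classical
  have hsub : D.img gA gB (fun _ => true) ⊆ (normalizer (D.P : Set G) : Set G) := by
    rintro _ ⟨x, -, c, -, -, rfl⟩
    exact mul_mem (h.W_mem x) (le_normalizer (D.zc_mem_P c))
  refine Set.eq_of_subset_of_ncard_le hsub ?_ (Set.toFinite _)
  rw [← Nat.card_coe_set_eq, SetLike.coe_sort_coe, D.card_norm_P hN, ← Nat.card_coe_set_eq]
  calc 128 = Nat.card (Fin 32 × Fin 4) := by simp
    _ ≤ _ := Nat.card_le_card_of_injective (fun q => (⟨D.W gA gB q.1 * D.zc q.2,
        q.1, q.1.isLt, q.2, q.2.isLt, rfl, rfl⟩ : D.img gA gB fun _ => true)) fun a b e => by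
      obtain ⟨e1, e2⟩ := h.inj a.1.isLt b.1.isLt a.2.isLt b.2.isLt (congrArg Subtype.val e)
      exact Prod.ext (Fin.ext e1) (Fin.ext e2)

theorem Rels.card_img (h : D.Rels p gA gB) (f : ℕ → Bool) :
    Nat.card (D.img gA gB f) = 4 * num (List.range 32) f := by
  classical
  have hnd : ((List.range 32).filter f).Nodup := List.nodup_range.filter _
  rw [num, ← List.toFinset_card_of_nodup hnd, mul_comm, show 4 = Fintype.card (Fin 4) by simp,
    ← Nat.card_eq_finsetCard, ← Nat.card_eq_fintype_card, ← Nat.card_prod]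
  have hm : ∀ q : ((List.range 32).filter f).toFinset, q.1 < 32 ∧ f q.1 = true := fun q => by
    simpa using List.mem_toFinset.1 q.2
  refine (Nat.card_congr (Equiv.ofBijective (fun q : ((List.range 32).filter f).toFinset × Fin 4 =>
    (⟨D.W gA gB q.1.1 * D.zc q.2, q.1.1, (hm q.1).1, q.2, q.2.isLt, (hm q.1).2, rfl⟩ : D.img gA gB f))
    ⟨fun a b e => ?_, ?_⟩)).symm
  · obtain ⟨e1, e2⟩ := h.inj (hm a.1).1 (hm b.1).1 a.2.isLt b.2.isLt (congrArg Subtype.val e)
    exact Prod.ext (Subtype.ext e1) (Fin.ext e2)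
  · rintro ⟨_, x, hx, c, hc, hf, rfl⟩
    exact ⟨(⟨x, by simp [hx, hf]⟩, ⟨c, hc⟩), rfl⟩

theorem Rels.conj_iff (h : D.Rels p gA gB) (hN : D.types = nfTypes) {x c : ℕ} (hc : c < 4) :
    IsConj D.t (D.W gA gB x * D.zc c) ↔ IsConj D.t (D.W gA gB x) := by
  by_cases h0 : c = 0
  · subst h0; rw [D.zc_zero, mul_one]
  have hne : D.zc c ≠ 1 := fun e => h0 (zc_inj hc (by norm_num) (e.trans D.zc_zero.symm))
  have hz2 : D.zc c * D.zc c = 1 := by rw [← D.zc_mul hc hc, Nat.xor_self, D.zc_zero]
  have step : ∀ {y : G}, y ∈ D.zcent → IsConj D.t y → IsConj D.t (y * D.zc c) := by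
    intro y hy hI
    exact (D.rule hN hI hz2 (D.zc_commute hy c).symm hne fun e => zc_not_conj hN hc (e ▸ hI)).2
      (zc_not_conj hN hc)
  refine ⟨fun hI => ?_, fun hI => step (h.W_zcent x) hI⟩
  have hm : D.W gA gB x * D.zc c ∈ D.zcent := mul_mem (h.W_zcent x) (D.P_le_zcent (D.zc_mem_P c))
  simpa [mul_assoc, hz2] using step hm hI

theorem Rels.cnt_img (h : D.Rels p gA gB) (hN : D.types = nfTypes) (f : ℕ → Bool) :
    cnt D.t (D.img gA gB f) = 4 * num (D.conjSet gA gB) f := by
  classical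
  have e : num (D.conjSet gA gB) f =
      num (List.range 32) (fun x => f x && decide (IsConj D.t (D.W gA gB x))) := by
    rw [num, num, conjSet, List.filter_filter]
  rw [e, ← h.card_img, cnt]
  refine Nat.card_congr (Equiv.subtypeEquivRight fun y => ?_)
  constructor
  · rintro ⟨⟨x, hx, c, hc, hf, rfl⟩, hI⟩
    exact ⟨x, hx, c, hc, by simp only [hf, decide_eq_true ((h.conj_iff hN hc).1 hI), Bool.and_self], rfl⟩
  · rintro ⟨x, hx, c, hc, hf, rfl⟩
    simp only [Bool.and_eq_true, decide_eq_true_eq] at hf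
    exact ⟨⟨x, hx, c, hc, hf.1, rfl⟩, (h.conj_iff hN hc).2 hf.2⟩

theorem Rels.cnt_TOne (h : D.Rels p gA gB) (hN : D.types = nfTypes) :
    cnt D.t (normalizer (D.P : Set G) : Set G) = 4 * (D.conjSet gA gB).length := by
  rw [← h.img_all hN, h.cnt_img hN]
  simp [num]

theorem Rels.W_exists (h : D.Rels p gA gB) (hN : D.types = nfTypes) {y : G} (hy : y ∈ normalizer (D.P : Set G)) :
    ∃ x < 32, ∃ c < 4, D.W gA gB x * D.zc c = y := by
  have hy' : y ∈ D.img gA gB (fun _ => true) := by rw [h.img_all hN]; exact hy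
  obtain ⟨x, hx, c, hc, -, e⟩ := hy'
  exact ⟨x, hx, c, hc, e⟩

theorem Rels.dvd_of_even (h : D.Rels p gA gB) (hN : D.types = nfTypes) {k : ℕ} {Q : Set G}
    (hQ : 2 * Nat.card (normalizer (D.P : Set G)) ∣ Nat.card (centralizer ({D.t} : Set G)) * cnt D.t Q)
    (hk : cnt D.t Q = 4 * k) : k % 2 = 0 := by
  obtain ⟨m, hm, hc⟩ := D.card_cen
  rw [D.card_norm_P hN, hc, hk, show 32 * m * (4 * k) = 128 * (m * k) by ring,
    show 2 * 128 = 128 * 2 from rfl] at hQ
  have h2 : 2 ∣ m * k := Nat.dvd_of_mul_dvd_mul_left (by norm_num) hQ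
  rcases Nat.prime_two.dvd_mul.1 h2 with h3 | h3
  · exact absurd h3 (fun h3 => Nat.not_even_iff_odd.2 hm (even_iff_two_dvd.2 h3))
  · omega

theorem Rels.even_bit (h : D.Rels p gA gB) (hN : D.types = nfTypes) {i : ℕ} :
    num (D.conjSet gA gB) (·.testBit i) % 2 = 0 := by
  classical
  choose xf hx cf hc he using fun y : normalizer (D.P : Set G) => h.W_exists hN y.2
  let χ : normalizer (D.P : Set G) →* ℤˣ := MonoidHom.mk' (fun y => if (xf y).testBit i then -1 else 1) fun y z => by
    have e : xf (y * z) = xf y ^^^ xf z := by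
      refine (h.inj (x := xf (y * z)) (c := cf (y * z)) (d := p.beta (xf y) (xf z) ^^^ (cf y ^^^ cf z)) (hx _)
        (Nat.xor_lt_two_pow (n := 5) (hx y) (hx z)) (hc _)
        (xor_lt_four (p.beta_lt h.c_lt h.qa_lt h.qb_lt _ _) (xor_lt_four (hc y) (hc z))) ?_).1
      rw [he, ← h.wz_mul _ _ (hc y) (hc z), he, he]
      rfl
    simp only [e, Nat.testBit_xor]
    cases (xf y).testBit i <;> cases (xf z).testBit i <;> simp
  have e : {y | ∃ hy : y ∈ normalizer (D.P : Set G), χ ⟨y, hy⟩ = -1} = D.img gA gB (·.testBit i) := by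
    ext y
    constructor
    · rintro ⟨hy, hv⟩
      refine ⟨_, hx ⟨y, hy⟩, _, hc ⟨y, hy⟩, ?_, he ⟨y, hy⟩⟩
      by_contra hb
      simp only [χ, MonoidHom.mk'_apply, if_neg hb] at hv
      exact absurd hv (by decide)
    · rintro ⟨x, hx', c, hc', hf, rfl⟩
      have hy : D.W gA gB x * D.zc c ∈ normalizer (D.P : Set G) :=
        mul_mem (h.W_mem x) (le_normalizer (D.zc_mem_P c))
      refine ⟨hy, ?_⟩
      have := (h.inj (hx ⟨_, hy⟩) hx' (hc _) hc' (he ⟨_, hy⟩)).1
      simp [χ, this, hf]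
  have ht := transfer_dvd D.hno D.orderOf_t (normalizer (D.P : Set G)) χ
  rw [e] at ht
  exact h.dvd_of_even hN ht (h.cnt_img hN _)

theorem dvd_768 (hN : D.types = nfTypes)
    (hsw : ∀ k ∈ normalizer (D.P : Set G), k ∈ normalizer (D.A false : Set G)) : 768 ∣ Nat.card G := by
  have h := (normalizer (D.A false : Set G)).card_subgroup_dvd_card
  rwa [D.card_normA hN, (D.sw_orb hN hsw false).1] at h

theorem Rels.even_length (h : D.Rels p gA gB) (hN : D.types = nfTypes)
    (hsw : ∀ k ∈ normalizer (D.P : Set G), k ∈ normalizer (D.A false : Set G)) :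
    (D.conjSet gA gB).length % 2 = 0 := by
  refine h.dvd_of_even hN ((parity_iff D.tt _).1 ?_) (h.cnt_TOne hN)
  rw [D.card_norm_P hN]
  exact dvd_trans (by norm_num) (D.dvd_768 hN hsw)

theorem Rels.isPGroup_TOne (hN : D.types = nfTypes) : IsPGroup 2 (normalizer (D.P : Set G)) :=
  IsPGroup.of_card (n := 7) (by rw [D.card_norm_P hN]; norm_num)

theorem Rels.br_zero_iff (h : D.Rels p gA gB) (x y : ℕ) {c : ℕ} (hc : c < 4) :
    (D.W gA gB x * D.zc c) * D.W gA gB y = D.W gA gB y * (D.W gA gB x * D.zc c) ↔ p.br y x = 0 := by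
  have hlt := p.beta_lt h.c_lt h.qa_lt h.qb_lt
  have e1 := h.wz_mul x y hc (d := 0) (by norm_num)
  have e2 := h.wz_mul y x (c := 0) (by norm_num) hc
  rw [D.zc_zero, mul_one] at e1 e2
  rw [e1, e2, Nat.xor_comm y x, Par.br, Nat.xor_zero, Nat.zero_xor, mul_left_cancel_iff]
  constructor
  · intro e
    have := zc_inj (xor_lt_four (hlt x y) hc) (xor_lt_four (hlt y x) hc) e
    have h2 := congrArg (· ^^^ c) this
    simp only [Nat.xor_assoc, Nat.xor_self, Nat.xor_zero] at h2
    rw [h2, Nat.xor_self]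
  · intro e
    have : p.beta y x = p.beta x y := by
      have := congrArg (· ^^^ p.beta x y) e
      simpa [Nat.xor_assoc] using this
    rw [this]

theorem Rels.sq_W (h : D.Rels p gA gB) (x : ℕ) : D.W gA gB x * D.W gA gB x = D.zc (p.sq x) := by
  rw [h.W_mul, Nat.xor_self, show D.W gA gB 0 = 1 by simp [W, pw], one_mul, Par.sq]

theorem Rels.admissible (h : D.Rels p gA gB) (hN : D.types = nfTypes) {y : ℕ}
    (hy : y ∈ D.conjSet gA gB) : p.admissible y = true := by
  classical
  obtain ⟨-, hI⟩ := mem_conjSet.1 hy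
  set Q := normalizer (D.P : Set G) ⊓ centralizer ({D.W gA gB y} : Set G) with hQdef
  have hQ : IsPGroup 2 Q := (isPGroup_TOne hN).to_le inf_le_left
  have hQy : ∀ q ∈ Q, q * D.W gA gB y = D.W gA gB y * q := fun q hq =>
    mem_centralizer_singleton_iff.1 (mem_inf.1 hq).2
  have hmem : ∀ x, x ∈ p.cenList y → D.W gA gB x ∈ Q := by
    intro x hx
    have hb : p.br y x = 0 := by simpa [Par.cenList] using (List.mem_filter.1 hx).2
    refine mem_inf.2 ⟨h.W_mem x, mem_centralizer_singleton_iff.2 ?_⟩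
    simpa [D.zc_zero] using (h.br_zero_iff x y (c := 0) (by norm_num)).2 hb
  have hlt := p.beta_lt h.c_lt h.qa_lt h.qb_lt
  simp only [Par.admissible, Bool.and_eq_true, beq_iff_eq, decide_eq_true_eq]
  refine ⟨⟨?_, ?_⟩, twoValues_of ?_⟩
  · refine zc_inj (D := D) (hlt y y) (by norm_num : 0 < 4) ?_
    rw [← h.sq_W, D.zc_zero]
    exact (D.invol_of_isConj hI).1
  · have hle := D.card_le_32 hI hQ hQy
    have hsub : D.img gA gB (fun x => p.br y x == 0) ⊆ (Q : Set G) := by
      rintro _ ⟨x, -, c, hc, hf, rfl⟩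
      refine mem_inf.2 ⟨mul_mem (h.W_mem x) (le_normalizer (D.zc_mem_P c)), mem_centralizer_singleton_iff.2 ?_⟩
      exact (h.br_zero_iff x y hc).2 (by simpa using hf)
    have h1 := Nat.card_mono (Set.toFinite _) hsub
    rw [h.card_img] at h1
    have e : num (List.range 32) (fun x => p.br y x == 0) = (p.cenList y).length := rfl
    rw [e] at h1
    have : Nat.card (Q : Set G) = Nat.card Q := rfl
    omega
  · intro a ha b hb ha0 hb0
    obtain ⟨x₁, hx₁, rfl⟩ := List.mem_map.1 ha
    obtain ⟨x₂, hx₂, rfl⟩ := List.mem_map.1 hb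
    refine zc_inj (D := D) (hlt _ _) (hlt _ _) ?_
    show D.zc (p.sq x₁) = D.zc (p.sq x₂)
    rw [← h.sq_W, ← h.sq_W]
    refine D.sq_unique hI hQ hQy (hmem _ hx₁) (hmem _ hx₂) ?_ ?_
    · rw [h.sq_W, ← D.zc_zero]; exact fun e => ha0 (zc_inj (hlt _ _) (by norm_num) e)
    · rw [h.sq_W, ← D.zc_zero]; exact fun e => hb0 (zc_inj (hlt _ _) (by norm_num) e)

theorem W_two : D.W gA gB 2 = D.elem false 2 ∧ D.W gA gB 4 = D.elem true 2 := by
  have h2 : ∀ i < 5, Nat.testBit 2 i = decide (i = 1) := by decide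
  have h4 : ∀ i < 5, Nat.testBit 4 i = decide (i = 2) := by decide
  constructor
  · simp [W, pw, h2 0, h2 1, h2 2, h2 3, h2 4]
  · simp [W, pw, h4 0, h4 1, h4 2, h4 3, h4 4]

theorem Rels.closed_step (h : D.Rels p gA gB) (hN : D.types = nfTypes) {y e : ℕ} (b : Bool) (he : e < 32)
    (hW : D.W gA gB e = D.elem b 2) (hy : y ∈ D.conjSet gA gB) (hb : p.br y e = 0) :
    y ^^^ e ∈ D.conjSet gA gB := by
  obtain ⟨hy', hI⟩ := mem_conjSet.1 hy
  refine mem_conjSet.2 ⟨Nat.xor_lt_two_pow (n := 5) hy' he, ?_⟩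
  have hne : ¬ IsConj D.t (D.W gA gB e) := by
    rw [hW, D.isConj_elem hN (by norm_num)]; decide
  have hcomm : D.W gA gB e * D.W gA gB y = D.W gA gB y * D.W gA gB e := by
    simpa [D.zc_zero] using (h.br_zero_iff e y (c := 0) (by norm_num)).2 hb
  have h1 := (D.rule hN hI (by rw [hW]; exact D.A_sq (D.elem_mem (by norm_num))) hcomm
    (fun e0 => by
      rw [hW, ← D.elem_zero b] at e0
      exact absurd (side_el_inj b 2 (by norm_num) 0 (by norm_num) (D.f_inj e0)) (by decide))
    (fun e0 => hne (e0 ▸ hI))).2 hne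
  rw [h.W_mul] at h1
  exact (h.conj_iff hN (p.beta_lt h.c_lt h.qa_lt h.qb_lt _ _)).1 h1

theorem Rels.low_column (h : D.Rels p gA gB) (hN : D.types = nfTypes) {x : ℕ} (hx : x < 8) :
    IsConj D.t (D.W gA gB x) ↔ x ∈ [1, 3, 5] := by
  have e : D.W gA gB x = D.f (lowModel x) := by
    have b3 : x.testBit 3 = false := Nat.testBit_lt_two_pow (by omega)
    have b4 : x.testBit 4 = false := Nat.testBit_lt_two_pow (by omega)
    unfold W lowModel
    rw [b3, b4, map_mul, map_mul, elem, elem]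
    cases x.testBit 0 <;> cases x.testBit 1 <;> cases x.testBit 2 <;> simp [pw, D.f_tau]
  obtain ⟨h1, h2⟩ := lowModel_spec x hx
  rw [e, D.ind_spec (mem_pFin.1 h1), hN, h2, decide_eq_true_eq]

/-- Only four cases remain. -/
theorem Rels.cases (h : D.Rels p gA gB) (hN : D.types = nfTypes)
    (hsw : ∀ k ∈ normalizer (D.P : Set G), k ∈ normalizer (D.A false : Set G)) :
    caseA p (D.conjSet gA gB) = true ∨ caseB (D.conjSet gA gB) = true ∨ caseC p (D.conjSet gA gB) = true ∨
      caseD p (D.conjSet gA gB) = true := by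
  classical
  let I : ℕ → Bool := fun x => decide (IsConj D.t (D.W gA gB x))
  let col : ℕ → List ℕ := fun X => ((List.range 8).map (8 * X + ·)).filter I
  have e0 : col 0 = [1, 3, 5] := by
    have e : col 0 = ((List.range 8).map (8 * 0 + ·)).filter (fun x => decide (x ∈ [1, 3, 5])) := by
      refine List.filter_congr fun x hx => ?_
      obtain ⟨i, hi, rfl⟩ := List.mem_map.1 hx
      exact decide_eq_decide.2 (h.low_column hN (by simpa using hi))
    rw [e]; decide
  have eS : D.conjSet gA gB = [1, 3, 5] ++ col 1 ++ col 2 ++ col 3 := by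
    rw [← e0, conjSet, range32_split, List.filter_append, List.filter_append, List.filter_append]
  have hmemS : ∀ X < 4, ∀ y ∈ col X, y ∈ D.conjSet gA gB := by
    intro X hX y hy
    obtain ⟨hy1, hy2⟩ := List.mem_filter.1 hy
    obtain ⟨i, hi, rfl⟩ := List.mem_map.1 hy1
    exact mem_conjSet.2 ⟨by rw [List.mem_range] at hi; omega, by simpa [I] using hy2⟩
  have hcol : ∀ X < 4, col X ∈ p.column X := by
    intro X hX
    refine List.mem_filter.2 ⟨List.mem_sublists.2 ?_, ?_⟩
    · have e : col X = (((List.range 8).map (8 * X + ·)).filter p.admissible).filter I := by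
        rw [List.filter_filter]
        refine List.filter_congr fun x hx => ?_
        by_cases hI : I x = true
        · obtain ⟨i, hi, rfl⟩ := List.mem_map.1 hx
          have hxS : 8 * X + i ∈ D.conjSet gA gB :=
            mem_conjSet.2 ⟨by rw [List.mem_range] at hi; omega, by simpa [I] using hI⟩
          simp [hI, h.admissible hN hxS]
        · simp [hI]
      rw [e]
      exact List.filter_sublist
    · simp only [Par.closedE, List.all_eq_true, Bool.and_eq_true, Bool.or_eq_true, bne_iff_ne,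
        List.contains_iff_mem]
      intro y hy
      have step : ∀ e ∈ [2, 4], p.br y e = 0 → y ^^^ e ∈ col X := by
        intro e he hb
        obtain ⟨b, he32, hW⟩ : ∃ b, e < 32 ∧ D.W gA gB e = D.elem b 2 := by
          simp only [List.mem_cons, List.not_mem_nil, or_false] at he
          rcases he with rfl | rfl
          exacts [⟨false, by norm_num, W_two.1⟩, ⟨true, by norm_num, W_two.2⟩]
        have hS := h.closed_step hN b he32 hW (hmemS X hX y hy) hb
        obtain ⟨-, hS'⟩ := mem_conjSet.1 hS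
        obtain ⟨hy1, -⟩ := List.mem_filter.1 hy
        refine List.mem_filter.2 ⟨?_, by simpa [I] using hS'⟩
        obtain ⟨i, hi, rfl⟩ := List.mem_map.1 hy1
        have key : ∀ X < 4, ∀ i < 8, ∀ e ∈ [2, 4],
            (8 * X + i) ^^^ e ∈ (List.range 8).map (8 * X + ·) := by decide +kernel
        exact key X hX i (List.mem_range.1 hi) e he
      constructor
      · by_cases hb : p.br y 2 = 0
        exacts [Or.inr (step 2 (by simp) hb), Or.inl hb]
      · by_cases hb : p.br y 4 = 0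
        exacts [Or.inr (step 4 (by simp) hb), Or.inl hb]
  have hbal : balanced (D.conjSet gA gB) = true := by
    simp only [balanced, Bool.and_eq_true, beq_iff_eq, List.all_eq_true]
    exact ⟨h.even_length hN hsw, fun i _ => h.even_bit hN⟩
  have h4 := fourCases_all p h.c_lt h.qa_lt h.qb_lt
  simp only [Par.fourCases, List.all_eq_true] at h4
  have h5 := h4 _ (hcol 1 (by norm_num)) _ (hcol 2 (by norm_num)) _ (hcol 3 (by norm_num))
  rw [← eS] at h5
  simpa [hbal, or_assoc] using h5

end Cfg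

end CfsgLib.TwoSymSix
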