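import Cfsg.Agent.Lib.Rec.TwoSymSix.StageA2

/-!
# The normal form of the configuration
-/

set_option autoImplicit false
set_option linter.unusedSectionVars false

namespace CfsgLib.TwoSymSix

attribute [local instance 10000] List.decidableBAll List.decidableBEx Finset.decidableDforallFinset

open Equiv Subgroup

/-- The parity of a sign, in the group of order two. -/
def signToTwo : ℤˣ →* Multiplicative (ZMod 2) where
  toFun u := if u = 1 then 1 else Multiplicative.ofAdd 1
  map_one' := by decide
  map_mul' := by decide

/-- The twist of `2 × Sₙ` by the sign. -/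
def twistHom (n : ℕ) : Multiplicative (ZMod 2) × Perm (Fin n) →* Multiplicative (ZMod 2) × Perm (Fin n) :=
  MonoidHom.prod (MonoidHom.fst _ _ * (signToTwo.comp Perm.sign).comp (MonoidHom.snd _ _))
    (MonoidHom.snd _ _)

theorem twistHom_apply {n : ℕ} (i : Multiplicative (ZMod 2)) (π : Perm (Fin n)) :
    twistHom n (i, π) = (i * signToTwo (Perm.sign π), π) := rfl

theorem twistHom_invol {n : ℕ} (x : Multiplicative (ZMod 2) × Perm (Fin n)) : twistHom n (twistHom n x) = x := by
  obtain ⟨i, π⟩ := x
  rw [twistHom_apply, twistHom_apply, mul_assoc, mult_self, mul_one]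

namespace Cfg

variable {G : Type*} [Group G] [Finite G] {n : ℕ} (D : Cfg G n)

/-- The configuration twisted by the sign. -/
def twisted : Cfg G n where
  el := D.el.comp (twistHom n)
  el_inj x y h := by
    have h1 := congrArg (twistHom n) (D.el_inj h)
    rwa [twistHom_invol, twistHom_invol] at h1
  el_cen g := by
    have e : twistHom n (Multiplicative.ofAdd 1, 1) = (Multiplicative.ofAdd 1, 1) := by
      simp [twistHom_apply]
    rw [MonoidHom.comp_apply, e, D.el_cen g]
    constructor
    · rintro ⟨x, rfl⟩
      exact ⟨twistHom n x, by rw [MonoidHom.comp_apply, twistHom_invol]⟩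
    · rintro ⟨x, rfl⟩
      exact ⟨_, rfl⟩
  hno := D.hno
  j := D.j
  facts := D.facts

/-- The sign on six points through the embedding. -/
theorem sign_j (hj : ∀ p, Perm.sign (D.j p) = Perm.sign p) (p : M6) :
    D.twisted.f p = D.f (p.1 * signToTwo (Perm.sign p.2), p.2) := by
  rw [f_apply, f_apply]
  show D.el (twistHom n (p.1, D.j p.2)) = _
  rw [twistHom_apply, hj]

theorem twisted_t : D.twisted.t = D.t := by
  show D.el (twistHom n (Multiplicative.ofAdd 1, 1)) = _
  simp [twistHom_apply, t]

/-- The sign of a permutation of six points is preserved by the embedding. -/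
theorem sign_j_eq (hj : ∀ i j : Fin 6, i ≠ j → Perm.sign (D.j (swap i j)) = -1) (p : Perm (Fin 6)) :
    Perm.sign (D.j p) = Perm.sign p := by
  induction p using Perm.swap_induction_on with
  | one => simp
  | swap_mul f x y hxy ih =>
    rw [map_mul, map_mul, map_mul, ih, hj x y hxy, Perm.sign_swap hxy]

/-- There is a configuration in normal form. -/
theorem exists_normal (hj : ∀ p, Perm.sign (D.j p) = Perm.sign p) :
    ∃ E : Cfg G n, E.types = ⟨true, true, true, false, false⟩ := by
  rcases D.types_cases with h | h
  · exact ⟨D, h⟩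
  · refine ⟨D.twisted, ?_⟩
    have key : ∀ p : M6, IsConj D.twisted.t (D.twisted.f p) ↔
        IsConj D.t (D.f (p.1 * signToTwo (Perm.sign p.2), p.2)) := fun p => by
      rw [twisted_t, D.sign_j hj]
    unfold types at h ⊢
    simp only [key, Types.mk.injEq] at h ⊢
    obtain ⟨h1, h2, h3, h4, h5⟩ := h
    have s1 : signToTwo (Perm.sign pa) = Multiplicative.ofAdd 1 := by decide +kernel
    have s2 : signToTwo (Perm.sign pz) = 1 := by decide +kernel
    have s3 : signToTwo (Perm.sign (pa * pz)) = Multiplicative.ofAdd 1 := by decide +kernel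
    simp only [decide_eq_true_eq, decide_eq_false_iff_not] at h1 h2 h3 h4 h5 ⊢
    rw [key, key, key, key, key]
    simp only [s1, s2, s3, mult_self, one_mul, mul_one]
    exact ⟨h4, h2, h5, h1, h3⟩

end Cfg

end CfsgLib.TwoSymSix
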